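import Mathlib
import Cfsg.Agent.S0023
import Cfsg.Agent.S1450
import Cfsg.Agent.Lib.Helper71.BG11b

/-!
# K-S1417-L4: an `A`-invariant Sylow `r`-subgroup of `M` for `r > p` (BG 11.7)
-/

set_option autoImplicit false

namespace Cfsg.Agent.Lib.Helper18.BG117

open Cfsg Cfsg.Agent.Lib.Helper55 Cfsg.Agent.Lib.Helper31 Cfsg.Agent.Lib.Helper71.BG10
  Cfsg.Agent.Lib.Helper71.BG11

variable {G : Type*} [Group G] [Finite G]

/-- L4. -/
theorem exists_inv_sylow_of_lt (hG : IsMinSimpleOddOrder G) {M A : Subgroup G} (hM : IsCoatom M)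
    {p r : ℕ} [Fact p.Prime] [Fact r.Prime] (hpr : p < r) (hr2 : PRankLE p 2 M)
    (hpM : p ∣ Nat.card M) (hAM : A ≤ M) (hA : IsPGroup p A) :
    ∃ T : Subgroup G, IsSylowIn r M T ∧ A ≤ Subgroup.normalizer (T : Set G) := by
  have hr : r.Prime := Fact.out
  have hsolM : Group.IsSolvable M := ms_solvable hG hM.1
  have hoddM : Odd (Nat.card M) := ms_odd hG M
  -- the structure theorem for `M`
  have h1450 := (Cfsg.Agent.S1450.result (G := ↥M) hoddM p hpM hr2).1
  have hKidx : ¬ r ∣ (pPrimeCore p ↥M).index := by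
    intro hd
    have := h1450 r hr hd
    omega
  -- the coprime action of `A` on `K' = O_{p'}(M)` inside `↥M`
  set K' : Subgroup ↥M := pPrimeCore p ↥M with hK'
  set A' : Subgroup ↥M := A.subgroupOf M with hA'
  have hA'K' : A' ≤ Subgroup.normalizer (K' : Set ↥M) := by
    rw [Subgroup.normalizer_eq_top]
    exact le_top
  have hA'p : IsPGroup p A' := hA.comap_subtype
  have hcop : (Nat.card A').Coprime (Nat.card K') := by
    obtain ⟨k, hk⟩ := IsPGroup.iff_card.1 hA'p
    rw [hk]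
    exact (Nat.Coprime.pow_left k (Cfsg.Agent.Lib.Helper31.card_pPrimeCore_coprime p ↥M).symm)
  have hsolA' : Group.IsSolvable A' := inferInstance
  obtain ⟨P, hP⟩ := Cfsg.Agent.S0023.result A' K' hA'K' hcop (Or.inl hsolA') r
  -- `T'` is a Sylow `r`-subgroup of `↥M`
  set T' : Subgroup ↥M := (P : Subgroup K').map K'.subtype with hT'
  have hT'S : IsSylowIn r K' T' := isSylowIn_of_sylow P
  have hT'idx : ¬ r ∣ T'.index := not_dvd_index_of_isSylowIn hT'S hKidx
  let T'' : Sylow r ↥M := hT'S.2.1.toSylow hT'idx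
  have hT''coe : ((T'' : Sylow r ↥M) : Subgroup ↥M) = T' := IsPGroup.toSylow_coe _ _
  refine ⟨T'.map M.subtype, ?_, ?_⟩
  · have := isSylowIn_of_sylow (K := M) T''
    rwa [hT''coe] at this
  · intro a ha
    have haA' : (⟨a, hAM ha⟩ : ↥M) ∈ A' := by
      rw [hA', Subgroup.mem_subgroupOf]; exact ha
    have h1 : (⟨a, hAM ha⟩ : ↥M) ∈ Subgroup.normalizer (T' : Set ↥M) := hP haA'
    have h2 := Subgroup.le_normalizer_map (H := T') M.subtype
      (Subgroup.mem_map_of_mem M.subtype h1)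
    exact h2

end Cfsg.Agent.Lib.Helper18.BG117
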