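import Mathlib
import Cfsg.Agent.S1414
import Cfsg.Agent.Lib.Helper71.BG10Sub
import Cfsg.Agent.Lib.Helper71.BG10Hall
import Cfsg.Agent.Lib.Helper55.SylowIn

/-!
# Keystone 142854 (K-S1428-Fr): Frattini through the nilpotent quotient `L'/L_β`

`L` maximal, `q ∉ β(L)`, `Y` a Sylow `q`-subgroup of `L'`.  Then `L = L_β · N_L(Y)`.
-/

set_option autoImplicit false
set_option linter.unusedSectionVars false
set_option linter.style.haveILetI false

namespace Cfsg.Agent.Lib.Helper18.BG134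

open Cfsg Cfsg.Agent.Lib.Helper55

variable {G : Type*} [Group G] [Finite G]

/-- `L` normalizes its derived subgroup (as subgroups of `G`). -/
theorem le_normalizer_commutator_self (L : Subgroup G) :
    L ≤ Subgroup.normalizer ((⁅L, L⁆ : Subgroup G) : Set G) := by
  intro x hx
  rw [← cj_eq_self_iff]
  have key : ∀ y ∈ L, cj y ⁅L, L⁆ ≤ ⁅L, L⁆ := by
    intro y hy
    show (⁅L, L⁆ : Subgroup G).map (MulAut.conj y).toMonoidHom ≤ ⁅L, L⁆
    rw [Subgroup.map_commutator]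
    have h1 : L.map (MulAut.conj y).toMonoidHom ≤ L := by
      rintro _ ⟨z, hz, rfl⟩
      simp only [MulEquiv.toMonoidHom_eq_coe, MonoidHom.coe_coe, MulAut.conj_apply]
      exact L.mul_mem (L.mul_mem hy hz) (L.inv_mem hy)
    exact Subgroup.commutator_mono h1 h1
  apply le_antisymm (key x hx)
  rw [le_cj_iff]
  exact key x⁻¹ (L.inv_mem hx)

/-- `X` normalizes `O_π(X)` (as subgroups of `G`). -/
theorem le_normalizer_piCoreOf_self (π : Set ℕ) (X : Subgroup G) :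
    X ≤ Subgroup.normalizer (piCoreOf π X : Set G) := by
  intro x hx
  rw [Subgroup.mem_normalizer_iff]
  have key : ∀ y ∈ X, ∀ g ∈ piCoreOf π X, y * g * y⁻¹ ∈ piCoreOf π X := by
    rintro y hy _ ⟨g, hg, rfl⟩
    refine ⟨⟨y, hy⟩ * g * ⟨y, hy⟩⁻¹, (piCore_normal π ↥X).conj_mem g hg ⟨y, hy⟩, ?_⟩
    simp
  intro g
  constructor
  · exact key x hx g
  · intro h
    have := key x⁻¹ (X.inv_mem hx) _ h
    simpa [mul_assoc] using this

/-- a `q`-subgroup of `K` of index prime to `q` in `K` is a Sylow `q`-subgroup of `K` -/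
theorem isSylowIn_of_not_dvd_relIndex {q : ℕ} [Fact q.Prime] {K T : Subgroup G} (hTK : T ≤ K)
    (hT : IsPGroup q T) (hidx : ¬ q ∣ T.relIndex K) : IsSylowIn q K T := by
  obtain ⟨S, hS, hTS⟩ := exists_isSylowIn_ge hTK hT
  have h1 : T.relIndex S * S.relIndex K = T.relIndex K :=
    Subgroup.relIndex_mul_relIndex _ _ _ hTS hS.1
  have h2 : ¬ q ∣ T.relIndex S := fun h => hidx (by rw [← h1]; exact Dvd.dvd.mul_right h _)
  obtain ⟨n, hn⟩ := hS.2.1.index (T.subgroupOf S)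
  have hn' : T.relIndex S = q ^ n := hn
  have hn0 : n = 0 := by
    by_contra hne
    exact h2 (by rw [hn']; exact dvd_pow_self q hne)
  rw [hn0, pow_zero, Subgroup.relIndex_eq_one] at hn'
  have : T = S := le_antisymm hTS hn'
  rw [this]; exact hS

/-- **Keystone 142854 (Fr)**: for `L` maximal, `q ∉ β(L)` and `Y` a Sylow `q`-subgroup of `L'`,
`L = L_β · N_L(Y)`. -/
theorem frattini_beta (hG : IsMinSimpleOddOrder G) {L : Subgroup G} (hL : IsCoatom L) {q : ℕ}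
    [Fact q.Prime] (hqβ : q ∉ beta L) {Y : Subgroup G} (hY : IsSylowIn q ⁅L, L⁆ Y) :
    ∀ x ∈ L, ∃ b ∈ piCoreOf (beta L) L, ∃ n ∈ L ⊓ Subgroup.normalizer (Y : Set G), x = b * n := by
  obtain ⟨hHall, -, ⟨H₀, hH₀, hnil⟩, -, -⟩ := Cfsg.Agent.S1414.result hG L hL
  have hq : q.Prime := Fact.out
  have hDL : (⁅L, L⁆ : Subgroup G) ≤ L := Helper71.BG10.commutator_self_le L
  have hLD : L ≤ Subgroup.normalizer ((⁅L, L⁆ : Subgroup G) : Set G) :=
    le_normalizer_commutator_self L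
  have hLB : L ≤ Subgroup.normalizer (piCoreOf (beta L) L : Set G) :=
    le_normalizer_piCoreOf_self _ L
  -- `N := L_β ∩ L'`
  obtain ⟨N, hN⟩ : ∃ N : Subgroup G, N = piCoreOf (beta L) L ⊓ ⁅L, L⁆ := ⟨_, rfl⟩
  have hND : N ≤ ⁅L, L⁆ := by rw [hN]; exact inf_le_right
  have hNB : N ≤ piCoreOf (beta L) L := by rw [hN]; exact inf_le_left
  have hLN : L ≤ Subgroup.normalizer (N : Set G) := by
    intro x hx
    rw [← cj_eq_self_iff, hN, cj_inf, cj_eq_self_iff.mpr (hLB hx), cj_eq_self_iff.mpr (hLD hx)]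
  -- no prime of `β(L)` divides `|L' : N|`
  have hb : ∀ p : ℕ, p.Prime → p ∈ beta L → ¬ p ∣ N.relIndex ⁅L, L⁆ := by
    intro p hp hpβ
    haveI : Fact p.Prime := ⟨hp⟩
    obtain ⟨T, hT, -⟩ := exists_isSylowIn_ge (p := p) (K := ⁅L, L⁆) (Z := ⊥) bot_le
      IsPGroup.of_bot
    have hTB : T ≤ piCoreOf (beta L) L := by
      refine Helper71.BG10.le_of_isPiHallOf_normal hHall hLB (hT.1.trans hDL) ?_
      intro r hr hrT
      obtain ⟨n, hn⟩ := hT.2.1.exists_card_eq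
      rw [hn] at hrT
      have : r = p := (Nat.prime_dvd_prime_iff_eq hr hp).mp (hr.dvd_of_dvd_pow hrT)
      rw [this]; exact hpβ
    have hTN : T ≤ N := by rw [hN]; exact le_inf hTB hT.1
    have h1 := Subgroup.relIndex_mul_relIndex T N ⁅L, L⁆ hTN hND
    intro hdvd
    exact Helper71.BG10.sylow_not_dvd_relIndex hT (by rw [← h1]; exact Dvd.dvd.mul_left hdvd _)
  -- `L' = N · H₀`
  have hfac : (⁅L, L⁆ : Subgroup G) ≤ N ⊔ H₀ := by
    rw [← Subgroup.relIndex_eq_one]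
    by_contra hne
    obtain ⟨p, hp, hpd⟩ := Nat.exists_prime_and_dvd hne
    by_cases hpβ : p ∈ beta L
    · exact hb p hp hpβ (hpd.trans (Subgroup.relIndex_dvd_of_le_left _ le_sup_left))
    · exact hH₀.2.2 p hp ⟨hp, hpβ⟩ (hpd.trans (Subgroup.relIndex_dvd_of_le_left _ le_sup_right))
  have hH₀N : H₀ ≤ Subgroup.normalizer (N : Set G) := (hH₀.1.trans hDL).trans hLN
  have hprod : ∀ d ∈ (⁅L, L⁆ : Subgroup G), ∃ n ∈ N, ∃ h ∈ H₀, n * h = d := by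
    intro d hd
    have h1 : d ∈ ((N ⊔ H₀ : Subgroup G) : Set G) := hfac hd
    rw [Subgroup.coe_mul_of_right_le_normalizer_left N H₀ hH₀N] at h1
    exact Set.mem_mul.mp h1
  -- the normal Sylow `q`-subgroup `Q₀` of the nilpotent group `H₀`
  haveI : Group.IsNilpotent ↥H₀ := hnil
  obtain ⟨P⟩ : Nonempty (Sylow q ↥H₀) := inferInstance
  have hPn : (P : Subgroup ↥H₀).Normal := inferInstance
  have hQ₀ : IsSylowIn q H₀ ((P : Subgroup ↥H₀).map H₀.subtype) := isSylowIn_of_sylow P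
  obtain ⟨Q₀, hQ₀def⟩ : ∃ Q₀ : Subgroup G, Q₀ = (P : Subgroup ↥H₀).map H₀.subtype := ⟨_, rfl⟩
  rw [← hQ₀def] at hQ₀
  have hH₀Q : H₀ ≤ Subgroup.normalizer (Q₀ : Set G) := by
    have key : ∀ y ∈ H₀, ∀ g ∈ Q₀, y * g * y⁻¹ ∈ Q₀ := by
      intro y hy g hg
      rw [hQ₀def] at hg ⊢
      obtain ⟨g, hg, rfl⟩ := hg
      refine ⟨⟨y, hy⟩ * g * ⟨y, hy⟩⁻¹, hPn.conj_mem g hg ⟨y, hy⟩, ?_⟩
      simp
    intro x hx
    rw [Subgroup.mem_normalizer_iff]
    intro g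
    constructor
    · exact key x hx g
    · intro h
      have := key x⁻¹ (H₀.inv_mem hx) _ h
      simpa [mul_assoc] using this
  -- `Q₀` is Sylow in `L'`
  have hQ₀D : IsSylowIn q ⁅L, L⁆ Q₀ := by
    refine isSylowIn_of_not_dvd_relIndex (hQ₀.1.trans hH₀.1) hQ₀.2.1 ?_
    rw [← Subgroup.relIndex_mul_relIndex Q₀ H₀ ⁅L, L⁆ hQ₀.1 hH₀.1]
    intro hdvd
    rcases hq.dvd_mul.mp hdvd with h | h
    · exact Helper71.BG10.sylow_not_dvd_relIndex hQ₀ h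
    · exact hH₀.2.2 q hq ⟨hq, hqβ⟩ h
  obtain ⟨c, hcD, hc⟩ := hQ₀D.exists_conj hY
  obtain ⟨n₁, hn₁, h₁, hh₁, hc₁⟩ := hprod c hcD
  have hYn₁ : Y = cj n₁ Q₀ := by
    rw [← hc, ← hc₁, cj_mul, cj_eq_self_iff.mpr (hH₀Q hh₁)]
  -- Frattini
  intro x hx
  have hxY : IsSylowIn q ⁅L, L⁆ (cj x Y) := by
    have := isSylowIn_cj hY x
    rwa [cj_eq_self_iff.mpr (hLD hx)] at this
  obtain ⟨g, hgD, hg⟩ := hY.exists_conj hxY
  obtain ⟨n, hn, h, hh, hgc⟩ := hprod (g * c) (Subgroup.mul_mem _ hgD hcD)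
  have h2 : cj x Y = cj (n * n₁⁻¹) Y := by
    rw [← hg]
    conv_lhs => rw [← hc]
    rw [← cj_mul, ← hgc, cj_mul, cj_eq_self_iff.mpr (hH₀Q hh), cj_mul]
    conv_rhs => rw [hYn₁, cj_inv_cj]
  have hbN : n * n₁⁻¹ ∈ N := N.mul_mem hn (N.inv_mem hn₁)
  have hbL : n * n₁⁻¹ ∈ L := hDL (hND hbN)
  have hnorm : (n * n₁⁻¹)⁻¹ * x ∈ Subgroup.normalizer (Y : Set G) := by
    rw [← cj_eq_self_iff, cj_mul, h2, cj_inv_cj]
  exact ⟨n * n₁⁻¹, hNB hbN, (n * n₁⁻¹)⁻¹ * x, ⟨L.mul_mem (L.inv_mem hbL) hx, hnorm⟩, by group⟩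

end Cfsg.Agent.Lib.Helper18.BG134
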