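import Mathlib
import Cfsg.Agent.Lib.Helper15.BG142Defs2
import Cfsg.Agent.Lib.Helper31.BG12a

/-!
# Keystone 143025 (K-R5): `N_M(X) = K · C_{M_σ}(X)` for `1 ≠ X ≤ K`, `E = U K` Frobenius-like

S1430 pack (architect helper15).
-/

set_option autoImplicit false
set_option linter.unusedSectionVars false
set_option linter.unusedVariables false
set_option linter.style.longLine false

namespace Cfsg.Agent.Lib.Helper18.BG142

open Cfsg Cfsg.Agent.Lib.Helper55 Cfsg.Agent.Lib.Helper31.BG134 Cfsg.Agent.Lib.Helper15.BG139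
  Cfsg.Agent.Lib.Helper15.BG142

variable {G : Type*} [Group G] [Finite G]

/-- KEYSTONE 143025  K-R5. -/
theorem normalizer_inf_eq_of_fac {M E U K X : Subgroup G} (hE : IsComplIn E (sigmaCore M) M)
    (hMn : M ≤ Subgroup.normalizer (sigmaCore M : Set G)) (hUE : U ≤ E) (hKE : K ≤ E)
    (hUn : E ≤ Subgroup.normalizer (U : Set G)) (hUK : U ⊓ K = ⊥)
    (hfac : ∀ e ∈ E, ∃ u ∈ U, ∃ k ∈ K, e = u * k) (hKc : IsMulCommutative K)
    (hfpf : ∀ k ∈ K, k ≠ 1 → U ⊓ Subgroup.centralizer ({k} : Set G) = ⊥)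
    (hXK : X ≤ K) (hX1 : X ≠ ⊥) :
    M ⊓ Subgroup.normalizer (X : Set G) =
      K ⊔ (sigmaCore M ⊓ Subgroup.centralizer (X : Set G)) := by
  obtain ⟨hEM, hσM, hEσ, hfacM⟩ := hE
  have hKcomm : ∀ a ∈ K, ∀ b ∈ K, a * b = b * a := by
    intro a ha b hb
    have h := hKc.is_comm.comm ⟨a, ha⟩ ⟨b, hb⟩
    exact congrArg Subtype.val h
  -- `K` normalizes `X`
  have hKN : K ≤ Subgroup.normalizer (X : Set G) := by
    intro k hk
    rw [Subgroup.mem_normalizer_iff]
    intro h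
    constructor
    · intro hh
      have : k * h * k⁻¹ = h := by
        rw [hKcomm k hk h (hXK hh), mul_assoc, mul_inv_cancel, mul_one]
      rw [this]
      exact hh
    · intro hh
      have h1 : k * h * k⁻¹ ∈ K := hXK hh
      have h2 : h = k⁻¹ * (k * h * k⁻¹) * k := by group
      have h3 : k⁻¹ * (k * h * k⁻¹) * k = k * h * k⁻¹ := by
        rw [mul_assoc, hKcomm _ h1 k hk, ← mul_assoc, inv_mul_cancel, one_mul]
      rw [h2, h3]
      exact hh
  apply le_antisymm
  · rintro m ⟨hmM, hmN⟩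
    obtain ⟨e, he, a, ha, rfl⟩ := hfacM m hmM
    -- `a` centralizes `X`
    have haC : a ∈ Subgroup.centralizer (X : Set G) := by
      rw [Subgroup.mem_centralizer_iff]
      intro x hx
      have hxE : x ∈ E := hKE (hXK hx)
      have hxM : x ∈ M := hEM hxE
      have h1 : e * a * x * (e * a)⁻¹ ∈ X := (Subgroup.mem_normalizer_iff.mp hmN x).mp hx
      have h2 : a * x * a⁻¹ ∈ E := by
        have : a * x * a⁻¹ = e⁻¹ * (e * a * x * (e * a)⁻¹) * e := by group
        rw [this]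
        exact E.mul_mem (E.mul_mem (E.inv_mem he) (hKE (hXK h1))) he
      have h3 : a * x * a⁻¹ * x⁻¹ ∈ E := E.mul_mem h2 (E.inv_mem hxE)
      have h4 : a * x * a⁻¹ * x⁻¹ ∈ sigmaCore M := by
        have h5 : x * a⁻¹ * x⁻¹ ∈ sigmaCore M :=
          (Subgroup.mem_normalizer_iff.mp (hMn hxM) a⁻¹).mp ((sigmaCore M).inv_mem ha)
        have : a * x * a⁻¹ * x⁻¹ = a * (x * a⁻¹ * x⁻¹) := by group
        rw [this]
        exact (sigmaCore M).mul_mem ha h5
      have h6 : a * x * a⁻¹ * x⁻¹ ∈ E ⊓ sigmaCore M := ⟨h3, h4⟩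
      rw [hEσ] at h6
      have h7 : a * x * a⁻¹ * x⁻¹ = 1 := Subgroup.mem_bot.mp h6
      have h8 : a * x = x * a := by
        have : a * x = (a * x * a⁻¹ * x⁻¹) * (x * a) := by group
        rw [this, h7, one_mul]
      exact h8.symm
    -- `e` normalizes `X`
    have haN : a ∈ Subgroup.normalizer (X : Set G) := Subgroup.centralizer_le_normalizer _ haC
    have heN : e ∈ Subgroup.normalizer (X : Set G) := by
      have : e = (e * a) * a⁻¹ := by group
      rw [this]
      exact (Subgroup.normalizer (X : Set G)).mul_mem hmN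
        ((Subgroup.normalizer (X : Set G)).inv_mem haN)
    obtain ⟨u, hu, k, hk, rfl⟩ := hfac e he
    have huN : u ∈ Subgroup.normalizer (X : Set G) := by
      have : u = (u * k) * k⁻¹ := by group
      rw [this]
      exact (Subgroup.normalizer (X : Set G)).mul_mem heN
        ((Subgroup.normalizer (X : Set G)).inv_mem (hKN hk))
    -- a nonidentity element of `X`
    obtain ⟨x, hx, hx1⟩ := (Subgroup.ne_bot_iff_exists_ne_one.mp hX1 : ∃ x : X, x ≠ 1)
      |> fun ⟨x, h⟩ => (⟨(x : G), x.2, fun h0 => h (Subtype.ext h0)⟩ : ∃ x : G, x ∈ X ∧ x ≠ 1)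
    have hxK : x ∈ K := hXK hx
    have hxE : x ∈ E := hKE hxK
    have h1 : u * x * u⁻¹ ∈ X := (Subgroup.mem_normalizer_iff.mp huN x).mp hx
    have h2 : u * x * u⁻¹ * x⁻¹ ∈ K := K.mul_mem (hXK h1) (K.inv_mem hxK)
    have h3 : u * x * u⁻¹ * x⁻¹ ∈ U := by
      have h4 : x * u⁻¹ * x⁻¹ ∈ U :=
        (Subgroup.mem_normalizer_iff.mp (hUn hxE) u⁻¹).mp (U.inv_mem hu)
      have : u * x * u⁻¹ * x⁻¹ = u * (x * u⁻¹ * x⁻¹) := by group
      rw [this]
      exact U.mul_mem hu h4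
    have h5 : u * x * u⁻¹ * x⁻¹ ∈ U ⊓ K := ⟨h3, h2⟩
    rw [hUK] at h5
    have h6 : u * x * u⁻¹ * x⁻¹ = 1 := Subgroup.mem_bot.mp h5
    have h7 : u * x = x * u := by
      have : u * x = (u * x * u⁻¹ * x⁻¹) * (x * u) := by group
      rw [this, h6, one_mul]
    have h8 : u ∈ U ⊓ Subgroup.centralizer ({x} : Set G) := by
      refine ⟨hu, ?_⟩
      show u ∈ Subgroup.centralizer ({x} : Set G)
      rw [Subgroup.mem_centralizer_iff]
      intro y hy
      rw [Set.mem_singleton_iff.mp hy]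
      exact h7.symm
    rw [hfpf x hxK hx1] at h8
    have hu1 : u = 1 := Subgroup.mem_bot.mp h8
    rw [hu1, one_mul]
    exact Subgroup.mul_mem_sup hk ⟨ha, haC⟩
  · apply sup_le
    · exact le_inf (hKE.trans hEM) hKN
    · exact le_inf (inf_le_left.trans hσM) (inf_le_right.trans (Subgroup.centralizer_le_normalizer _))

end Cfsg.Agent.Lib.Helper18.BG142
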