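import Mathlib
import Cfsg.Agent.Lib.Helper15.BG139Defs
import Cfsg.Agent.Lib.Helper31.BG12a
import Cfsg.Agent.Lib.Helper13.BG12B
import Cfsg.Agent.Lib.Helper11.BG134AB
import Cfsg.Agent.Lib.Helper71.BG11a
import Cfsg.Agent.Lib.Helper29.Sup
import Cfsg.Agent.S1350
import Cfsg.Agent.S1418

/-!
# Keystone 135305 (K-S1353-D6): `s ∈ τ₂(H)` forces `P` to centralize `C_{M_σ}(S₀)`

Step (6) of helper71's D1 in the S1352/S1353/S1354 pack (architect helper58).
-/

set_option autoImplicit false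
set_option linter.unusedSectionVars false
set_option linter.unusedVariables false
set_option linter.style.longLine false

namespace Cfsg.Agent.Lib.Helper18.BG14

open Cfsg Cfsg.Agent.Lib.Helper55 Cfsg.Agent.Lib.Helper31.BG134 Cfsg.Agent.Lib.Helper15.BG139
open scoped commutatorElement

section pure

variable {G : Type*} [Group G]

/-- an element normalizing `A` and `B` normalizes `A ⊓ B`. -/
theorem mem_normalizer_inf {A B : Subgroup G} {g : G} (hA : g ∈ Subgroup.normalizer (A : Set G))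
    (hB : g ∈ Subgroup.normalizer (B : Set G)) :
    g ∈ Subgroup.normalizer ((A ⊓ B : Subgroup G) : Set G) := by
  rw [Subgroup.mem_normalizer_iff] at hA hB ⊢
  intro x
  rw [Subgroup.mem_inf, Subgroup.mem_inf, hA x, hB x]

/-- an element normalizing `S` normalizes its centralizer. -/
theorem mem_normalizer_centralizer_of_mem {S : Subgroup G} {g : G}
    (hg : g ∈ Subgroup.normalizer (S : Set G)) :
    g ∈ Subgroup.normalizer ((Subgroup.centralizer (S : Set G) : Subgroup G) : Set G) := by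
  have key : ∀ g ∈ Subgroup.normalizer (S : Set G), ∀ z ∈ Subgroup.centralizer (S : Set G),
      g * z * g⁻¹ ∈ Subgroup.centralizer (S : Set G) := by
    intro g hg z hz
    rw [Subgroup.mem_centralizer_iff] at hz ⊢
    intro h hh
    have h1 : g⁻¹ * h * g ∈ S := by
      have := (Subgroup.mem_normalizer_iff.mp (inv_mem hg) h).mp hh
      simpa using this
    have h2 := hz _ h1
    calc h * (g * z * g⁻¹) = g * ((g⁻¹ * h * g) * z) * g⁻¹ := by group
      _ = g * (z * (g⁻¹ * h * g)) * g⁻¹ := by rw [h2]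
      _ = g * z * g⁻¹ * h := by group
  rw [Subgroup.mem_normalizer_iff]
  intro z
  refine ⟨key g hg z, fun hz => ?_⟩
  have := key g⁻¹ (inv_mem hg) _ hz
  simpa [mul_assoc] using this

/-- an element normalizing `A` and `B` normalizes `A ⊔ B`. -/
theorem mem_normalizer_sup {A B : Subgroup G} {g : G} (hA : g ∈ Subgroup.normalizer (A : Set G))
    (hB : g ∈ Subgroup.normalizer (B : Set G)) :
    g ∈ Subgroup.normalizer ((A ⊔ B : Subgroup G) : Set G) := by
  have key : ∀ g : G, g ∈ Subgroup.normalizer (A : Set G) → g ∈ Subgroup.normalizer (B : Set G) →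
      ∀ x ∈ A ⊔ B, g * x * g⁻¹ ∈ A ⊔ B := by
    intro g hA hB x hx
    have h1 : (A ⊔ B).map (MulAut.conj g).toMonoidHom ≤ A ⊔ B := by
      rw [Subgroup.map_sup]
      refine sup_le (le_trans ?_ le_sup_left) (le_trans ?_ le_sup_right)
      · rintro _ ⟨a, ha, rfl⟩
        exact (Subgroup.mem_normalizer_iff.mp hA a).mp ha
      · rintro _ ⟨b, hb, rfl⟩
        exact (Subgroup.mem_normalizer_iff.mp hB b).mp hb
    exact h1 ⟨x, hx, rfl⟩
  rw [Subgroup.mem_normalizer_iff]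
  intro x
  refine ⟨key g hA hB x, fun hx => ?_⟩
  have := key g⁻¹ (inv_mem hA) (inv_mem hB) _ hx
  simpa [mul_assoc] using this

/-- a subgroup normalizing `A` and `C` normalizes `⁅A, C⁆`. -/
theorem le_normalizer_commutator {P A C : Subgroup G} (hA : P ≤ Subgroup.normalizer (A : Set G))
    (hC : P ≤ Subgroup.normalizer (C : Set G)) :
    P ≤ Subgroup.normalizer ((⁅A, C⁆ : Subgroup G) : Set G) := by
  have key : ∀ y ∈ P, (⁅A, C⁆ : Subgroup G).map (MulAut.conj y).toMonoidHom ≤ ⁅A, C⁆ := by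
    intro y hy
    rw [Subgroup.map_commutator]
    have h1 : A.map (MulAut.conj y).toMonoidHom ≤ A := by
      rintro _ ⟨z, hz, rfl⟩
      exact (Subgroup.mem_normalizer_iff.mp (hA hy) z).mp hz
    have h2 : C.map (MulAut.conj y).toMonoidHom ≤ C := by
      rintro _ ⟨z, hz, rfl⟩
      exact (Subgroup.mem_normalizer_iff.mp (hC hy) z).mp hz
    exact Subgroup.commutator_mono h1 h2
  intro x hx
  rw [Subgroup.mem_normalizer_iff]
  intro g
  constructor
  · intro hg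
    exact key x hx ⟨g, hg, rfl⟩
  · intro hg
    have := key x⁻¹ (P.inv_mem hx) ⟨_, hg, rfl⟩
    simpa [mul_assoc] using this

/-- the automorphism group of a group of prime order is abelian: commutators of elements
normalizing a subgroup of prime order centralize it. -/
theorem commutatorElement_mem_centralizer_of_card_prime {A₁ : Subgroup G} {s : ℕ} [Fact s.Prime]
    (hA₁ : Nat.card A₁ = s) {c x : G} (hc : c ∈ Subgroup.normalizer (A₁ : Set G))
    (hx : x ∈ Subgroup.normalizer (A₁ : Set G)) :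
    ⁅c, x⁆ ∈ Subgroup.centralizer (A₁ : Set G) := by
  have : IsCyclic A₁ := isCyclic_of_prime_card hA₁
  obtain ⟨⟨a, haA⟩, hgen⟩ := IsCyclic.exists_generator (α := A₁)
  have hpow : ∀ b ∈ A₁, ∃ k : ℤ, a ^ k = b := by
    intro b hb
    obtain ⟨k, hk⟩ := Subgroup.mem_zpowers_iff.mp (hgen ⟨b, hb⟩)
    exact ⟨k, by simpa using congrArg Subtype.val hk⟩
  have key : ∀ u v : G, u ∈ Subgroup.normalizer (A₁ : Set G) →
      v ∈ Subgroup.normalizer (A₁ : Set G) →
      u * v * a * (u * v)⁻¹ = v * u * a * (v * u)⁻¹ := by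
    intro u v hu hv
    obtain ⟨i, hi⟩ := hpow (u * a * u⁻¹) ((Subgroup.mem_normalizer_iff.mp hu a).mp haA)
    obtain ⟨j, hj⟩ := hpow (v * a * v⁻¹) ((Subgroup.mem_normalizer_iff.mp hv a).mp haA)
    have h1 : u * v * a * (u * v)⁻¹ = u * (v * a * v⁻¹) * u⁻¹ := by group
    have h2 : v * u * a * (v * u)⁻¹ = v * (u * a * u⁻¹) * v⁻¹ := by group
    rw [h1, h2, ← hi, ← hj, ← conj_zpow, ← conj_zpow, ← hi, ← hj, ← zpow_mul, ← zpow_mul, mul_comm]
  have hcomm : ⁅c, x⁆ * a = a * ⁅c, x⁆ := by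
    have h := key x⁻¹ c⁻¹ (inv_mem hx) (inv_mem hc)
    have h3 : a = (c * x) * (x⁻¹ * c⁻¹ * a * (x⁻¹ * c⁻¹)⁻¹) * (c * x)⁻¹ := by group
    have h4 : (c * x) * (c⁻¹ * x⁻¹ * a * (c⁻¹ * x⁻¹)⁻¹) * (c * x)⁻¹ = ⁅c, x⁆ * a * ⁅c, x⁆⁻¹ := by
      rw [commutatorElement_def]; group
    rw [h, h4] at h3
    calc ⁅c, x⁆ * a = (⁅c, x⁆ * a * ⁅c, x⁆⁻¹) * ⁅c, x⁆ := by group
      _ = a * ⁅c, x⁆ := by rw [← h3]
  rw [Subgroup.mem_centralizer_iff]
  intro b hb
  obtain ⟨k, rfl⟩ := hpow b hb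
  have hC : Commute ⁅c, x⁆ a := hcomm
  exact ((hC.zpow_right k).eq).symm

end pure

variable {G : Type*} [Group G] [Finite G]

/-- a subgroup between `S₀` (of order `s`) and `A` (of order `s ^ 2`) is `S₀` or `A`. -/
theorem eq_or_eq_of_between {s : ℕ} [Fact s.Prime] {S₀ A B : Subgroup G} (hS₀c : Nat.card S₀ = s)
    (hAc : Nat.card A = s ^ 2) (hS₀B : S₀ ≤ B) (hBA : B ≤ A) : B = S₀ ∨ B = A := by
  have hs : s.Prime := Fact.out
  have h1 : Nat.card B ∣ s ^ 2 := hAc ▸ Subgroup.card_dvd_of_le hBA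
  have h2 : s ∣ Nat.card B := hS₀c ▸ Subgroup.card_dvd_of_le hS₀B
  obtain ⟨k, hk2, hk⟩ := (Nat.dvd_prime_pow hs).mp h1
  interval_cases k
  · rw [hk, pow_zero] at h2
    exact absurd (Nat.dvd_one.mp h2) hs.one_lt.ne'
  · left
    exact (Subgroup.eq_of_le_of_card_ge hS₀B (by rw [hk, hS₀c, pow_one])).symm
  · right
    exact Subgroup.eq_of_le_of_card_ge hBA (by rw [hk, hAc])

/-- KEYSTONE 135305  K-S1353-D6. -/
theorem cent_le_of_tau2 (hG : IsMinSimpleOddOrder G) {M H E S₀ P : Subgroup G} (hM : IsCoatom M)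
    (hH : IsCoatom H) (hE : IsComplIn E (sigmaCore M) M) (hEH : E ≤ H) {s : ℕ} [Fact s.Prime]
    (hs : s ∈ tau3 M) (hS₀E : S₀ ≤ E) (hS₀c : Nat.card S₀ = s)
    (hES : E ≤ Subgroup.normalizer (S₀ : Set G)) (hNH : Subgroup.normalizer (S₀ : Set G) ≤ H)
    (hs2 : s ∈ tau2 H) {p : ℕ} (hp : p.Prime) (hpH : p ∉ sigma H) (hPE : P ≤ E)
    (hPc : Nat.card P = p)
    (hCσ : ∀ t : ℕ, t.Prime → t ∣ Nat.card ↥(sigmaCore M ⊓ Subgroup.centralizer (S₀ : Set G)) →
      t ∉ sigma H)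
    (hF : ∀ A : Subgroup G, S₀ ≤ A → IsElementaryAbelian s A → Nat.card A = s ^ 2 →
      sigmaCore M ⊓ Subgroup.centralizer (S₀ : Set G) ⊓ Subgroup.centralizer (A : Set G) = ⊥) :
    sigmaCore M ⊓ Subgroup.centralizer (S₀ : Set G) ≤ Subgroup.centralizer (P : Set G) := by
  classical
  have hsp : s.Prime := Fact.out
  obtain ⟨C, hCdef⟩ : ∃ C : Subgroup G, C = sigmaCore M ⊓ Subgroup.centralizer (S₀ : Set G) :=
    ⟨_, rfl⟩
  rw [← hCdef] at hCσ hF ⊢
  by_cases hC1 : C = ⊥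
  · rw [hC1]; exact bot_le
  have hsσH : s ∉ sigma H := hs2.2.1
  have hsσM : s ∉ sigma M := hs.2.1
  have hCcent : C ≤ Subgroup.centralizer (S₀ : Set G) := hCdef ▸ inf_le_right
  have hCσM : C ≤ sigmaCore M := hCdef ▸ inf_le_left
  have hCH : C ≤ H := hCcent.trans ((Subgroup.centralizer_le_normalizer _).trans hNH)
  have hS₀H : S₀ ≤ H := hS₀E.trans hEH
  have hPH : P ≤ H := hPE.trans hEH
  have hPM : P ≤ M := hPE.trans hE.1
  have hS₀cC : S₀ ≤ Subgroup.centralizer (C : Set G) := Subgroup.le_centralizer_iff.mp hCcent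
  -- `P` and `S₀` normalize `C`
  have hPC : P ≤ Subgroup.normalizer (C : Set G) := by
    intro x hx
    rw [hCdef]
    refine mem_normalizer_inf (Cfsg.Agent.Lib.Helper71.BG11.le_normalizer_sigmaCore M (hPM hx)) ?_
    exact mem_normalizer_centralizer_of_mem (hES (hPE hx))
  have hS₀C : S₀ ≤ Subgroup.normalizer (C : Set G) :=
    hS₀cC.trans (Subgroup.centralizer_le_normalizer _)
  have hPS₀ : P ≤ Subgroup.normalizer (S₀ : Set G) := hPE.trans hES
  -- the group `J`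
  have hJ₁card : Nat.card ↥(C ⊔ S₀) ∣ Nat.card C * Nat.card S₀ :=
    Cfsg.Agent.Lib.Helper29.card_sup_dvd_of_le_normalizer C S₀ hS₀C
  have hPJ₁ : P ≤ Subgroup.normalizer ((C ⊔ S₀ : Subgroup G) : Set G) :=
    fun x hx => mem_normalizer_sup (hPC hx) (hPS₀ hx)
  have hJcard : Nat.card ↥((C ⊔ S₀) ⊔ P) ∣ Nat.card ↥(C ⊔ S₀) * Nat.card P :=
    Cfsg.Agent.Lib.Helper29.card_sup_dvd_of_le_normalizer (C ⊔ S₀) P hPJ₁
  have hJH : (C ⊔ S₀) ⊔ P ≤ H := sup_le (sup_le hCH hS₀H) hPH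
  have hJσ : ∀ t : ℕ, t.Prime → t ∣ Nat.card ↥((C ⊔ S₀) ⊔ P) → t ∉ sigma H := by
    intro t ht htJ
    rcases (ht.dvd_mul).mp (dvd_trans htJ hJcard) with h | h
    · rcases (ht.dvd_mul).mp (dvd_trans h hJ₁card) with h' | h'
      · exact hCσ t ht h'
      · rw [hS₀c] at h'
        rw [(Nat.prime_dvd_prime_iff_eq ht hsp).mp h']
        exact hsσH
    · rw [hPc] at h
      rw [(Nat.prime_dvd_prime_iff_eq ht hp).mp h]
      exact hpH
  have hHallH := (Cfsg.Agent.S1350.result hG H hH).1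
  obtain ⟨EH, hEHc, hJEH⟩ :=
    Cfsg.Agent.Lib.Helper13.BG12.exists_complIn_ge hG hH hHallH hJH hJσ
  obtain ⟨A, hAEH, hAel, hAcard⟩ :=
    Cfsg.Agent.Lib.Helper13.BG12.exists_elemAb_sq_le_compl hG hH hHallH hs2 hEHc
  have h1418 := Cfsg.Agent.S1418.result hG H hH EH hEHc s hs2 A ⟨hAEH, hAel, hAcard⟩
  have hEHA : EH ≤ Subgroup.normalizer (A : Set G) := h1418.1.1
  have hCEH : C ≤ EH := (le_sup_left.trans le_sup_left).trans hJEH
  have hS₀EH : S₀ ≤ EH := (le_sup_right.trans le_sup_left).trans hJEH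
  have hPEH : P ≤ EH := le_sup_right.trans hJEH
  have hS₀A : S₀ ≤ A := h1418.1.2 S₀ hS₀EH hS₀c
  have hCA0 : C ⊓ Subgroup.centralizer (A : Set G) = ⊥ := hF A hS₀A hAel hAcard
  have hCnA : C ≤ Subgroup.normalizer (A : Set G) := hCEH.trans hEHA
  have hPnA : P ≤ Subgroup.normalizer (A : Set G) := hPEH.trans hEHA
  -- coprimality
  have hsC : ¬ s ∣ Nat.card C := by
    intro h
    exact hsσM (Cfsg.Agent.Lib.Helper71.BG11.sigmaCore_pi hG hM hsp
      (dvd_trans h (Subgroup.card_dvd_of_le hCσM)))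
  have hAp : IsPGroup s A := IsPGroup.of_card hAcard
  have hAab : ∀ a ∈ A, ∀ b ∈ A, a * b = b * a := by
    intro a ha b hb
    have := hAel.1
    have h := this.is_comm.comm ⟨a, ha⟩ ⟨b, hb⟩
    exact congrArg Subtype.val h
  obtain ⟨hA₁A, hCnA₁, hA₁fix, hA₁ne⟩ :=
    Cfsg.Agent.Lib.Helper11.BG134.commutator_fix_eq_bot A C hAp hAab hCnA hsC
  have hnotcent : ¬ A ≤ Subgroup.centralizer (C : Set G) := by
    intro h
    have h1 : C ≤ Subgroup.centralizer (A : Set G) := Subgroup.le_centralizer_iff.mp h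
    exact hC1 (le_bot_iff.mp (hCA0 ▸ le_inf le_rfl h1))
  have hA₁1 : (⁅A, C⁆ : Subgroup G) ≠ ⊥ := hA₁ne hnotcent
  have hS₀A₁ : S₀ ⊓ ⁅A, C⁆ = ⊥ := by
    apply le_bot_iff.mp
    rw [← hA₁fix]
    exact le_inf inf_le_right (inf_le_left.trans hS₀cC)
  have hS₀ne : S₀ ≠ ⊥ := by
    intro h
    rw [h, Subgroup.card_bot] at hS₀c
    exact hsp.one_lt.ne' hS₀c.symm
  -- `|A₁| = s`
  have hA₁card : Nat.card ↥(⁅A, C⁆ : Subgroup G) = s := by
    have h1 : Nat.card ↥(⁅A, C⁆ : Subgroup G) ∣ s ^ 2 := hAcard ▸ Subgroup.card_dvd_of_le hA₁A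
    obtain ⟨k, hk2, hk⟩ := (Nat.dvd_prime_pow hsp).mp h1
    interval_cases k
    · exact absurd (Subgroup.eq_bot_of_card_eq _ (by rw [hk, pow_zero])) hA₁1
    · rw [hk, pow_one]
    · exfalso
      have h2 : (⁅A, C⁆ : Subgroup G) = A := Subgroup.eq_of_le_of_card_ge hA₁A (by rw [hk, hAcard])
      rw [h2, inf_eq_left.mpr hS₀A] at hS₀A₁
      exact hS₀ne hS₀A₁
  -- an element centralizing `S₀` and `A₁` centralizes `A`
  have hgen : ∀ y : G, y ∈ Subgroup.centralizer (S₀ : Set G) →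
      y ∈ Subgroup.centralizer ((⁅A, C⁆ : Subgroup G) : Set G) →
      y ∈ Subgroup.centralizer (A : Set G) := by
    intro y hy1 hy2
    obtain ⟨B, hBdef⟩ : ∃ B : Subgroup G, B = A ⊓ Subgroup.centralizer ({y} : Set G) := ⟨_, rfl⟩
    have hS₀B : S₀ ≤ B := by
      rw [hBdef]
      refine le_inf hS₀A ?_
      intro z hz
      rw [Subgroup.mem_centralizer_iff]
      intro h hh
      rw [Set.mem_singleton_iff.mp hh]
      exact ((Subgroup.mem_centralizer_iff.mp hy1) z hz).symm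
    have hA₁B : (⁅A, C⁆ : Subgroup G) ≤ B := by
      rw [hBdef]
      refine le_inf hA₁A ?_
      intro z hz
      rw [Subgroup.mem_centralizer_iff]
      intro h hh
      rw [Set.mem_singleton_iff.mp hh]
      exact ((Subgroup.mem_centralizer_iff.mp hy2) z hz).symm
    have hBA : B ≤ A := hBdef ▸ inf_le_left
    rcases eq_or_eq_of_between hS₀c hAcard hS₀B hBA with h | h
    · exfalso
      rw [h] at hA₁B
      rw [inf_eq_right.mpr hA₁B] at hS₀A₁
      exact hA₁1 hS₀A₁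
    · rw [Subgroup.mem_centralizer_iff]
      intro a ha
      have haB : a ∈ B := h ▸ ha
      rw [hBdef] at haB
      have := (Subgroup.mem_centralizer_iff.mp haB.2) y (Set.mem_singleton y)
      exact this.symm
  -- `P` normalizes `A₁`
  have hPA₁ : P ≤ Subgroup.normalizer ((⁅A, C⁆ : Subgroup G) : Set G) :=
    le_normalizer_commutator hPnA hPC
  -- conclusion
  intro c hc
  rw [Subgroup.mem_centralizer_iff]
  intro x hx
  have hyC : ⁅c, x⁆ ∈ C := by
    rw [commutatorElement_def]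
    have h1 : x * c⁻¹ * x⁻¹ ∈ C :=
      (Subgroup.mem_normalizer_iff.mp (hPC hx) c⁻¹).mp (C.inv_mem hc)
    have h2 : c * x * c⁻¹ * x⁻¹ = c * (x * c⁻¹ * x⁻¹) := by group
    rw [h2]
    exact C.mul_mem hc h1
  have hy2 : ⁅c, x⁆ ∈ Subgroup.centralizer ((⁅A, C⁆ : Subgroup G) : Set G) :=
    commutatorElement_mem_centralizer_of_card_prime hA₁card (hCnA₁ hc) (hPA₁ hx)
  have hy3 : ⁅c, x⁆ ∈ Subgroup.centralizer (A : Set G) := hgen _ (hCcent hyC) hy2
  have hy1 : ⁅c, x⁆ = 1 := by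
    have : ⁅c, x⁆ ∈ C ⊓ Subgroup.centralizer (A : Set G) := ⟨hyC, hy3⟩
    rw [hCA0] at this
    exact Subgroup.mem_bot.mp this
  exact (commutatorElement_eq_one_iff_mul_comm.mp hy1).symm

end Cfsg.Agent.Lib.Helper18.BG14
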