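import Mathlib
import Cfsg.Agent.Lib.Helper71.BG1366Defs
import Cfsg.Agent.Lib.Helper15.BG142Defs
import Cfsg.Agent.Lib.Helper55.Basic
import Cfsg.Agent.S1378
import Cfsg.Agent.Lib.Helper31.BG147C
import Cfsg.Agent.Lib.Helper27.BG147P
import Cfsg.Agent.Lib.Helper75.BG14DP
import Cfsg.Agent.Lib.Helper68.BG144G2
import Cfsg.Agent.Lib.Helper48.BG144G1
import Cfsg.Agent.Lib.Helper81.BG144R
import Cfsg.Agent.Lib.Helper71.BG11a
import Cfsg.Agent.Lib.Helper01.BG134CJ
import Cfsg.Agent.Lib.Helper01.BG147D2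
import Cfsg.Agent.Lib.Helper89.BG14DS1
import Cfsg.Agent.Lib.Helper57.BG142D4
import Cfsg.Agent.Lib.Helper77.BG147N

/-!
# K-1366-F (keystone 136607, pack K-1366 of helper71): the tilde set of ANY maximal subgroup `J` misses the class
support of `Ẑ = K K* - (K ∪ K*)`.
-/

set_option autoImplicit false
set_option linter.unusedVariables false
set_option linter.unusedSectionVars false
set_option linter.style.longLine false

namespace Cfsg.Agent.Lib.Helper18.BG1366

open Cfsg Subgroup Cfsg.Agent.Lib.Helper11.BG14D Cfsg.Agent.Lib.Helper11.BG144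
  Cfsg.Agent.Lib.Helper31.BG147 Cfsg.Agent.Lib.Helper71.BG1366

variable {G : Type*} [Group G] [Finite G]

theorem pow_card_of_mem_f {H : Subgroup G} {x : G} (hx : x ∈ H) : x ^ Nat.card H = 1 := by
  have h := pow_card_eq_one' (G := H) (x := ⟨x, hx⟩)
  exact congrArg Subtype.val h

theorem eq_one_of_pow_coprime_f {x : G} {m n : ℕ} (hmn : m.Coprime n) (hm : x ^ m = 1)
    (hn : x ^ n = 1) : x = 1 := by
  have h2 : orderOf x ∣ m := orderOf_dvd_of_pow_eq_one hm
  have h3 : orderOf x ∣ n := orderOf_dvd_of_pow_eq_one hn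
  have h4 : orderOf x ∣ 1 := by
    have := Nat.dvd_gcd h2 h3
    rwa [hmn] at this
  exact orderOf_eq_one_iff.mp (Nat.dvd_one.mp h4)

theorem centralizer_singleton_le_zpowers_f (a : G) :
    centralizer ({a} : Set G) ≤ centralizer ((zpowers a : Subgroup G) : Set G) := by
  intro w hw
  rw [Subgroup.mem_centralizer_iff] at hw
  exact Cfsg.Agent.Lib.Helper01.BG147.mem_centralizer_zpowers_d2 (hw a rfl).symm

/-- the core: no element `a r` (`a ∈ J_σ#`, `r ∈ R(a)`) lies in `Ẑ`. -/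
theorem core_f (hG : IsMinSimpleOddOrder G) (h30 : H1430 G) (h31 : H1431 G) (hB : HB G) (hC : HC G)
    {J M K : Subgroup G} (hJ : IsCoatom J) (hp : PPair M K) {a r : G} (ha : a ∈ sigmaCore J)
    (ha1 : a ≠ 1) (hr : r ∈ supportR J a) (hz : a * r ∈ Zhat M K) : False := by
  have hM := hp.coatom
  have hK := hp.hall
  have hK1 := hp.ne
  have hσJ : sigmaCore J ≤ J := Cfsg.Agent.Lib.Helper71.BG11.sigmaCore_le J
  have hra : a * r = r * a := by
    have h := Cfsg.Agent.Lib.Helper01.BG147.supportR_le_centralizer_d2 J a hr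
    rw [Subgroup.mem_centralizer_iff] at h
    exact h a rfl
  have hcK : Ks M K ≤ centralizer (K : Set G) := inf_le_right
  have hcop : (Nat.card K).Coprime (Nat.card (Ks M K)) :=
    Cfsg.Agent.Lib.Helper77.BG147.coprime_card_Ks hG hM hK
  obtain ⟨x₀, hx₀, y₀, hy₀, hx₀1, hy₀1, hzxy, hxy, ⟨i, hi⟩, ⟨j, hj⟩⟩ :=
    Cfsg.Agent.Lib.Helper27.BG147.zhat_parts hcK hcop hz
  have hca : Commute a (a * r) := by
    show a * (a * r) = a * r * a
    rw [mul_assoc a r a, ← hra]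
  have hax : a * x₀ = x₀ * a := by
    rw [← hi]; exact (hca.pow_right i).eq
  have hay : a * y₀ = y₀ * a := by
    rw [← hj]; exact (hca.pow_right j).eq
  -- `a ∈ M`
  have hY0 : (zpowers y₀ : Subgroup G) ≤ Ks M K := by
    rw [Subgroup.zpowers_le]; exact hy₀
  have hY01 : (zpowers y₀ : Subgroup G) ≠ ⊥ := by
    rw [Ne, Subgroup.zpowers_eq_bot]; exact hy₀1
  have haM : a ∈ M :=
    centralizer_le h31 hM hK hK1 hY0 hY01 (Cfsg.Agent.Lib.Helper01.BG147.mem_centralizer_zpowers_d2 hay)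
  -- `a ∈ K ⊔ K*`
  obtain ⟨X₀, hX₀le, hX₀p⟩ := Cfsg.Agent.Lib.Helper89.BG14D.exists_prime_card_le_zpowers hx₀1
  have hX₀K : X₀ ≤ K := hX₀le.trans ((Subgroup.zpowers_le).mpr hx₀)
  obtain ⟨-, -, h3⟩ := h30 M hM K hK hK1
  obtain ⟨hN, -, -⟩ := h3 X₀ hX₀K hX₀p
  have haKK : a ∈ K ⊔ Ks M K := by
    rw [← hN]
    refine Subgroup.mem_inf.mpr ⟨haM, ?_⟩
    apply Subgroup.centralizer_le_normalizer
    rw [Subgroup.mem_centralizer_iff]
    intro t ht
    have htz : t ∈ zpowers x₀ := hX₀le ht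
    have hc := Cfsg.Agent.Lib.Helper01.BG147.mem_centralizer_zpowers_d2 hax
    exact (Subgroup.mem_centralizer_iff.mp hc) t htz
  obtain ⟨x₁, hx₁, y₁, hy₁, haxy⟩ :=
    Cfsg.Agent.Lib.Helper27.BG147.exists_mul_of_mem_sup_of_centralizer hcK haKK
  have hxy₁ : x₁ * y₁ = y₁ * x₁ := (Subgroup.mem_centralizer_iff.mp (hcK hy₁)) x₁ hx₁
  have hx₁K : x₁ ^ Nat.card K = 1 := pow_card_of_mem_f hx₁
  have hy₁Y : y₁ ^ Nat.card (Ks M K) = 1 := pow_card_of_mem_f hy₁
  have hpow := Cfsg.Agent.Lib.Helper75.BG14D.pow_crt_eq hcop hx₁K hy₁Y hxy₁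
  have hpow' := Cfsg.Agent.Lib.Helper75.BG14D.pow_crt_eq hcop.symm hy₁Y hx₁K hxy₁.symm
  have haσ : a ^ Nat.card (sigmaCore J) = 1 := pow_card_of_mem_f ha
  have hx₁σ : x₁ ^ Nat.card (sigmaCore J) = 1 := by
    rw [← hpow, ← haxy, ← pow_mul, mul_comm, pow_mul, haσ, one_pow]
  have hy₁σ : y₁ ^ Nat.card (sigmaCore J) = 1 := by
    rw [← hpow', ← hxy₁, ← haxy, ← pow_mul, mul_comm, pow_mul, haσ, one_pow]
  have hKsσ : Ks M K ≤ sigmaCore M := inf_le_left
  by_cases hconj : ∃ g' : G, J = M.map (MulAut.conj g').toMonoidHom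
  · -- CASE A: `J` conjugate to `M`
    obtain ⟨g', hg'⟩ := hconj
    have hcopA : (Nat.card K).Coprime (Nat.card (sigmaCore J)) := by
      apply Nat.coprime_of_dvd
      intro p hp hpK hpJ
      have h1 : p ∈ kappa M := hK.2.1 p hp hpK
      have h2 : p ∈ sigma J := Cfsg.Agent.Lib.Helper71.BG11.sigmaCore_pi hG hJ hp hpJ
      rw [hg'] at h2
      exact h1.2.2.1 ((Cfsg.Agent.Lib.Helper01.BG134.mem_sigma_cj_iff g').mp h2)
    have hx₁1 : x₁ = 1 := eq_one_of_pow_coprime_f hcopA hx₁K hx₁σ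
    have haKs : a ∈ Ks M K := by
      rw [haxy, hx₁1, one_mul]; exact hy₁
    have hA : (zpowers a : Subgroup G) ≤ Ks M K := by
      rw [Subgroup.zpowers_le]; exact haKs
    have hA1 : (zpowers a : Subgroup G) ≠ ⊥ := by
      rw [Ne, Subgroup.zpowers_eq_bot]; exact ha1
    have hg'M : g' ∈ M := by
      apply mem_of_le_cj h31 hM hK hK1 hA hA1
      rw [Subgroup.zpowers_le]
      have : a ∈ J := hσJ ha
      rw [hg'] at this
      exact this
    have hJM : J = M := by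
      rw [hg']; exact Cfsg.Agent.Lib.Helper55.cj_eq_self_of_mem hg'M
    have hCa : centralizer ({a} : Set G) ≤ J := by
      rw [hJM]
      exact (centralizer_singleton_le_zpowers_f a).trans (centralizer_le h31 hM hK hK1 hA hA1)
    have hR : supportR J a = ⊥ := Cfsg.Agent.Lib.Helper68.BG144.supportR_eq_bot' J a hCa
    rw [hR, Subgroup.mem_bot] at hr
    apply hz.2
    right
    rw [SetLike.mem_coe, hr, mul_one]
    exact haKs
  · -- CASE B: `J` not conjugate to `M`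
    have hdisj : ∀ p : ℕ, p ∈ sigma M → p ∈ sigma J → False := by
      intro p h1 h2
      exact hconj ((Cfsg.Agent.S1378.result hG).2 M J hM hJ ⟨p, h1, h2⟩)
    have hcopB : (Nat.card (Ks M K)).Coprime (Nat.card (sigmaCore J)) := by
      apply Nat.coprime_of_dvd
      intro p hp hpK hpJ
      have h1 : p ∈ sigma M := Cfsg.Agent.Lib.Helper71.BG11.sigmaCore_pi hG hM hp
        (dvd_trans hpK (Subgroup.card_dvd_of_le hKsσ))
      have h2 : p ∈ sigma J := Cfsg.Agent.Lib.Helper71.BG11.sigmaCore_pi hG hJ hp hpJ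
      exact hdisj p h1 h2
    have hy₁1 : y₁ = 1 := eq_one_of_pow_coprime_f hcopB hy₁Y hy₁σ
    have haK : a ∈ K := by
      rw [haxy, hy₁1, mul_one]; exact hx₁
    by_cases hcent : centralizer ({a} : Set G) ≤ J
    · have hR : supportR J a = ⊥ := Cfsg.Agent.Lib.Helper68.BG144.supportR_eq_bot' J a hcent
      rw [hR, Subgroup.mem_bot] at hr
      apply hz.2
      left
      rw [SetLike.mem_coe, hr, mul_one]
      exact haK
    · obtain ⟨N, hN⟩ := hB J hJ a ha ha1 hcent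
      have hRN : supportR J a = sigmaCore N ⊓ centralizer ({a} : Set G) :=
        Cfsg.Agent.Lib.Helper81.BG144.supportR_eq hC hN
      rw [hRN] at hr
      have hrN : r ∈ sigmaCore N := hr.1
      have hNc : IsCoatom N := hN.coatom
      have hσN : sigmaCore N ≤ N := Cfsg.Agent.Lib.Helper71.BG11.sigmaCore_le N
      have hdisjN : ∀ p : ℕ, p ∈ sigma J → p ∈ sigma N → False := by
        intro p h1 h2
        obtain ⟨g₂, hg₂⟩ := (Cfsg.Agent.S1378.result hG).2 J N hJ hNc ⟨p, h1, h2⟩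
        exact hN.not_conj g₂ hg₂
      have hrσ : r ^ Nat.card (sigmaCore N) = 1 := pow_card_of_mem_f hrN
      have hcopJN : (Nat.card (sigmaCore J)).Coprime (Nat.card (sigmaCore N)) := by
        apply Nat.coprime_of_dvd
        intro p hp hpJ hpN
        exact hdisjN p (Cfsg.Agent.Lib.Helper71.BG11.sigmaCore_pi hG hJ hp hpJ)
          (Cfsg.Agent.Lib.Helper71.BG11.sigmaCore_pi hG hNc hp hpN)
      -- exponents: `m := gcd-free`: use `m = orderOf a`
      have hoa : orderOf a ∣ Nat.card K := orderOf_dvd_of_pow_eq_one (pow_card_of_mem_f haK)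
      have hoaJ : orderOf a ∣ Nat.card (sigmaCore J) := orderOf_dvd_of_pow_eq_one haσ
      have hcop1 : (orderOf a).Coprime (Nat.card (Ks M K) * Nat.card (sigmaCore N)) := by
        apply Nat.Coprime.mul_right
        · exact Nat.Coprime.coprime_dvd_left hoa hcop
        · exact Nat.Coprime.coprime_dvd_left hoaJ hcopJN
      have hcar : Commute a r := hra
      have hy₀eq : y₀ = a ^ j * r ^ j := by
        rw [← hj, hcar.mul_pow]
      have hy₀Y : y₀ ^ Nat.card (Ks M K) = 1 := pow_card_of_mem_f hy₀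
      have hsplit := Cfsg.Agent.Lib.Helper75.BG14D.eq_of_mul_eq_mul_of_coprime
        (a := a ^ j) (b := r ^ j) (a' := 1) (b' := y₀) hcop1
        (by rw [← pow_mul, mul_comm, pow_mul, pow_orderOf_eq_one, one_pow])
        (one_pow _)
        (by rw [← pow_mul, mul_comm, pow_mul, mul_comm, pow_mul, hrσ, one_pow, one_pow])
        (by rw [pow_mul, hy₀Y, one_pow])
        ((hcar.pow_pow j j).eq)
        (by rw [one_mul, mul_one])
        (by rw [one_mul, ← hy₀eq])
      have hy₀r : r ^ j = y₀ := hsplit.2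
      have hy₀N : y₀ ∈ sigmaCore N := by
        rw [← hy₀r]; exact (sigmaCore N).pow_mem hrN j
      -- a prime of `orderOf y₀`
      have hoy : orderOf y₀ ≠ 1 := by
        rw [Ne, orderOf_eq_one_iff]; exact hy₀1
      obtain ⟨ℓ', hℓ'p, hℓ'd⟩ := Nat.exists_prime_and_dvd hoy
      have hℓ'N : ℓ' ∈ sigma N := by
        apply Cfsg.Agent.Lib.Helper71.BG11.sigmaCore_pi hG hNc hℓ'p
        exact dvd_trans hℓ'd (orderOf_dvd_of_pow_eq_one (pow_card_of_mem_f hy₀N))
      have hℓ'M : ℓ' ∈ sigma M := by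
        apply Cfsg.Agent.Lib.Helper71.BG11.sigmaCore_pi hG hM hℓ'p
        exact dvd_trans hℓ'd (orderOf_dvd_of_pow_eq_one (pow_card_of_mem_f (hKsσ hy₀)))
      obtain ⟨g₃, hg₃⟩ := (Cfsg.Agent.S1378.result hG).2 M N hM hNc ⟨ℓ', hℓ'M, hℓ'N⟩
      have hg₃M : g₃ ∈ M := by
        apply mem_of_le_cj h31 hM hK hK1 hY0 hY01
        rw [Subgroup.zpowers_le]
        have : y₀ ∈ N := hσN hy₀N
        rw [hg₃] at this
        exact this
      have hNM : N = M := by
        rw [hg₃]; exact Cfsg.Agent.Lib.Helper55.cj_eq_self_of_mem hg₃M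
      -- a prime of `orderOf a`
      have hoa1 : orderOf a ≠ 1 := by
        rw [Ne, orderOf_eq_one_iff]; exact ha1
      obtain ⟨ℓ, hℓp, hℓd⟩ := Nat.exists_prime_and_dvd hoa1
      have hℓτ : ℓ ∈ tau2 N := hN.tau2 ℓ hℓp hℓd
      rw [hNM] at hℓτ
      have hℓκ : ℓ ∈ kappa M := hK.2.1 ℓ hℓp (dvd_trans hℓd hoa)
      rcases (Cfsg.Agent.Lib.Helper57.BG142.kappa_facts hM hℓκ).1 with h1 | h3
      · exact hℓτ.2.2.2 h1.2.2.2.2
      · exact hℓτ.2.2.2 h3.2.2.2

/-- **K-1366-F** (136607). -/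
theorem tilde_disjoint_zhat (hG : IsMinSimpleOddOrder G) (h30 : H1430 G) (h31 : H1431 G) (hB : HB G) (hC : HC G)
    {J M K : Subgroup G} (hJ : IsCoatom J) (hp : PPair M K) :
    Disjoint (tildeOf J ((sigmaCore J : Set G) \ {1})) (csupp (Zhat M K)) := by
  rw [Set.disjoint_left]
  rintro v ⟨a, ⟨haσ, ha1⟩, r, hr, y, hv⟩ ⟨g, z, hz, hv'⟩
  have ha1' : a ≠ 1 := fun h => ha1 (by simp [h])
  have haσ' : a ∈ sigmaCore J := haσ
  obtain ⟨c, hc⟩ : ∃ c : G, c = g⁻¹ * y := ⟨_, rfl⟩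
  have hzc : z = c * (a * r) * c⁻¹ := by
    have h1 : y * (a * r) * y⁻¹ = g * z * g⁻¹ := hv.symm.trans hv'
    have h2 : z = g⁻¹ * (g * z * g⁻¹) * g := by group
    rw [h2, ← h1, hc]
    group
  have hJ' : IsCoatom (Cfsg.Agent.Lib.Helper55.cj c J) :=
    (Cfsg.Agent.Lib.Helper48.BG144.isCoatom_cj_iff c J).mpr hJ
  have ha' : c * a * c⁻¹ ∈ sigmaCore (Cfsg.Agent.Lib.Helper55.cj c J) := by
    rw [Cfsg.Agent.Lib.Helper68.BG144.sigmaCore_cj hG hJ c]
    exact Cfsg.Agent.Lib.Helper55.conj_mem_cj haσ'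
  have ha'1 : c * a * c⁻¹ ≠ 1 := by
    intro h
    apply ha1'
    have : a = c⁻¹ * (c * a * c⁻¹) * c := by group
    rw [this, h]
    group
  have hr' : c * r * c⁻¹ ∈ supportR (Cfsg.Agent.Lib.Helper55.cj c J) (c * a * c⁻¹) := by
    have := Cfsg.Agent.Lib.Helper48.BG144.supportR_conj J a c
    rw [this]
    exact Cfsg.Agent.Lib.Helper55.conj_mem_cj hr
  have hz' : (c * a * c⁻¹) * (c * r * c⁻¹) ∈ Zhat M K := by
    have : (c * a * c⁻¹) * (c * r * c⁻¹) = z := by rw [hzc]; group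
    rw [this]; exact hz
  exact core_f hG h30 h31 hB hC hJ' hp ha' ha'1 hr' hz'

end Cfsg.Agent.Lib.Helper18.BG1366
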