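import Mathlib
import Cfsg.Agent.Lib.Helper73.RUDefs

set_option autoImplicit false
set_option linter.unusedVariables false
set_option linter.unusedSectionVars false
set_option linter.style.longLine false

/-! Keystone K-RU-A (228001, pack K-RU of helper73 for S2280): the set of axes `Ax G` is closed under scalars, under
`ψ ↦ ψ A` (`A ∈ G`) and under independent sums. -/

namespace Cfsg.Agent.Lib.Helper18.RU

open Matrix Cfsg.Agent.Lib.Helper73.RU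

theorem ax_smul {n : ℕ} {F : Type*} [Field F] {G : Subgroup (SpecialLinearGroup (Fin n) F)} (s : F)
    {ψ : Fin n → F} (h : ψ ∈ Ax G) : s • ψ ∈ Ax G := by
  intro v hv
  rw [← tvm_smul_left]
  apply h
  rw [dotProduct_smul, ← smul_dotProduct]
  exact hv

/-- `A (1 + v' (ψ A)) = (1 + (A v') ψ) A` (`mul_tvm`) and cancel `A` on the left -/
theorem ax_vecMul {n : ℕ} {F : Type*} [Field F] {G : Subgroup (SpecialLinearGroup (Fin n) F)}
    {ψ : Fin n → F} (h : ψ ∈ Ax G) {A : Matrix (Fin n) (Fin n) F} (hA : InG G A) :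
    ψ ᵥ* A ∈ Ax G := by
  intro v hv
  have h1 : ψ ⬝ᵥ (A *ᵥ v) = 0 := by rw [dotProduct_mulVec]; exact hv
  have h2 : InG G (tvm (A *ᵥ v) ψ) := h _ h1
  have h3 : InG G (A * tvm v (ψ ᵥ* A)) := by
    rw [mul_tvm]
    exact inG_mul h2 hA
  exact inG_of_mul_left hA h3

/-- with `g = 1 + v₀ ψ₂ ∈ G`: `ψ₁ g = ψ₁ + ψ₂`, so this is `ax_vecMul` -/
theorem ax_add_of {n : ℕ} {F : Type*} [Field F] {G : Subgroup (SpecialLinearGroup (Fin n) F)}
    {ψ₁ ψ₂ : Fin n → F} (h1 : ψ₁ ∈ Ax G) (h2 : ψ₂ ∈ Ax G) (v₀ : Fin n → F)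
    (hv1 : ψ₁ ⬝ᵥ v₀ = 1) (hv2 : ψ₂ ⬝ᵥ v₀ = 0) : ψ₁ + ψ₂ ∈ Ax G := by
  have hg : InG G (tvm v₀ ψ₂) := h2 v₀ hv2
  have h3 := ax_vecMul h1 hg
  have h4 : ψ₁ ᵥ* tvm v₀ ψ₂ = ψ₁ + ψ₂ := by
    unfold tvm
    rw [vecMul_add, vecMul_one, vecMul_vecMulVec, hv1, one_smul]
  rw [h4] at h3
  exact h3

end Cfsg.Agent.Lib.Helper18.RU
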