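import Mathlib
import Cfsg.Prelude.Def_ClassicalGeometry

set_option autoImplicit false

namespace Cfsg.Agent.Lib.Helper18

open Matrix

variable {F : Type*} [CommRing F] (m : ℕ)

theorem J_mulVec_inl (v : Fin m ⊕ Fin m → F) (i : Fin m) :
    (Matrix.J (Fin m) F *ᵥ v) (Sum.inl i) = - v (Sum.inr i) := by
  simp [Matrix.J, Matrix.fromBlocks_mulVec, Matrix.neg_mulVec]

theorem J_mulVec_inr (v : Fin m ⊕ Fin m → F) (i : Fin m) :
    (Matrix.J (Fin m) F *ᵥ v) (Sum.inr i) = v (Sum.inl i) := by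
  simp [Matrix.J, Matrix.fromBlocks_mulVec]

theorem sympForm_eq (u v : Fin m ⊕ Fin m → F) :
    Cfsg.sympForm m F u v = ∑ i : Fin m, (u (Sum.inr i) * v (Sum.inl i) - u (Sum.inl i) * v (Sum.inr i)) := by
  unfold Cfsg.sympForm
  rw [dotProduct, Fintype.sum_sum_type]
  simp only [J_mulVec_inl, J_mulVec_inr]
  rw [Finset.sum_sub_distrib]
  simp only [mul_neg, Finset.sum_neg_distrib]
  ring

theorem sympForm_self (v : Fin m ⊕ Fin m → F) : Cfsg.sympForm m F v v = 0 := by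
  rw [sympForm_eq]
  apply Finset.sum_eq_zero
  intro i _
  ring

theorem dot_J_self (v : Fin m ⊕ Fin m → F) : v ⬝ᵥ (Matrix.J (Fin m) F *ᵥ v) = 0 :=
  sympForm_self m v

theorem J_self_dot (v : Fin m ⊕ Fin m → F) : (Matrix.J (Fin m) F *ᵥ v) ⬝ᵥ v = 0 := by
  rw [dotProduct_comm]; exact dot_J_self m v

theorem sympForm_swap (u v : Fin m ⊕ Fin m → F) : Cfsg.sympForm m F u v = - Cfsg.sympForm m F v u := by
  rw [sympForm_eq, sympForm_eq, ← Finset.sum_neg_distrib]
  apply Finset.sum_congr rfl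
  intro i _
  ring

theorem J_mulVec_J_mulVec (v : Fin m ⊕ Fin m → F) :
    Matrix.J (Fin m) F *ᵥ (Matrix.J (Fin m) F *ᵥ v) = -v := by
  rw [Matrix.mulVec_mulVec, Matrix.J_squared, Matrix.neg_mulVec, Matrix.one_mulVec]

theorem J_mulVec_vecMul_J (v : Fin m ⊕ Fin m → F) :
    (Matrix.J (Fin m) F *ᵥ v) ᵥ* Matrix.J (Fin m) F = v := by
  rw [← Matrix.vecMul_transpose, Matrix.vecMul_vecMul, Matrix.J_transpose, Matrix.neg_mul,
    Matrix.J_squared, neg_neg, Matrix.vecMul_one]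

theorem sympTransvection_mem (v : Fin m ⊕ Fin m → F) (c : F) :
    Cfsg.sympTransvection m v c ∈ Matrix.symplecticGroup (Fin m) F := by
  rw [SymplecticGroup.mem_iff]
  unfold Cfsg.sympTransvection
  rw [Matrix.transpose_add, Matrix.transpose_one, Matrix.transpose_smul, Matrix.transpose_vecMulVec]
  rw [Matrix.add_mul, Matrix.one_mul, Matrix.mul_add, Matrix.mul_one, Matrix.add_mul]
  rw [Matrix.smul_mul, Matrix.vecMulVec_mul, J_mulVec_vecMul_J]
  rw [Matrix.mul_smul, Matrix.mul_vecMulVec, J_mulVec_J_mulVec]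
  rw [Matrix.mul_smul, Matrix.smul_mul, Matrix.vecMulVec_mul_vecMulVec]
  rw [dotProduct_comm, J_self_dot, zero_smul]
  simp

theorem sympTransvection_mul (v : Fin m ⊕ Fin m → F) (c d : F) :
    Cfsg.sympTransvection m v c * Cfsg.sympTransvection m v d = Cfsg.sympTransvection m v (c + d) := by
  unfold Cfsg.sympTransvection
  rw [Matrix.add_mul, Matrix.one_mul, Matrix.mul_add, Matrix.mul_one]
  rw [Matrix.smul_mul, Matrix.mul_smul, Matrix.vecMulVec_mul_vecMulVec, J_self_dot, zero_smul]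
  simp only [Matrix.vecMulVec_zero, smul_zero, add_zero]
  rw [add_smul, add_assoc, add_comm (d • _)]

theorem vecMul_J (v : Fin m ⊕ Fin m → F) :
    v ᵥ* Matrix.J (Fin m) F = - (Matrix.J (Fin m) F *ᵥ v) := by
  rw [← Matrix.mulVec_transpose, Matrix.J_transpose, Matrix.neg_mulVec]

theorem sympTransvection_conj (v : Fin m ⊕ Fin m → F) (A : Matrix (Fin m ⊕ Fin m) (Fin m ⊕ Fin m) F)
    (a : F) (hA : A ∈ Matrix.symplecticGroup (Fin m) F) (hv : A *ᵥ v = a • v) (c : F) :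
    A * Cfsg.sympTransvection m v c * A⁻¹ = Cfsg.sympTransvection m v (c * a * a) := by
  have hinv : A * A⁻¹ = 1 := Matrix.mul_nonsing_inv A (SymplecticGroup.symplectic_det hA)
  have h1 : (Matrix.J (Fin m) F *ᵥ v) ᵥ* A⁻¹ = a • (Matrix.J (Fin m) F *ᵥ v) := by
    rw [SymplecticGroup.inv_eq_symplectic_inv A hA]
    rw [← Matrix.vecMul_vecMul, ← Matrix.vecMul_vecMul, Matrix.vecMul_neg, J_mulVec_vecMul_J,
      Matrix.neg_vecMul, Matrix.neg_vecMul, Matrix.vecMul_transpose, hv, Matrix.smul_vecMul, vecMul_J]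
    simp
  unfold Cfsg.sympTransvection
  rw [Matrix.mul_add, Matrix.mul_one, Matrix.add_mul, hinv, Matrix.mul_smul, Matrix.smul_mul,
    Matrix.mul_vecMulVec, Matrix.vecMulVec_mul, h1, hv]
  congr 1
  ext i j
  simp only [Matrix.smul_apply, Matrix.vecMulVec_apply, Pi.smul_apply, smul_eq_mul]
  ring

end Cfsg.Agent.Lib.Helper18
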