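import Mathlib
import Cfsg.Prelude.Def_ClassicalGeometry
import Cfsg.Agent.Lib.Helper18.Symp

set_option autoImplicit false

namespace Cfsg.Agent.Lib.Helper18

open Matrix

section
variable {F : Type*} [Field F] (m : ℕ)

local notation "V" => (Fin m ⊕ Fin m → F)
local notation "f" => Cfsg.sympForm m F

theorem sf_add_left (x y z : V) : f (x + y) z = f x z + f y z := by
  unfold Cfsg.sympForm; rw [add_dotProduct]

theorem sf_add_right (x y z : V) : f x (y + z) = f x y + f x z := by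
  unfold Cfsg.sympForm; rw [Matrix.mulVec_add, dotProduct_add]

theorem sf_smul_left (a : F) (x z : V) : f (a • x) z = a * f x z := by
  unfold Cfsg.sympForm; rw [smul_dotProduct, smul_eq_mul]

theorem sf_smul_right (a : F) (x z : V) : f x (a • z) = a * f x z := by
  unfold Cfsg.sympForm; rw [Matrix.mulVec_smul, dotProduct_smul, smul_eq_mul]

theorem sf_neg_left (x z : V) : f (-x) z = - f x z := by
  unfold Cfsg.sympForm; rw [neg_dotProduct]

theorem sf_neg_right (x z : V) : f x (-z) = - f x z := by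
  unfold Cfsg.sympForm; rw [Matrix.mulVec_neg, dotProduct_neg]

theorem sf_sub_left (x y z : V) : f (x - y) z = f x z - f y z := by
  rw [sub_eq_add_neg, sf_add_left, sf_neg_left, ← sub_eq_add_neg]

theorem sf_sub_right (x y z : V) : f x (y - z) = f x y - f x z := by
  rw [sub_eq_add_neg, sf_add_right, sf_neg_right, ← sub_eq_add_neg]

theorem sf_zero_left (z : V) : f 0 z = 0 := by
  unfold Cfsg.sympForm; rw [zero_dotProduct]

theorem sf_zero_right (z : V) : f z 0 = 0 := by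
  unfold Cfsg.sympForm; rw [Matrix.mulVec_zero, dotProduct_zero]

theorem sf_self (x : V) : f x x = 0 := sympForm_self m x

theorem sf_swap (x y : V) : f x y = - f y x := sympForm_swap m x y

/-- Action of a transvection. -/
theorem transv_mulVec (w : V) (c : F) (x : V) :
    Cfsg.sympTransvection m w c *ᵥ x = x + (c * f x w) • w := by
  unfold Cfsg.sympTransvection Cfsg.sympForm
  rw [Matrix.add_mulVec, Matrix.one_mulVec, Matrix.smul_mulVec, Matrix.vecMulVec_mulVec]
  rw [dotProduct_comm x]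
  ext i
  simp only [Pi.add_apply, Pi.smul_apply, smul_eq_mul, MulOpposite.smul_eq_mul_unop,
    MulOpposite.unop_op]
  ring

/-- Symplectic matrices preserve the form. -/
theorem sf_mulVec_of_mem (A : Matrix (Fin m ⊕ Fin m) (Fin m ⊕ Fin m) F)
    (hA : A ∈ Matrix.symplecticGroup (Fin m) F) (x y : V) : f (A *ᵥ x) (A *ᵥ y) = f x y := by
  unfold Cfsg.sympForm
  rw [SymplecticGroup.mem_iff'] at hA
  rw [Matrix.mulVec_mulVec]
  conv_lhs => rw [← Matrix.vecMul_transpose A x]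
  rw [← Matrix.dotProduct_mulVec, Matrix.mulVec_mulVec, ← Matrix.mul_assoc, hA]

/-- The transvection as an element of the symplectic group. -/
def tv (w : V) (c : F) : Matrix.symplecticGroup (Fin m) F :=
  ⟨Cfsg.sympTransvection m w c, sympTransvection_mem m w c⟩

theorem tv_val (w : V) (c : F) : ((tv m w c : Matrix.symplecticGroup (Fin m) F) :
    Matrix (Fin m ⊕ Fin m) (Fin m ⊕ Fin m) F) = Cfsg.sympTransvection m w c := rfl

theorem tv_inv (w : V) (c : F) : (tv m w c)⁻¹ = tv m w (-c) := by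
  apply inv_eq_of_mul_eq_one_right
  apply Subtype.ext
  show Cfsg.sympTransvection m w c * Cfsg.sympTransvection m w (-c) = 1
  rw [sympTransvection_mul, add_neg_cancel]
  unfold Cfsg.sympTransvection
  simp

/-- subgroup generated by the transvections with centre in `W`. -/
def TW (W : Submodule F V) : Subgroup (Matrix.symplecticGroup (Fin m) F) :=
  Subgroup.closure {A | ∃ w ∈ W, ∃ c : F,
    (A : Matrix (Fin m ⊕ Fin m) (Fin m ⊕ Fin m) F) = Cfsg.sympTransvection m w c}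

theorem tv_mem_TW (W : Submodule F V) (w : V) (hw : w ∈ W) (c : F) : tv m w c ∈ TW m W :=
  Subgroup.subset_closure ⟨w, hw, c, rfl⟩

theorem val_mul (A B : Matrix.symplecticGroup (Fin m) F) :
    ((A * B : Matrix.symplecticGroup (Fin m) F) : Matrix (Fin m ⊕ Fin m) (Fin m ⊕ Fin m) F) =
      (A : Matrix (Fin m ⊕ Fin m) (Fin m ⊕ Fin m) F) * (B : Matrix (Fin m ⊕ Fin m) (Fin m ⊕ Fin m) F) := rfl

theorem val_one : ((1 : Matrix.symplecticGroup (Fin m) F) :
    Matrix (Fin m ⊕ Fin m) (Fin m ⊕ Fin m) F) = 1 := rfl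

theorem inv_mulVec_mulVec (A : Matrix.symplecticGroup (Fin m) F) (x : V) :
    ((A⁻¹ : Matrix.symplecticGroup (Fin m) F) : Matrix (Fin m ⊕ Fin m) (Fin m ⊕ Fin m) F) *ᵥ
      ((A : Matrix (Fin m ⊕ Fin m) (Fin m ⊕ Fin m) F) *ᵥ x) = x := by
  rw [Matrix.mulVec_mulVec, ← val_mul, inv_mul_cancel, val_one, Matrix.one_mulVec]

theorem mulVec_inv_mulVec (A : Matrix.symplecticGroup (Fin m) F) (x : V) :
    (A : Matrix (Fin m ⊕ Fin m) (Fin m ⊕ Fin m) F) *ᵥ
      (((A⁻¹ : Matrix.symplecticGroup (Fin m) F) : Matrix (Fin m ⊕ Fin m) (Fin m ⊕ Fin m) F) *ᵥ x) = x := by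
  rw [Matrix.mulVec_mulVec, ← val_mul, mul_inv_cancel, val_one, Matrix.one_mulVec]

/-- elements of `TW W` fix every vector orthogonal to `W`. -/
theorem TW_fixes (W : Submodule F V) (A : Matrix.symplecticGroup (Fin m) F) (hA : A ∈ TW m W)
    (x : V) (hx : ∀ w ∈ W, f x w = 0) :
    (A : Matrix (Fin m ⊕ Fin m) (Fin m ⊕ Fin m) F) *ᵥ x = x := by
  unfold TW at hA
  induction hA using Subgroup.closure_induction with
  | mem A hA =>
    obtain ⟨w, hw, c, hAw⟩ := hA
    rw [hAw, transv_mulVec, hx w hw, mul_zero, zero_smul, add_zero]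
  | one => rw [val_one, Matrix.one_mulVec]
  | mul A B _ _ hA hB => rw [val_mul, ← Matrix.mulVec_mulVec, hB, hA]
  | inv A _ hA =>
    conv_lhs => rw [← hA]
    exact inv_mulVec_mulVec m A x

/-- elements of `TW W` map `W` to `W` (together with their inverses). -/
theorem TW_maps_aux (W : Submodule F V) (A : Matrix.symplecticGroup (Fin m) F) (hA : A ∈ TW m W) :
    ∀ x ∈ W, (A : Matrix (Fin m ⊕ Fin m) (Fin m ⊕ Fin m) F) *ᵥ x ∈ W ∧
      ((A⁻¹ : Matrix.symplecticGroup (Fin m) F) : Matrix (Fin m ⊕ Fin m) (Fin m ⊕ Fin m) F) *ᵥ x ∈ W := by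
  unfold TW at hA
  induction hA using Subgroup.closure_induction with
  | mem A hA =>
    obtain ⟨w, hw, c, hAw⟩ := hA
    intro x hx
    have hAeq : A = tv m w c := Subtype.ext hAw
    constructor
    · rw [hAw, transv_mulVec]
      exact W.add_mem hx (W.smul_mem _ hw)
    · rw [hAeq, tv_inv, tv_val, transv_mulVec]
      exact W.add_mem hx (W.smul_mem _ hw)
  | one =>
    intro x hx
    rw [inv_one, val_one, Matrix.one_mulVec]
    exact ⟨hx, hx⟩
  | mul A B _ _ hA hB =>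
    intro x hx
    constructor
    · rw [val_mul, ← Matrix.mulVec_mulVec]
      exact (hA _ (hB x hx).1).1
    · rw [_root_.mul_inv_rev, val_mul, ← Matrix.mulVec_mulVec]
      exact (hB _ (hA x hx).2).2
  | inv A _ hA =>
    intro x hx
    rw [inv_inv]
    exact ⟨(hA x hx).2, (hA x hx).1⟩

theorem TW_maps (W : Submodule F V) (A : Matrix.symplecticGroup (Fin m) F) (hA : A ∈ TW m W)
    (x : V) (hx : x ∈ W) : (A : Matrix (Fin m ⊕ Fin m) (Fin m ⊕ Fin m) F) *ᵥ x ∈ W :=
  (TW_maps_aux m W A hA x hx).1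

/-- reachability of vectors -/
def Reach (W : Submodule F V) (x y : V) : Prop :=
  ∃ A ∈ TW m W, (A : Matrix (Fin m ⊕ Fin m) (Fin m ⊕ Fin m) F) *ᵥ x = y

theorem Reach.trans' {W : Submodule F V} {x y z : V} (h1 : Reach m W x y) (h2 : Reach m W y z) :
    Reach m W x z := by
  obtain ⟨A, hA, rfl⟩ := h1
  obtain ⟨B, hB, rfl⟩ := h2
  exact ⟨B * A, (TW m W).mul_mem hB hA, by rw [val_mul, Matrix.mulVec_mulVec]⟩

theorem reach_step (W : Submodule F V) (x y : V) (hx : x ∈ W) (hy : y ∈ W) (h : f x y ≠ 0) :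
    Reach m W x y := by
  refine ⟨tv m (x - y) (f x y)⁻¹, tv_mem_TW m W _ (W.sub_mem hx hy) _, ?_⟩
  rw [tv_val, transv_mulVec, sf_sub_right, sf_self, zero_sub, mul_neg, inv_mul_cancel₀ h]
  simp

theorem reach_of_ne_zero (W : Submodule F V)
    (hnd : ∀ x ∈ W, x ≠ 0 → ∃ y ∈ W, f x y ≠ 0) (x y : V) (hx : x ∈ W) (hy : y ∈ W)
    (hx0 : x ≠ 0) (hy0 : y ≠ 0) : Reach m W x y := by
  by_cases hxy : f x y = 0
  · -- find an intermediate vector
    obtain ⟨y1, hy1W, hy1⟩ := hnd x hx hx0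
    obtain ⟨y2, hy2W, hy2⟩ := hnd y hy hy0
    have key : ∃ z ∈ W, f x z ≠ 0 ∧ f z y ≠ 0 := by
      by_cases h1 : f y y1 = 0
      · by_cases h2 : f x y2 = 0
        · refine ⟨y1 + y2, W.add_mem hy1W hy2W, ?_, ?_⟩
          · rw [sf_add_right, h2, add_zero]; exact hy1
          · rw [sf_swap, sf_add_right, h1, zero_add]; exact neg_ne_zero.mpr hy2
        · refine ⟨y2, hy2W, h2, ?_⟩
          rw [sf_swap]; exact neg_ne_zero.mpr hy2
      · refine ⟨y1, hy1W, hy1, ?_⟩
        rw [sf_swap]; exact neg_ne_zero.mpr h1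
    obtain ⟨z, hzW, hz1, hz2⟩ := key
    exact (reach_step m W x z hx hzW hz1).trans' m (reach_step m W z y hzW hy hz2)
  · exact reach_step m W x y hx hy hxy

/-- reachability of pairs -/
def Reach2 (W : Submodule F V) (u v u' v' : V) : Prop :=
  ∃ A ∈ TW m W, (A : Matrix (Fin m ⊕ Fin m) (Fin m ⊕ Fin m) F) *ᵥ u = u' ∧
    (A : Matrix (Fin m ⊕ Fin m) (Fin m ⊕ Fin m) F) *ᵥ v = v'

theorem Reach2.trans' {W : Submodule F V} {u v u' v' u'' v'' : V} (h1 : Reach2 m W u v u' v')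
    (h2 : Reach2 m W u' v' u'' v'') : Reach2 m W u v u'' v'' := by
  obtain ⟨A, hA, rfl, rfl⟩ := h1
  obtain ⟨B, hB, rfl, rfl⟩ := h2
  exact ⟨B * A, (TW m W).mul_mem hB hA, by rw [val_mul, Matrix.mulVec_mulVec],
    by rw [val_mul, Matrix.mulVec_mulVec]⟩

theorem reach2_step (W : Submodule F V) (u a b : V) (ha : a ∈ W) (hb : b ∈ W)
    (h1 : f u a = f u b) (h2 : f a b ≠ 0) : Reach2 m W u a u b := by
  refine ⟨tv m (a - b) (f a b)⁻¹, tv_mem_TW m W _ (W.sub_mem ha hb) _, ?_, ?_⟩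
  · rw [tv_val, transv_mulVec, sf_sub_right, h1, sub_self, mul_zero, zero_smul, add_zero]
  · rw [tv_val, transv_mulVec, sf_sub_right, sf_self, zero_sub, mul_neg, inv_mul_cancel₀ h2]
    simp

theorem reach2 (W : Submodule F V)
    (hnd : ∀ x ∈ W, x ≠ 0 → ∃ y ∈ W, f x y ≠ 0) (u v u' v' : V) (hu : u ∈ W) (hv : v ∈ W)
    (hu' : u' ∈ W) (hv' : v' ∈ W) (h : f u v = 1) (h' : f u' v' = 1) : Reach2 m W u v u' v' := by
  have hu0 : u ≠ 0 := by
    rintro rfl
    rw [sf_zero_left] at h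
    exact zero_ne_one h
  have hu'0 : u' ≠ 0 := by
    rintro rfl
    rw [sf_zero_left] at h'
    exact zero_ne_one h'
  obtain ⟨A1, hA1, hA1u⟩ := reach_of_ne_zero m W hnd u u' hu hu' hu0 hu'0
  set v1 := (A1 : Matrix (Fin m ⊕ Fin m) (Fin m ⊕ Fin m) F) *ᵥ v with hv1
  have hv1W : v1 ∈ W := TW_maps m W A1 hA1 v hv
  have hfv1 : f u' v1 = 1 := by
    rw [← hA1u, hv1, sf_mulVec_of_mem m _ A1.2, h]
  have first : Reach2 m W u v u' v1 := ⟨A1, hA1, hA1u, rfl⟩
  refine first.trans' m ?_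
  by_cases hcase : f v1 v' = 0
  · set v2 := v1 + u' with hv2
    have hv2W : v2 ∈ W := W.add_mem hv1W hu'
    have h12 : f v1 v2 ≠ 0 := by
      rw [hv2, sf_add_right, sf_self, zero_add, sf_swap, hfv1]
      exact neg_ne_zero.mpr one_ne_zero
    have hu2 : f u' v2 = 1 := by
      rw [hv2, sf_add_right, sf_self, add_zero, hfv1]
    have h2' : f v2 v' ≠ 0 := by
      rw [hv2, sf_add_left, hcase, zero_add, h']
      exact one_ne_zero
    exact (reach2_step m W u' v1 v2 hv1W hv2W (by rw [hfv1, hu2]) h12).trans' m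
      (reach2_step m W u' v2 v' hv2W hv' (by rw [hu2, h']) h2')
  · exact reach2_step m W u' v1 v' hv1W hv' (by rw [hfv1, h']) hcase

theorem sf_single_inr (x : V) (i : Fin m) : f x (Pi.single (Sum.inr i) 1) = - x (Sum.inl i) := by
  classical
  rw [sympForm_eq]
  simp [Pi.single_apply]

theorem sf_single_inl (x : V) (i : Fin m) : f x (Pi.single (Sum.inl i) 1) = x (Sum.inr i) := by
  classical
  rw [sympForm_eq]
  simp [Pi.single_apply]

theorem sf_nondeg_top (x : V) (hx : x ≠ 0) : ∃ y : V, f x y ≠ 0 := by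
  classical
  have : ∃ k, x k ≠ 0 := by
    by_contra hcon
    push Not at hcon
    exact hx (funext hcon)
  obtain ⟨k | k, hk⟩ := this
  · exact ⟨Pi.single (Sum.inr k) 1, by rw [sf_single_inr]; exact neg_ne_zero.mpr hk⟩
  · exact ⟨Pi.single (Sum.inl k) 1, by rw [sf_single_inl]; exact hk⟩

/-- the subgroup in the statements -/
theorem TW_le_closure (W : Submodule F V) :
    TW m W ≤ Subgroup.closure {A : Matrix.symplecticGroup (Fin m) F | ∃ (w : Fin m ⊕ Fin m → F) (c : F),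
      (A : Matrix (Fin m ⊕ Fin m) (Fin m ⊕ Fin m) F) = Cfsg.sympTransvection m w c} := by
  apply Subgroup.closure_mono
  rintro A ⟨w, _, c, h⟩
  exact ⟨w, c, h⟩

end

end Cfsg.Agent.Lib.Helper18
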