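import Mathlib

/-!
# K-S0688-5a: an elementary abelian normal section above a normal subgroup of a solvable group
-/

set_option autoImplicit false

namespace Cfsg.Agent.Lib.Helper18.NF

open scoped commutatorElement

variable {H : Type*} [Group H] [Finite H]

/-- K-S0688-5a. -/
theorem exists_elementary_section (hsolv : Group.IsSolvable H)
    (A N : Subgroup H) (hAn : A.Normal) (hNn : N.Normal) (hAN : A < N) :
    ∃ (B : Subgroup H) (r : ℕ), B.Normal ∧ r.Prime ∧ A < B ∧ B ≤ N ∧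
      (∀ x ∈ B, ∀ y ∈ B, x * y * x⁻¹ * y⁻¹ ∈ A) ∧ (∀ x ∈ B, x ^ r ∈ A) := by
  classical
  -- a minimal normal subgroup `B` with `A < B ≤ N`
  obtain ⟨B, ⟨hBn, hAB, hBN⟩, hmin⟩ := Set.exists_min_image
    {B : Subgroup H | B.Normal ∧ A < B ∧ B ≤ N} (fun B => Nat.card B) (Set.toFinite _)
    ⟨N, hNn, hAN, le_refl N⟩
  have hmin' : ∀ B' : Subgroup H, B'.Normal → A < B' → B' ≤ B → B' = B := by
    intro B' h1 h2 h3
    exact Subgroup.eq_of_le_of_card_ge h3 (hmin B' ⟨h1, h2, h3.trans hBN⟩)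
  -- the quotient by `A`
  let π : H →* H ⧸ A := QuotientGroup.mk' A
  have hπ : ∀ x : H, π x = 1 ↔ x ∈ A := fun x => QuotientGroup.eq_one_iff x
  have hKne : B.map π ≠ ⊥ := by
    intro h
    have : B ≤ A := by
      intro x hx
      have : π x ∈ B.map π := Subgroup.mem_map_of_mem π hx
      rw [h, Subgroup.mem_bot] at this
      exact (hπ x).1 this
    exact absurd (lt_of_lt_of_le hAB this) (lt_irrefl A)
  -- `[B, B] ≤ A`
  have hcomm : ⁅B, B⁆ ≤ A := by
    by_contra hnot
    have hCn : (⁅B, B⁆ ⊔ A).Normal := inferInstance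
    have hCB : ⁅B, B⁆ ⊔ A ≤ B := sup_le (Subgroup.commutator_le_left B B) hAB.le
    have hAC : A < ⁅B, B⁆ ⊔ A := by
      refine lt_of_le_of_ne le_sup_right ?_
      intro h
      apply hnot
      rw [h]
      exact le_sup_left
    have heq := hmin' _ hCn hAC hCB
    have h1 : ⁅B.map π, B.map π⁆ = B.map π := by
      rw [← Subgroup.map_commutator]
      conv_rhs => rw [← heq]
      rw [Subgroup.map_sup, QuotientGroup.map_mk'_self, sup_bot_eq]
    have h2 := Group.IsSolvable.commutator_lt_of_ne_bot hKne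
    rw [h1] at h2
    exact lt_irrefl _ h2
  have hKcomm : ∀ k ∈ B.map π, ∀ k' ∈ B.map π, k * k' = k' * k := by
    rintro _ ⟨x, hx, rfl⟩ _ ⟨y, hy, rfl⟩
    have h1 : ⁅x, y⁆ ∈ A := hcomm (Subgroup.commutator_mem_commutator hx hy)
    have h2 : π ⁅x, y⁆ = 1 := (hπ _).2 h1
    rw [map_commutatorElement, commutatorElement_eq_one_iff_mul_comm] at h2
    exact h2
  -- a prime `r` and an element of order `r` in `B / A`
  have hKnt : Nontrivial ↥(B.map π) := (Subgroup.nontrivial_iff_ne_bot _).2 hKne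
  have hcard1 : Nat.card ↥(B.map π) ≠ 1 := by
    intro h
    have := (Nat.card_eq_one_iff_unique.1 h).1
    exact not_subsingleton _ this
  obtain ⟨r, hr, hrd⟩ := Nat.exists_prime_and_dvd hcard1
  have : Fact r.Prime := ⟨hr⟩
  obtain ⟨k, hk⟩ := exists_prime_orderOf_dvd_card' (G := ↥(B.map π)) r hrd
  -- the subgroup of elements of `B` whose `r`-th power lies in `A`
  let T : Subgroup (H ⧸ A) :=
    { carrier := {k | k ∈ B.map π ∧ k ^ r = 1}
      one_mem' := ⟨Subgroup.one_mem _, one_pow r⟩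
      mul_mem' := by
        rintro a b ⟨ha, ha'⟩ ⟨hb, hb'⟩
        refine ⟨Subgroup.mul_mem _ ha hb, ?_⟩
        have hc : Commute a b := hKcomm a ha b hb
        rw [hc.mul_pow, ha', hb', one_mul]
      inv_mem' := by
        rintro a ⟨ha, ha'⟩
        exact ⟨Subgroup.inv_mem _ ha, by rw [inv_pow, ha', inv_one]⟩ }
  have hKn : (B.map π).Normal := Subgroup.Normal.map hBn π (QuotientGroup.mk'_surjective A)
  have hTn : T.Normal := by
    constructor
    rintro a ⟨ha, ha'⟩ g
    refine ⟨hKn.conj_mem a ha g, ?_⟩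
    rw [conj_pow, ha', mul_one, mul_inv_cancel]
  have hB'n : (B ⊓ T.comap π).Normal := inferInstance
  have hmemB' : ∀ x : H, x ∈ B ⊓ T.comap π ↔ x ∈ B ∧ x ^ r ∈ A := by
    intro x
    rw [Subgroup.mem_inf, Subgroup.mem_comap]
    constructor
    · rintro ⟨hx, -, hx2⟩
      refine ⟨hx, ?_⟩
      rw [← hπ, map_pow]; exact hx2
    · rintro ⟨hx, hx2⟩
      refine ⟨hx, Subgroup.mem_map_of_mem π hx, ?_⟩
      rw [← map_pow]; exact (hπ _).2 hx2
  have hAB' : A < B ⊓ T.comap π := by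
    obtain ⟨x, hxB, hxk⟩ := k.2
    have hkr : (k : H ⧸ A) ^ r = 1 := by
      have : k ^ r = 1 := hk ▸ pow_orderOf_eq_one k
      exact_mod_cast congrArg (fun z : ↥(B.map π) => (z : H ⧸ A)) this
    have hk1 : (k : H ⧸ A) ≠ 1 := by
      intro h
      have : k = 1 := Subtype.ext h
      rw [this, orderOf_one] at hk
      exact hr.one_lt.ne hk
    refine lt_of_le_of_ne ?_ ?_
    · intro a ha
      exact (hmemB' a).2 ⟨hAB.le ha, A.pow_mem ha r⟩
    · intro h
      have hxB' : x ∈ B ⊓ T.comap π := by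
        rw [hmemB']
        refine ⟨hxB, ?_⟩
        rw [← hπ, map_pow, hxk]; exact hkr
      rw [← h] at hxB'
      exact hk1 (hxk ▸ (hπ x).2 hxB')
  have hB'eq := hmin' _ hB'n hAB' inf_le_left
  refine ⟨B, r, hBn, hr, hAB, hBN, ?_, ?_⟩
  · intro x hx y hy
    have := hcomm (Subgroup.commutator_mem_commutator hx hy)
    rwa [commutatorElement_def] at this
  · intro x hx
    have : x ∈ B ⊓ T.comap π := by rw [hB'eq]; exact hx
    exact ((hmemB' x).1 this).2

end Cfsg.Agent.Lib.Helper18.NF
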