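import Mathlib
import Cfsg.Agent.Lib.Helper06.PMinAlt.Defs
import Cfsg.Agent.Lib.Helper86.PMinAltC1

/-!
# K-PMinAlt-C5a (keystone 293009): two disjoint invariant sets give `TwoOver`

`twoOver_of_invariant_sets_of` takes the leaf C1 as a hypothesis.
-/

set_option autoImplicit false
set_option linter.unusedSectionVars false

namespace Cfsg.Agent.Lib.Helper18.PMinAlt

open Equiv Equiv.Perm
open Cfsg.Agent.Lib.Helper06.PMinAlt

variable {α : Type*}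

/-- the setwise stabilizer of `Γ` -/
def setStab (Γ : Set α) : Subgroup (Perm α) where
  carrier := {g | ∀ x, g x ∈ Γ ↔ x ∈ Γ}
  mul_mem' := by
    intro a b ha hb x
    show a (b x) ∈ Γ ↔ x ∈ Γ
    rw [ha, hb]
  one_mem' := fun _ => Iff.rfl
  inv_mem' := by
    intro a ha x
    have h := ha (a⁻¹ x)
    have e1 : a (a⁻¹ x) = x := by simp
    rw [e1] at h
    exact h.symm

theorem mem_setStab {Γ : Set α} {g : Perm α} : g ∈ setStab Γ ↔ ∀ x, g x ∈ Γ ↔ x ∈ Γ := Iff.rfl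

/-- a permutation fixing `Γ` pointwise stabilizes `Γ` -/
theorem mem_setStab_of_fix {Γ : Set α} {g : Perm α} (h : ∀ x ∈ Γ, g x = x) : g ∈ setStab Γ := by
  intro x
  constructor
  · intro hx
    have h1 := h _ hx
    have h2 : g x = x := g.injective h1
    rw [← h2]; exact hx
  · intro hx
    rw [h x hx]; exact hx

/-- an invariant set of a subgroup is stabilized by it -/
theorem le_setStab {S : Subgroup (Perm α)} {Γ : Set α} (h : ∀ s ∈ S, ∀ x ∈ Γ, s x ∈ Γ) :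
    S ≤ setStab Γ := by
  intro s hs x
  constructor
  · intro hx
    have := h s⁻¹ (S.inv_mem hs) _ hx
    simpa using this
  · exact h s hs x

section fin
variable [Fintype α] [DecidableEq α]

/-- the 3-cycle `x ↦ ... ` with `v ↦ x` supported on `{x, v, z}` -/
theorem exists_threeCycle_fix {Γ : Set α} {v x z : α} (hv : v ∉ Γ) (hx : x ∉ Γ) (hz : z ∉ Γ)
    (hxv : x ≠ v) (hxz : x ≠ z) (hvz : v ≠ z) :
    ∃ t : Perm α, t.IsThreeCycle ∧ t v = x ∧ ∀ w ∈ Γ, t w = w := by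
  refine ⟨swap x v * swap x z, isThreeCycle_swap_mul_swap_same hxv hxz hvz, ?_, ?_⟩
  · rw [Perm.mul_apply, swap_apply_of_ne_of_ne hxv.symm hvz, swap_apply_right]
  · intro w hw
    have h1 : w ≠ x := fun h => hx (h ▸ hw)
    have h2 : w ≠ v := fun h => hv (h ▸ hw)
    have h3 : w ≠ z := fun h => hz (h ▸ hw)
    rw [Perm.mul_apply, swap_apply_of_ne_of_ne h1 h3, swap_apply_of_ne_of_ne h1 h2]

/-- a third point of a set with at least three elements -/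
theorem exists_third {T : Set α} (h3 : 3 ≤ T.ncard) (v x : α) : ∃ z ∈ T, z ≠ v ∧ z ≠ x := by
  have hfin : ({v, x} : Set α).Finite := Set.toFinite _
  have hle : ({v, x} : Set α).ncard ≤ 2 := by
    have := Set.ncard_insert_le v ({x} : Set α)
    rw [Set.ncard_singleton] at this
    exact this
  obtain ⟨z, hzT, hz⟩ := Set.exists_mem_notMem_of_ncard_lt_ncard (lt_of_le_of_lt hle h3) hfin
  refine ⟨z, hzT, ?_, ?_⟩
  · intro h; apply hz; rw [h]; exact Set.mem_insert _ _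
  · intro h; apply hz; rw [h]; exact Set.mem_insert_of_mem _ rfl

/-- `Stab(Γ) ∩ Alt` is proper in `Alt` when `Γ` is nonempty with at least two points outside -/
theorem setStab_inf_ne {Γ : Set α} (hne : Γ.Nonempty) (hc : 3 ≤ Γᶜ.ncard) :
    setStab Γ ⊓ alternatingGroup α ≠ alternatingGroup α := by
  obtain ⟨x, hx⟩ := hne
  obtain ⟨y, hyT, -, -⟩ := exists_third hc x x
  obtain ⟨z, hzT, hzx, hzy⟩ := exists_third hc x y
  have hyx : y ≠ x := fun h => hyT (h ▸ hx)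
  intro hEq
  have h3 : (swap y x * swap y z).IsThreeCycle :=
    isThreeCycle_swap_mul_swap_same hyx hzy.symm hzx.symm
  have hmem : swap y x * swap y z ∈ setStab Γ ⊓ alternatingGroup α := by
    rw [hEq]; exact h3.mem_alternatingGroup
  have h1 := (mem_setStab.mp hmem.1 z)
  have h2 : (swap y x * swap y z) z = x := by
    rw [Perm.mul_apply, swap_apply_right, swap_apply_left]
  rw [h2] at h1
  exact hzT (h1.mp hx)

/-- **K-PMinAlt-C5a** with the leaf C1 as a hypothesis. -/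
theorem twoOver_of_invariant_sets_of
    (hC1 : ∀ (N : Subgroup (Perm α)) (v : α),
      (∀ x, Relation.ReflTransGen (fun a b => ∃ t ∈ N, t.IsThreeCycle ∧ t a = b) v x) →
      alternatingGroup α ≤ N)
    (S : Subgroup (Perm α)) (hSA : S ≤ alternatingGroup α) (Γ₁ Γ₂ : Set α)
    (h1 : ∀ s ∈ S, ∀ x ∈ Γ₁, s x ∈ Γ₁) (h2 : ∀ s ∈ S, ∀ x ∈ Γ₂, s x ∈ Γ₂) (hne1 : Γ₁.Nonempty)
    (hne2 : Γ₂.Nonempty) (hdisj : Disjoint Γ₁ Γ₂) (hrest : (Γ₁ ∪ Γ₂)ᶜ.Nonempty) (hc1 : 3 ≤ Γ₁ᶜ.ncard)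
    (hc2 : 3 ≤ Γ₂ᶜ.ncard) : TwoOver S := by
  refine ⟨setStab Γ₁ ⊓ alternatingGroup α, setStab Γ₂ ⊓ alternatingGroup α,
    le_inf (le_setStab h1) hSA, le_inf (le_setStab h2) hSA, inf_le_right, inf_le_right,
    setStab_inf_ne hne1 hc1, setStab_inf_ne hne2 hc2, ?_⟩
  obtain ⟨v, hv⟩ := hrest
  have hv1 : v ∉ Γ₁ := fun h => hv (Or.inl h)
  have hv2 : v ∉ Γ₂ := fun h => hv (Or.inr h)
  apply hC1 _ v
  intro x
  by_cases hxv : x = v
  · rw [hxv]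
  apply Relation.ReflTransGen.single
  -- one step
  have key : ∀ Γ : Set α, 3 ≤ Γᶜ.ncard → v ∉ Γ → x ∉ Γ →
      ∃ t ∈ setStab Γ ⊓ alternatingGroup α, t.IsThreeCycle ∧ t v = x := by
    intro Γ hc hvΓ hxΓ
    obtain ⟨z, hzT, hzv, hzx⟩ := exists_third hc v x
    obtain ⟨t, ht3, htv, htfix⟩ := exists_threeCycle_fix hvΓ hxΓ hzT hxv hzx.symm hzv.symm
    exact ⟨t, ⟨mem_setStab_of_fix htfix, ht3.mem_alternatingGroup⟩, ht3, htv⟩
  by_cases hx1 : x ∈ Γ₁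
  · have hx2 : x ∉ Γ₂ := fun h => Set.disjoint_left.mp hdisj hx1 h
    obtain ⟨t, ht, ht3, htv⟩ := key Γ₂ hc2 hv2 hx2
    exact ⟨t, Subgroup.mem_sup_right ht, ht3, htv⟩
  · obtain ⟨t, ht, ht3, htv⟩ := key Γ₁ hc1 hv1 hx1
    exact ⟨t, Subgroup.mem_sup_left ht, ht3, htv⟩

/-- **K-PMinAlt-C5a** (keystone 293009). -/
theorem twoOver_of_invariant_sets (S : Subgroup (Perm α)) (hSA : S ≤ alternatingGroup α) (Γ₁ Γ₂ : Set α)
    (h1 : ∀ s ∈ S, ∀ x ∈ Γ₁, s x ∈ Γ₁) (h2 : ∀ s ∈ S, ∀ x ∈ Γ₂, s x ∈ Γ₂) (hne1 : Γ₁.Nonempty)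
    (hne2 : Γ₂.Nonempty) (hdisj : Disjoint Γ₁ Γ₂) (hrest : (Γ₁ ∪ Γ₂)ᶜ.Nonempty) (hc1 : 3 ≤ Γ₁ᶜ.ncard)
    (hc2 : 3 ≤ Γ₂ᶜ.ncard) : TwoOver S :=
  twoOver_of_invariant_sets_of
    (fun N v h => Cfsg.Agent.Lib.Helper86.PMinAlt.alternatingGroup_le_of_threeCycle_connected N v h)
    S hSA Γ₁ Γ₂ h1 h2 hne1 hne2 hdisj hrest hc1 hc2

end fin

end Cfsg.Agent.Lib.Helper18.PMinAlt
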