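import Mathlib
import Cfsg.Agent.Lib.Helper07.OrthKE

set_option autoImplicit false
set_option linter.unusedSectionVars false
set_option linter.unusedVariables false
set_option linter.style.longLine false

/-! Keystone K-S2720-T (architect helper7): `freeData_of_split`. A hyperbolic pair `L + L'` of totally
singular invariant subspaces with a Singer element on `L` yields `FreeData`. -/

namespace Cfsg.Agent.Lib.Helper18.S2720K

open Module Matrix Polynomial Cfsg.Agent.Lib.Helper07.KE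

section pure

variable {F : Type*} [Field F] {V : Type*} [AddCommGroup V] [Module F V]

theorem polar_map_map (Q : QuadraticForm F V) (σ : V →ₗ[F] V) (hσ : ∀ v, Q (σ v) = Q v) (x y : V) :
    QuadraticMap.polar (⇑Q) (σ x) (σ y) = QuadraticMap.polar (⇑Q) x y := by
  unfold QuadraticMap.polar
  rw [← map_add, hσ, hσ, hσ]

theorem polar_adj (Q : QuadraticForm F V) (σ σ' : V →ₗ[F] V) (hσ : ∀ v, Q (σ v) = Q v)
    (hσ'σ : ∀ v, σ (σ' v) = v) (x y : V) :
    QuadraticMap.polar (⇑Q) (σ x) y = QuadraticMap.polar (⇑Q) x (σ' y) := by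
  conv_lhs => rw [← hσ'σ y]
  exact polar_map_map Q σ hσ x (σ' y)

theorem polar_adj_pow (Q : QuadraticForm F V) (κ κ' : V →ₗ[F] V)
    (h : ∀ x y, QuadraticMap.polar (⇑Q) (κ x) y = QuadraticMap.polar (⇑Q) x (κ' y)) (n : ℕ)
    (x y : V) :
    QuadraticMap.polar (⇑Q) ((κ ^ n) x) y = QuadraticMap.polar (⇑Q) x ((κ' ^ n) y) := by
  induction n generalizing x y with
  | zero => simp
  | succ n ih =>
    rw [pow_succ', Module.End.mul_apply, h, ih, pow_succ, Module.End.mul_apply]

theorem polar_adj_aeval (Q : QuadraticForm F V) (σ σ' : V →ₗ[F] V) (hσ : ∀ v, Q (σ v) = Q v)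
    (hσ'σ : ∀ v, σ (σ' v) = v) (p : F[X]) (x y : V) :
    QuadraticMap.polar (⇑Q) (aeval σ p x) y = QuadraticMap.polar (⇑Q) x (aeval σ' p y) := by
  induction p using Polynomial.induction_on' with
  | add p q hp hq =>
    rw [map_add, map_add, LinearMap.add_apply, LinearMap.add_apply, QuadraticMap.polar_add_left,
      QuadraticMap.polar_add_right, hp, hq]
  | monomial n c =>
    rw [aeval_monomial, aeval_monomial, Module.End.mul_apply, Module.End.mul_apply,
      Module.algebraMap_end_apply, Module.algebraMap_end_apply, QuadraticMap.polar_smul_left,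
      QuadraticMap.polar_smul_right, polar_adj_pow Q σ σ' (polar_adj Q σ σ' hσ hσ'σ)]

theorem aeval_mem_of_invariant (σ : V →ₗ[F] V) (L : Submodule F V) (hσL : ∀ x ∈ L, σ x ∈ L)
    (p : F[X]) : ∀ x ∈ L, aeval σ p x ∈ L := by
  have hpow : ∀ (n : ℕ), ∀ x ∈ L, (σ ^ n) x ∈ L := by
    intro n
    induction n with
    | zero => intro x hx; simpa using hx
    | succ n ih =>
      intro x hx
      rw [pow_succ', Module.End.mul_apply]
      exact hσL _ (ih x hx)
  induction p using Polynomial.induction_on' with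
  | add p q hp hq =>
    intro x hx
    rw [map_add, LinearMap.add_apply]
    exact L.add_mem (hp x hx) (hq x hx)
  | monomial n c =>
    intro x hx
    rw [aeval_monomial, Module.End.mul_apply, Module.algebraMap_end_apply]
    exact L.smul_mem c (hpow n x hx)

theorem pow_mem_of_invariant (κ : V →ₗ[F] V) (L : Submodule F V) (hκL : ∀ x ∈ L, κ x ∈ L)
    (n : ℕ) : ∀ x ∈ L, (κ ^ n) x ∈ L := by
  induction n with
  | zero => intro x hx; simpa using hx
  | succ n ih =>
    intro x hx
    rw [pow_succ', Module.End.mul_apply]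
    exact hκL _ (ih x hx)

theorem aeval_comm_of_comm (σ τ : V →ₗ[F] V) (h : ∀ v, σ (τ v) = τ (σ v)) (p : F[X]) (v : V) :
    σ (aeval τ p v) = aeval τ p (σ v) := by
  have hpow : ∀ (n : ℕ) (v : V), σ ((τ ^ n) v) = (τ ^ n) (σ v) := by
    intro n
    induction n with
    | zero => intro v; simp
    | succ n ih =>
      intro v
      rw [pow_succ', Module.End.mul_apply, Module.End.mul_apply, h, ih]
  induction p using Polynomial.induction_on' with
  | add p q hp hq =>
    rw [map_add, LinearMap.add_apply, LinearMap.add_apply, map_add, hp, hq]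
  | monomial n c =>
    rw [aeval_monomial, Module.End.mul_apply, Module.End.mul_apply, Module.algebraMap_end_apply,
      Module.algebraMap_end_apply, map_smul, hpow]

/-- the inverse of an injective operator preserves a finite dimensional invariant subspace -/
theorem inv_mem_of_invariant [FiniteDimensional F V] (σ σ' : V →ₗ[F] V) (hσσ' : ∀ v, σ' (σ v) = v)
    (L : Submodule F V) (hσL : ∀ x ∈ L, σ x ∈ L) : ∀ y ∈ L, σ' y ∈ L := by
  intro y hy
  let ρ : L →ₗ[F] L := σ.restrict hσL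
  have hinj : Function.Injective ρ := by
    intro a b hab
    have h1 : σ (a : V) = σ (b : V) := congrArg Subtype.val hab
    have h2 := congrArg σ' h1
    rw [hσσ', hσσ'] at h2
    exact Subtype.ext h2
  have hsurj : Function.Surjective ρ := LinearMap.injective_iff_surjective.mp hinj
  obtain ⟨a, ha⟩ := hsurj ⟨y, hy⟩
  have h1 : σ (a : V) = y := congrArg Subtype.val ha
  rw [← h1, hσσ']
  exact a.2


theorem comm_pow_of_comm (σ τ : V →ₗ[F] V) (h : ∀ v, σ (τ v) = τ (σ v)) (n : ℕ) (v : V) :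
    σ ((τ ^ n) v) = (τ ^ n) (σ v) := by
  induction n generalizing v with
  | zero => simp
  | succ n ih =>
    rw [pow_succ', Module.End.mul_apply, Module.End.mul_apply, h, ih]

theorem pow_fix_of_fix (κ : V →ₗ[F] V) (x : V) (h : κ x = x) (n : ℕ) : (κ ^ n) x = x := by
  induction n with
  | zero => simp
  | succ n ih => rw [pow_succ, Module.End.mul_apply, h, ih]

theorem exists_decomp (L L' W' : Submodule F V) (hc : IsCompl (L ⊔ L') W') (v : V) :
    ∃ x ∈ L, ∃ y ∈ L', ∃ z ∈ W', v = x + y + z := by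
  have hv : v ∈ (L ⊔ L') ⊔ W' := by rw [hc.sup_eq_top]; exact Submodule.mem_top
  obtain ⟨w, hw, z, hz, rfl⟩ := Submodule.mem_sup.mp hv
  obtain ⟨x, hx, y, hy, rfl⟩ := Submodule.mem_sup.mp hw
  exact ⟨x, hx, y, hy, z, hz, rfl⟩

theorem decomp_unique (L L' : Submodule F V) (hLL' : Disjoint L L') {x x₁ y y₁ : V} (hx : x ∈ L)
    (hx₁ : x₁ ∈ L) (hy : y ∈ L') (hy₁ : y₁ ∈ L') (h : x + y = x₁ + y₁) : x = x₁ ∧ y = y₁ := by
  have h1 : x - x₁ = y₁ - y := by
    rw [sub_eq_sub_iff_add_eq_add, h, add_comm]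
  have h2 : x - x₁ = 0 := by
    apply (Submodule.disjoint_def.mp hLL') _ (L.sub_mem hx hx₁)
    rw [h1]
    exact L'.sub_mem hy₁ hy
  have h3 : y₁ - y = 0 := by rw [← h1, h2]
  exact ⟨sub_eq_zero.mp h2, (sub_eq_zero.mp h3).symm⟩

theorem exists_glue (L L' W' : Submodule F V) (hLL' : Disjoint L L') (hc : IsCompl (L ⊔ L') W')
    (a b : V →ₗ[F] V) :
    ∃ g : V →ₗ[F] V, ∀ x ∈ L, ∀ y ∈ L', ∀ z ∈ W', g (x + y + z) = a x + b y + z := by
  have hc1 : IsCompl L (L' ⊔ W') := by
    refine ⟨hLL'.disjoint_sup_right_of_disjoint_sup_left hc.disjoint, ?_⟩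
    rw [codisjoint_iff, ← sup_assoc]
    exact hc.sup_eq_top
  have hc2 : IsCompl L' (L ⊔ W') := by
    have hd : Disjoint (L' ⊔ L) W' := by rw [sup_comm]; exact hc.disjoint
    refine ⟨hLL'.symm.disjoint_sup_right_of_disjoint_sup_left hd, ?_⟩
    rw [codisjoint_iff, ← sup_assoc, sup_comm L' L]
    exact hc.sup_eq_top
  refine ⟨LinearMap.id + (a - LinearMap.id) ∘ₗ (L.projection _ hc1) +
    (b - LinearMap.id) ∘ₗ (L'.projection _ hc2), ?_⟩
  intro x hx y hy z hz
  have hP : L.projection _ hc1 (x + y + z) = x := by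
    rw [add_assoc, map_add, Submodule.projection_apply_of_mem_left hc1 hx,
      Submodule.projection_apply_of_mem_right hc1 (Submodule.add_mem_sup hy hz), add_zero]
  have hP' : L'.projection _ hc2 (x + y + z) = y := by
    have : x + y + z = y + (x + z) := by abel
    rw [this, map_add, Submodule.projection_apply_of_mem_left hc2 hy,
      Submodule.projection_apply_of_mem_right hc2 (Submodule.add_mem_sup hx hz), add_zero]
  simp only [LinearMap.add_apply, LinearMap.comp_apply, LinearMap.sub_apply, LinearMap.id_apply,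
    hP, hP']
  abel

end pure

section count

variable {F : Type*} [Field F] [Fintype F]

/-- all fibres of a nonzero linear functional on a finite space have `|E| / |F|` elements -/
theorem card_fiber_functional {E : Type*} [AddCommGroup E] [Module F E] [Finite E]
    (φ : E →ₗ[F] F) (hφ : φ ≠ 0) (b : F) :
    Fintype.card F * Nat.card {y : E // φ y = b} = Nat.card E := by
  classical
  obtain ⟨y₀, hy₀⟩ : ∃ y₀, φ y₀ ≠ 0 := by
    by_contra hcon
    push Not at hcon
    exact hφ (LinearMap.ext hcon)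
  obtain ⟨y₁, hy₁⟩ : ∃ y₁, φ y₁ = 1 :=
    ⟨(φ y₀)⁻¹ • y₀, by rw [map_smul, smul_eq_mul, inv_mul_cancel₀ hy₀]⟩
  let e : E ≃ F × {y : E // φ y = b} :=
    { toFun := fun y => (φ y, ⟨y - (φ y - b) • y₁, by
        rw [map_sub, map_smul, hy₁, smul_eq_mul, mul_one]; ring⟩)
      invFun := fun p => (p.2 : E) + (p.1 - b) • y₁
      left_inv := fun y => by simp
      right_inv := fun p => by
        obtain ⟨a, ⟨y, hy⟩⟩ := p
        have h1 : φ (y + (a - b) • y₁) = a := by
          rw [map_add, map_smul, hy₁, hy, smul_eq_mul, mul_one]; ring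
        apply Prod.ext
        · exact h1
        · apply Subtype.ext
          show y + (a - b) • y₁ - (φ (y + (a - b) • y₁) - b) • y₁ = y
          rw [h1]
          abel }
  rw [Nat.card_congr e, Nat.card_prod, Nat.card_eq_fintype_card (α := F)]

open Classical in
/-- the number of nonzero pairs `(x, y)` with `β x y = b` for a left-nondegenerate pairing -/
theorem card_pairs {E₁ E₂ : Type*} [AddCommGroup E₁] [Module F E₁] [Finite E₁]
    [AddCommGroup E₂] [Module F E₂] [Finite E₂] (β : E₁ →ₗ[F] E₂ →ₗ[F] F)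
    (hβ : ∀ x, (∀ y, β x y = 0) → x = 0) (c : ℕ) (hc : Fintype.card F * c = Nat.card E₂) (b : F) :
    Nat.card {p : E₁ × E₂ // p ≠ 0 ∧ β p.1 p.2 = b} =
      (Nat.card E₁ - 1) * c + (if b = 0 then (Nat.card E₂ - 1) else 0) := by
  have : Fintype E₁ := Fintype.ofFinite E₁
  have : Fintype E₂ := Fintype.ofFinite E₂
  have hq : 0 < Fintype.card F := Fintype.card_pos
  -- sigma decomposition
  let e : {p : E₁ × E₂ // p ≠ 0 ∧ β p.1 p.2 = b} ≃
      Σ x : E₁, {y : E₂ // (x, y) ≠ (0 : E₁ × E₂) ∧ β x y = b} :=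
    { toFun := fun p => ⟨p.1.1, ⟨p.1.2, p.2⟩⟩
      invFun := fun s => ⟨(s.1, s.2.1), s.2.2⟩
      left_inv := fun p => rfl
      right_inv := fun s => rfl }
  rw [Nat.card_congr e, Nat.card_sigma]
  -- the fibres
  have hfib : ∀ x : E₁, x ≠ 0 →
      Nat.card {y : E₂ // (x, y) ≠ (0 : E₁ × E₂) ∧ β x y = b} = c := by
    intro x hx
    have h1 : Nat.card {y : E₂ // (x, y) ≠ (0 : E₁ × E₂) ∧ β x y = b} =
        Nat.card {y : E₂ // β x y = b} := by
      apply Nat.card_congr
      apply Equiv.subtypeEquivRight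
      intro y
      constructor
      · exact fun h => h.2
      · intro h
        refine ⟨fun h0 => hx (congrArg Prod.fst h0), h⟩
    have hne : β x ≠ 0 := by
      intro h0
      apply hx
      apply hβ
      intro y
      rw [h0]; rfl
    have h2 := card_fiber_functional (β x) hne b
    rw [h1]
    have h3 : Fintype.card F * Nat.card {y : E₂ // (β x) y = b} = Fintype.card F * c := by
      rw [h2, hc]
    exact Nat.eq_of_mul_eq_mul_left hq h3
  have hfib0 : Nat.card {y : E₂ // ((0 : E₁), y) ≠ (0 : E₁ × E₂) ∧ β 0 y = b} =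
      if b = 0 then Nat.card E₂ - 1 else 0 := by
    split_ifs with hb
    · have h1 : Nat.card {y : E₂ // ((0 : E₁), y) ≠ (0 : E₁ × E₂) ∧ β 0 y = b} =
          Nat.card {y : E₂ // y ≠ 0} := by
        apply Nat.card_congr
        apply Equiv.subtypeEquivRight
        intro y
        constructor
        · intro h h0
          apply h.1
          rw [h0]; rfl
        · intro h
          refine ⟨fun h0 => h (congrArg Prod.snd h0), ?_⟩
          rw [map_zero, hb]; rfl
      rw [h1]
      have h2 : Nat.card {y : E₂ // y ≠ 0} = Nat.card ↥(({0} : Set E₂)ᶜ) := rfl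
      rw [h2, Nat.card_coe_set_eq, Set.ncard_compl, Set.ncard_singleton]
    · have : IsEmpty {y : E₂ // ((0 : E₁), y) ≠ (0 : E₁ × E₂) ∧ β 0 y = b} := by
        constructor
        rintro ⟨y, _, hy⟩
        rw [map_zero] at hy
        exact hb hy.symm
      exact Nat.card_of_isEmpty
  rw [← Finset.add_sum_erase Finset.univ _ (Finset.mem_univ (0 : E₁)), hfib0]
  have hrest : ∑ x ∈ Finset.univ.erase (0 : E₁),
      Nat.card {y : E₂ // (x, y) ≠ (0 : E₁ × E₂) ∧ β x y = b} = (Nat.card E₁ - 1) * c := by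
    rw [Finset.sum_congr rfl (fun x hx => hfib x (Finset.ne_of_mem_erase hx)), Finset.sum_const,
      Finset.card_erase_of_mem (Finset.mem_univ _), Finset.card_univ, smul_eq_mul,
      Nat.card_eq_fintype_card]
  rw [hrest, add_comm]

end count

section abstract

variable {F : Type*} [Field F] [Fintype F] {V : Type*} [AddCommGroup V] [Module F V]
  [FiniteDimensional F V]

theorem freeData_of_split (h2 : (2 : F) ≠ 0) (Q : QuadraticForm F V)
    (hQ : (QuadraticMap.polarBilin Q).Nondegenerate) (σ σ' : V →ₗ[F] V)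
    (hσ : ∀ v, Q (σ v) = Q v) (hσσ' : ∀ v, σ' (σ v) = v) (hσ'σ : ∀ v, σ (σ' v) = v)
    (L L' : Submodule F V) (hLL' : Disjoint L L') (hσL : ∀ x ∈ L, σ x ∈ L)
    (hσL' : ∀ x ∈ L', σ x ∈ L') (hL : ∀ x ∈ L, Q x = 0) (hL' : ∀ x ∈ L', Q x = 0)
    (hpair : ∀ x ∈ L, (∀ y ∈ L', QuadraticMap.polar (⇑Q) x y = 0) → x = 0)
    (hpair' : ∀ y ∈ L', (∀ x ∈ L, QuadraticMap.polar (⇑Q) x y = 0) → y = 0) (hL0 : L ≠ ⊥)
    (f : F[X]) (hf1 : ∀ x ∈ L, ((aeval σ f) ^ (Nat.card L - 1)) x = x)
    (hf2 : ∀ x ∈ L, x ≠ 0 → ∀ j : ℕ, 0 < j → j < Nat.card L - 1 → ((aeval σ f) ^ j) x ≠ x) :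
    FreeData Q σ := by
  classical
  have hfinV : Finite V := Module.finite_of_finite F
  obtain ⟨n, hn⟩ : ∃ n, n = Nat.card L - 1 := ⟨_, rfl⟩
  rw [← hn] at hf1 hf2
  obtain ⟨κ, hκ⟩ : ∃ κ : V →ₗ[F] V, κ = aeval σ f := ⟨_, rfl⟩
  obtain ⟨κ', hκ'⟩ : ∃ κ' : V →ₗ[F] V, κ' = aeval σ' f := ⟨_, rfl⟩
  rw [← hκ] at hf1 hf2
  have hadj : ∀ x y, QuadraticMap.polar (⇑Q) (κ x) y = QuadraticMap.polar (⇑Q) x (κ' y) := by
    intro x y; rw [hκ, hκ']; exact polar_adj_aeval Q σ σ' hσ hσ'σ f x y
  have hσ'L : ∀ x ∈ L, σ' x ∈ L := inv_mem_of_invariant σ σ' hσσ' L hσL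
  have hσ'L' : ∀ x ∈ L', σ' x ∈ L' := inv_mem_of_invariant σ σ' hσσ' L' hσL'
  have hκL : ∀ x ∈ L, κ x ∈ L := by rw [hκ]; exact aeval_mem_of_invariant σ L hσL f
  have hκ'L' : ∀ y ∈ L', κ' y ∈ L' := by rw [hκ']; exact aeval_mem_of_invariant σ' L' hσ'L' f
  have hpolLL : ∀ x ∈ L, ∀ x₁ ∈ L, QuadraticMap.polar (⇑Q) x x₁ = 0 := by
    intro x hx x₁ hx₁
    unfold QuadraticMap.polar
    rw [hL _ (L.add_mem hx hx₁), hL x hx, hL x₁ hx₁]; simp
  have hpolL'L' : ∀ y ∈ L', ∀ y₁ ∈ L', QuadraticMap.polar (⇑Q) y y₁ = 0 := by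
    intro x hx x₁ hx₁
    unfold QuadraticMap.polar
    rw [hL' _ (L'.add_mem hx hx₁), hL' x hx, hL' x₁ hx₁]; simp
  -- `κ'^n = 1` on `L'`
  have hκ'n : ∀ y ∈ L', (κ' ^ n) y = y := by
    intro y hy
    have hmem : (κ' ^ n) y - y ∈ L' := L'.sub_mem (pow_mem_of_invariant κ' L' hκ'L' n y hy) hy
    have h0 := hpair' _ hmem (by
      intro x hx
      rw [QuadraticMap.polar_sub_right, ← polar_adj_pow Q κ κ' hadj n x y, hf1 x hx, sub_self])
    exact sub_eq_zero.mp h0
  -- cardinalities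
  obtain ⟨q, hq⟩ : ∃ q, q = Fintype.card F := ⟨_, rfl⟩
  have hqodd : Odd q := by
    rw [hq, Nat.odd_iff]
    apply FiniteField.odd_card_of_char_ne_two
    intro h
    apply h2
    have := CharP.cast_eq_zero F (ringChar F)
    rw [h] at this
    exact_mod_cast this
  obtain ⟨d, hd⟩ : ∃ d, d = finrank F L := ⟨_, rfl⟩
  have hd0 : 0 < d := by
    rcases Nat.eq_zero_or_pos d with h | h
    · exfalso; apply hL0
      rw [hd] at h
      exact Submodule.finrank_eq_zero.mp h
    · exact h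
  have hcardL : Nat.card L = q ^ d := by
    rw [Module.natCard_eq_pow_finrank (K := F), Nat.card_eq_fintype_card, hq, hd]
  -- the pairing
  obtain ⟨Bf, hBf⟩ : ∃ Bf : LinearMap.BilinForm F V, Bf = QuadraticMap.polarBilin Q := ⟨_, rfl⟩
  have hBfapp : ∀ x y, Bf x y = QuadraticMap.polar (⇑Q) x y := by
    intro x y; rw [hBf]; rfl
  obtain ⟨β, hβdef⟩ : ∃ β : L →ₗ[F] L' →ₗ[F] F, β = Bf.domRestrict₁₂ L L' := ⟨_, rfl⟩
  have hβapp : ∀ (x : L) (y : L'), β x y = QuadraticMap.polar (⇑Q) (x : V) (y : V) := by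
    intro x y; rw [hβdef, LinearMap.domRestrict₁₂_apply, hBfapp]
  have hβ : ∀ x : L, (∀ y : L', β x y = 0) → x = 0 := by
    intro x hx
    apply Subtype.ext
    apply hpair x x.2
    intro y hy
    have := hx ⟨y, hy⟩
    rwa [hβapp] at this
  have hβ' : ∀ y : L', (∀ x : L, β x y = 0) → y = 0 := by
    intro y hy
    apply Subtype.ext
    apply hpair' y y.2
    intro x hx
    have := hy ⟨x, hx⟩
    rwa [hβapp] at this
  have hfr1 : finrank F L ≤ finrank F L' := by
    have hinj : Function.Injective β := by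
      rw [← LinearMap.ker_eq_bot, LinearMap.ker_eq_bot']
      intro x hx
      apply hβ
      intro y
      rw [hx]; rfl
    have := LinearMap.finrank_le_finrank_of_injective hinj
    rwa [Subspace.dual_finrank_eq] at this
  have hfr2 : finrank F L' ≤ finrank F L := by
    have hinj : Function.Injective β.flip := by
      rw [← LinearMap.ker_eq_bot, LinearMap.ker_eq_bot']
      intro y hy
      apply hβ'
      intro x
      have : β.flip y x = 0 := by rw [hy]; rfl
      exact this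
    have := LinearMap.finrank_le_finrank_of_injective hinj
    rwa [Subspace.dual_finrank_eq] at this
  have hcardL' : Nat.card L' = q ^ d := by
    rw [Module.natCard_eq_pow_finrank (K := F), Nat.card_eq_fintype_card, hq, hd,
      le_antisymm hfr2 hfr1]
  have hq1 : 1 < q := by rw [hq]; exact Fintype.one_lt_card
  have hn1 : n + 1 = q ^ d := by
    rw [hn, hcardL]
    exact Nat.sub_add_cancel (Nat.one_le_pow _ _ (by omega))
  have hneven : Even n := by
    have : Odd (n + 1) := by rw [hn1]; exact hqodd.pow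
    rcases Nat.even_or_odd n with h | h
    · exact h
    · exfalso
      have := h.add_odd (odd_one)
      exact (Nat.not_even_iff_odd.mpr ‹Odd (n + 1)›) this
  have hnpos : 0 < n := by
    have : q ^ 1 ≤ q ^ d := Nat.pow_le_pow_right (by omega) hd0
    rw [pow_one] at this
    omega
  -- `W`, `W'`
  have hrefl : Bf.IsRefl := by
    intro x y h
    rw [hBfapp] at h ⊢
    rw [QuadraticMap.polar_comm]; exact h
  obtain ⟨W, hW⟩ : ∃ W, W = L ⊔ L' := ⟨_, rfl⟩
  obtain ⟨W', hW'⟩ : ∃ W', W' = Bf.orthogonal W := ⟨_, rfl⟩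
  have hmemW' : ∀ z, z ∈ W' ↔ ∀ w ∈ W, QuadraticMap.polar (⇑Q) w z = 0 := by
    intro z; rw [hW', LinearMap.BilinForm.mem_orthogonal_iff]
    constructor
    · intro h w hw; rw [← hBfapp]; exact h w hw
    · intro h w hw; show Bf w z = 0; rw [hBfapp]; exact h w hw
  have hLW : L ≤ W := by rw [hW]; exact le_sup_left
  have hL'W : L' ≤ W := by rw [hW]; exact le_sup_right
  have hdisj : Disjoint W W' := by
    rw [Submodule.disjoint_def]
    intro w hw hw'
    rw [hW] at hw
    obtain ⟨x, hx, y, hy, rfl⟩ := Submodule.mem_sup.mp hw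
    rw [hmemW'] at hw'
    have hy0 : y = 0 := by
      apply hpair' y hy
      intro x₁ hx₁
      have := hw' x₁ (hLW hx₁)
      rw [QuadraticMap.polar_add_right, hpolLL x₁ hx₁ x hx, zero_add] at this
      exact this
    have hx0 : x = 0 := by
      apply hpair x hx
      intro y₁ hy₁
      have := hw' y₁ (hL'W hy₁)
      rw [QuadraticMap.polar_add_right, hpolL'L' y₁ hy₁ y hy, add_zero,
        QuadraticMap.polar_comm] at this
      exact this
    rw [hx0, hy0, add_zero]
  have hcompl : IsCompl W W' := by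
    rw [hW']; rw [hW'] at hdisj
    exact (LinearMap.BilinForm.isCompl_orthogonal_iff_disjoint hrefl).mpr hdisj
  have hcompl' : IsCompl (L ⊔ L') W' := by rw [← hW]; exact hcompl
  obtain ⟨μ, hμ⟩ : ∃ μ : V →ₗ[F] V, μ = κ' ^ (n - 1) := ⟨_, rfl⟩
  have hμL' : ∀ y ∈ L', μ y ∈ L' := by rw [hμ]; exact pow_mem_of_invariant κ' L' hκ'L' (n - 1)
  have hκ'μ : ∀ y ∈ L', κ' (μ y) = y := by
    intro y hy
    have : κ' (μ y) = (κ' ^ n) y := by
      rw [hμ, ← Module.End.mul_apply, ← pow_succ', Nat.sub_add_cancel hnpos]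
    rw [this, hκ'n y hy]
  obtain ⟨g, hg⟩ := exists_glue L L' W' hLL' hcompl' κ μ
  have hdec : ∀ v, ∃ x ∈ L, ∃ y ∈ L', ∃ z ∈ W', v = x + y + z := exists_decomp L L' W' hcompl'
  have hQform : ∀ x ∈ L, ∀ y ∈ L', ∀ z ∈ W',
      Q (x + y + z) = QuadraticMap.polar (⇑Q) x y + Q z := by
    intro x hx y hy z hz
    have h1 : QuadraticMap.polar (⇑Q) (x + y) z = 0 :=
      (hmemW' z).mp hz (x + y) (by rw [hW]; exact Submodule.add_mem_sup hx hy)
    have h2 : Q (x + y + z) = Q (x + y) + Q z + QuadraticMap.polar (⇑Q) (x + y) z := by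
      unfold QuadraticMap.polar; ring
    have h3 : Q (x + y) = Q x + Q y + QuadraticMap.polar (⇑Q) x y := by
      unfold QuadraticMap.polar; ring
    rw [h2, h3, h1, hL x hx, hL' y hy]; ring
  -- `W'` is invariant under `σ`
  have hσW : ∀ w ∈ W, σ' w ∈ W := by
    intro w hw
    rw [hW] at hw ⊢
    obtain ⟨x, hx, y, hy, rfl⟩ := Submodule.mem_sup.mp hw
    rw [map_add]
    exact Submodule.add_mem_sup (hσ'L x hx) (hσ'L' y hy)
  have hσW' : ∀ z ∈ W', σ z ∈ W' := by
    intro z hz
    rw [hmemW'] at hz ⊢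
    intro w hw
    have := hz (σ' w) (hσW w hw)
    rw [← polar_map_map Q σ hσ, hσ'σ] at this
    exact this
  -- the first two properties
  have hgiso : ∀ v, Q (g v) = Q v := by
    intro v
    obtain ⟨x, hx, y, hy, z, hz, rfl⟩ := hdec v
    rw [hg x hx y hy z hz, hQform (κ x) (hκL x hx) (μ y) (hμL' y hy) z hz, hQform x hx y hy z hz,
      hadj, hκ'μ y hy]
  have hσκ : ∀ v, σ (κ v) = κ (σ v) := by
    intro v; rw [hκ]; exact aeval_comm_of_comm σ σ (fun _ => rfl) f v
  have hσκ' : ∀ v, σ (κ' v) = κ' (σ v) := by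
    intro v; rw [hκ']
    exact aeval_comm_of_comm σ σ' (fun v => by rw [hσ'σ, hσσ']) f v
  have hσμ : ∀ v, σ (μ v) = μ (σ v) := by
    intro v; rw [hμ]; exact comm_pow_of_comm σ κ' hσκ' (n - 1) v
  have hgσ : ∀ v, g (σ v) = σ (g v) := by
    intro v
    obtain ⟨x, hx, y, hy, z, hz, rfl⟩ := hdec v
    have e1 : σ (x + y + z) = σ x + σ y + σ z := by rw [map_add, map_add]
    rw [e1, hg (σ x) (hσL x hx) (σ y) (hσL' y hy) (σ z) (hσW' z hz), hg x hx y hy z hz, map_add,
      map_add, hσκ, hσμ]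
  -- powers of `g`
  have hgpow : ∀ (j : ℕ), ∀ x ∈ L, ∀ y ∈ L', ∀ z ∈ W',
      (g ^ j) (x + y + z) = (κ ^ j) x + (μ ^ j) y + z := by
    intro j
    induction j with
    | zero => intro x hx y hy z hz; simp
    | succ j ih =>
      intro x hx y hy z hz
      rw [pow_succ', Module.End.mul_apply, ih x hx y hy z hz,
        hg _ (pow_mem_of_invariant κ L hκL j x hx) _ (pow_mem_of_invariant μ L' hμL' j y hy) z hz,
        pow_succ', pow_succ', Module.End.mul_apply, Module.End.mul_apply]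
  have hgW : ∀ x ∈ W, g x ∈ W := by
    intro w hw
    rw [hW] at hw ⊢
    obtain ⟨x, hx, y, hy, rfl⟩ := Submodule.mem_sup.mp hw
    have := hg x hx y hy 0 W'.zero_mem
    rw [add_zero, add_zero] at this
    rw [this]
    exact Submodule.add_mem_sup (hκL x hx) (hμL' y hy)
  have hgW' : ∀ y ∈ W', g y = y := by
    intro z hz
    have := hg 0 L.zero_mem 0 L'.zero_mem z hz
    rw [map_zero, map_zero, zero_add, zero_add] at this
    exact this
  have hμn : ∀ y ∈ L', (μ ^ n) y = y := by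
    intro y hy
    have : μ ^ n = (κ' ^ n) ^ (n - 1) := by rw [hμ, ← pow_mul, ← pow_mul, mul_comm]
    rw [this]
    exact pow_fix_of_fix (κ' ^ n) y (hκ'n y hy) (n - 1)
  have hgk : ∀ x ∈ W, (g ^ n) x = x := by
    intro w hw
    rw [hW] at hw
    obtain ⟨x, hx, y, hy, rfl⟩ := Submodule.mem_sup.mp hw
    have := hgpow n x hx y hy 0 W'.zero_mem
    rw [add_zero, add_zero] at this
    rw [this, hf1 x hx, hμn y hy]
  have hfree : ∀ x ∈ W, x ≠ 0 → ∀ j : ℕ, 0 < j → j < n → (g ^ j) x ≠ x := by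
    intro w hw hw0 j hj0 hjn hfix
    rw [hW] at hw
    obtain ⟨x, hx, y, hy, rfl⟩ := Submodule.mem_sup.mp hw
    have h1 := hgpow j x hx y hy 0 W'.zero_mem
    rw [add_zero, add_zero, hfix] at h1
    obtain ⟨hx1, hy1⟩ := decomp_unique L L' hLL' hx (pow_mem_of_invariant κ L hκL j x hx) hy
      (pow_mem_of_invariant μ L' hμL' j y hy) h1
    have hx0 : x = 0 := by
      by_contra hx0
      exact hf2 x hx hx0 j hj0 hjn hx1.symm
    have hy0 : y = 0 := by
      apply hpair' y hy
      -- `κ'^j y = y`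
      have hκ'j : (κ' ^ j) y = y := by
        have e1 : (κ' ^ j) ((μ ^ j) y) = ((κ' ^ n) ^ j) y := by
          have e0 : κ' ^ j * (κ' ^ (n - 1)) ^ j = (κ' ^ n) ^ j := by
            rw [← pow_mul, ← pow_add, ← pow_mul]
            congr 1
            obtain ⟨m, rfl⟩ : ∃ m, n = m + 1 := ⟨n - 1, by omega⟩
            rw [Nat.add_sub_cancel]; ring
          rw [← Module.End.mul_apply, hμ, e0]
        rw [← hy1, pow_fix_of_fix (κ' ^ n) y (hκ'n y hy) j] at e1
        exact e1
      -- `κ^j - 1` is injective on `L`, hence surjective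
      have hinv : ∀ a ∈ L, (κ ^ j - 1) a ∈ L := by
        intro a ha
        rw [LinearMap.sub_apply, Module.End.one_apply]
        exact L.sub_mem (pow_mem_of_invariant κ L hκL j a ha) ha
      let ρ : L →ₗ[F] L := (κ ^ j - 1).restrict hinv
      have hρinj : Function.Injective ρ := by
        rw [← LinearMap.ker_eq_bot, LinearMap.ker_eq_bot']
        intro a ha
        have h3 : (κ ^ j - 1) (a : V) = 0 := by
          have := congrArg Subtype.val ha
          exact this
        rw [LinearMap.sub_apply, Module.End.one_apply, sub_eq_zero] at h3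
        by_contra ha0
        exact hf2 a a.2 (fun h => ha0 (Subtype.ext h)) j hj0 hjn h3
      have hρsurj : Function.Surjective ρ := LinearMap.injective_iff_surjective.mp hρinj
      intro x₁ hx₁
      obtain ⟨a, ha⟩ := hρsurj ⟨x₁, hx₁⟩
      have h3 : (κ ^ j - 1) (a : V) = x₁ := congrArg Subtype.val ha
      rw [← h3, LinearMap.sub_apply, Module.End.one_apply, QuadraticMap.polar_sub_left,
        polar_adj_pow Q κ κ' hadj j, hκ'j, sub_self]
    apply hw0
    rw [hx0, hy0, add_zero]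
  -- counting
  obtain ⟨c, hc⟩ : ∃ c, c = q ^ (d - 1) := ⟨_, rfl⟩
  have hqc : Fintype.card F * c = Nat.card L' := by
    rw [hcardL', hc, ← hq, ← pow_succ', Nat.sub_add_cancel hd0]
  have hcodd : Odd c := by rw [hc]; exact hqodd.pow
  have hcount : ∀ b : F, Nat.card {x : V // x ∈ W ∧ x ≠ 0 ∧ Q x = b} =
      Nat.card {p : L × L' // p ≠ 0 ∧ β p.1 p.2 = b} := by
    intro b
    symm
    have hQxy : ∀ (x : L) (y : L'), Q ((x : V) + (y : V)) = β x y := by
      intro x y
      have := hQform x x.2 y y.2 0 W'.zero_mem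
      rw [add_zero, map_zero, add_zero] at this
      rw [this, hβapp]
    have hmk : ∀ p : {p : L × L' // p ≠ 0 ∧ β p.1 p.2 = b},
        ((p.1.1 : V) + (p.1.2 : V)) ∈ W ∧ ((p.1.1 : V) + (p.1.2 : V)) ≠ 0 ∧
          Q ((p.1.1 : V) + (p.1.2 : V)) = b := by
      intro p
      refine ⟨?_, ?_, ?_⟩
      · rw [hW]; exact Submodule.add_mem_sup p.1.1.2 p.1.2.2
      · intro h0
        have h00 : (p.1.1 : V) + (p.1.2 : V) = 0 + 0 := by rw [h0, add_zero]
        obtain ⟨ha, hb⟩ := decomp_unique L L' hLL' p.1.1.2 L.zero_mem p.1.2.2 L'.zero_mem h00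
        apply p.2.1
        apply Prod.ext
        · exact Subtype.ext ha
        · exact Subtype.ext hb
      · rw [hQxy]; exact p.2.2
    apply Nat.card_eq_of_bijective (fun p => ⟨(p.1.1 : V) + (p.1.2 : V), hmk p⟩)
    constructor
    · intro p p' hpp'
      have h0 : (p.1.1 : V) + (p.1.2 : V) = (p'.1.1 : V) + (p'.1.2 : V) :=
        congrArg Subtype.val hpp'
      obtain ⟨ha, hb⟩ := decomp_unique L L' hLL' p.1.1.2 p'.1.1.2 p.1.2.2 p'.1.2.2 h0
      apply Subtype.ext
      apply Prod.ext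
      · exact Subtype.ext ha
      · exact Subtype.ext hb
    · rintro ⟨w, hwW, hw0, hQw⟩
      rw [hW] at hwW
      obtain ⟨x, hx, y, hy, rfl⟩ := Submodule.mem_sup.mp hwW
      refine ⟨⟨(⟨x, hx⟩, ⟨y, hy⟩), ?_, ?_⟩, rfl⟩
      · intro h0
        apply hw0
        have ha : x = 0 := congrArg (fun p : L × L' => (p.1 : V)) h0
        have hb : y = 0 := congrArg (fun p : L × L' => (p.2 : V)) h0
        rw [ha, hb, add_zero]
      · rw [← hQxy]; exact hQw
  refine ⟨g, W, W', n, fun b => if b = 0 then c + 1 else c, hgiso, hgσ, hcompl, ?_, hgW, hgW',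
    hneven, hnpos, hgk, hfree, ?_, ?_, ?_⟩
  · intro x hx y hy
    exact (hmemW' y).mp hy x hx
  · intro b
    rw [hcount b, card_pairs β hβ c hqc b, hcardL, hcardL', ← hn1, Nat.add_sub_cancel]
    beta_reduce
    by_cases hb : b = 0
    · rw [if_pos hb, if_pos hb]; ring
    · rw [if_neg hb, if_neg hb]; ring
  · intro b hb
    beta_reduce
    rw [if_neg hb]; exact hcodd
  · beta_reduce
    rw [if_pos rfl]; exact hcodd.add_one

end abstract

end Cfsg.Agent.Lib.Helper18.S2720K
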