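import Mathlib
import Cfsg.Prelude.Def_ClassicalGeometry
import Cfsg.Agent.Lib.Helper18.SympTrans
import Cfsg.Agent.S0749

set_option autoImplicit false

namespace Cfsg.Agent.Lib.Helper18

open Matrix

section
variable (m : ℕ) (F : Type*) [Field F]

/-- the standard symplectic form as a Mathlib bilinear form -/
noncomputable def sB : LinearMap.BilinForm F (Fin m ⊕ Fin m → F) :=
  Matrix.toBilin' (Matrix.J (Fin m) F)

variable {m F}

theorem sB_apply (u v : Fin m ⊕ Fin m → F) : sB m F u v = Cfsg.sympForm m F u v := by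
  unfold sB Cfsg.sympForm
  rw [Matrix.toBilin'_apply']

theorem sB_isAlt : (sB m F).IsAlt := fun v => by
  rw [sB_apply]; exact sympForm_self m v

theorem sB_nondegenerate : (sB m F).Nondegenerate := by
  unfold sB
  rw [Matrix.nondegenerate_toBilin'_iff]
  apply Matrix.nondegenerate_of_det_ne_zero
  intro h
  have := Matrix.J_det_mul_J_det (Fin m) F
  rw [h] at this
  simp at this

theorem mem_symp_of_preserving (A : Matrix (Fin m ⊕ Fin m) (Fin m ⊕ Fin m) F)
    (h : ∀ x y : Fin m ⊕ Fin m → F,
      Cfsg.sympForm m F (A *ᵥ x) (A *ᵥ y) = Cfsg.sympForm m F x y) :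
    A ∈ Matrix.symplecticGroup (Fin m) F := by
  rw [SymplecticGroup.mem_iff']
  ext i j
  have := h (Pi.single i 1) (Pi.single j 1)
  unfold Cfsg.sympForm at this
  rw [← vecMul_transpose, ← dotProduct_mulVec, mulVec_mulVec, mulVec_mulVec,
    mulVec_single_one, mulVec_single_one, single_one_dotProduct, single_one_dotProduct] at this
  exact this

/-- Witt's lemma for the standard symplectic space, in matrix form -/
theorem witt_symp [Finite F] (X Y : Submodule F (Fin m ⊕ Fin m → F)) (φ : X ≃ₗ[F] Y)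
    (hφ : ∀ x x' : X, Cfsg.sympForm m F (φ x : Fin m ⊕ Fin m → F) (φ x' : Fin m ⊕ Fin m → F) =
      Cfsg.sympForm m F (x : Fin m ⊕ Fin m → F) (x' : Fin m ⊕ Fin m → F)) :
    ∃ A : Matrix.symplecticGroup (Fin m) F,
      ∀ x : X, A.1 *ᵥ (x : Fin m ⊕ Fin m → F) = (φ x : Fin m ⊕ Fin m → F) := by
  obtain ⟨g, hg1, hg2⟩ := Cfsg.Agent.S0749.result (sB m F) sB_nondegenerate sB_isAlt X Y φ
    (by intro x x'; rw [sB_apply, sB_apply]; exact hφ x x')
  have hmul : ∀ x, LinearMap.toMatrix' (g : (Fin m ⊕ Fin m → F) →ₗ[F] (Fin m ⊕ Fin m → F)) *ᵥ x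
      = g x := fun x => LinearMap.toMatrix'_mulVec _ x
  refine ⟨⟨LinearMap.toMatrix' (g : (Fin m ⊕ Fin m → F) →ₗ[F] (Fin m ⊕ Fin m → F)), ?_⟩, ?_⟩
  · apply mem_symp_of_preserving
    intro x y
    rw [hmul, hmul, ← sB_apply, ← sB_apply]
    exact hg1 x y
  · intro x
    show LinearMap.toMatrix' (g : (Fin m ⊕ Fin m → F) →ₗ[F] (Fin m ⊕ Fin m → F)) *ᵥ _ = _
    rw [hmul]
    exact hg2 x

/-- `Sp` is transitive on linearly independent tuples with the same Gram matrix -/
theorem exists_symp_map_frame [Finite F] {k : ℕ} (s s' : Fin k → (Fin m ⊕ Fin m → F))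
    (hs : LinearIndependent F s) (hs' : LinearIndependent F s')
    (h : ∀ i j, Cfsg.sympForm m F (s i) (s j) = Cfsg.sympForm m F (s' i) (s' j)) :
    ∃ A : Matrix.symplecticGroup (Fin m) F, ∀ i, A.1 *ᵥ s i = s' i := by
  set b := Module.Basis.span hs with hb
  set b' := Module.Basis.span hs' with hb'
  set φ := b.equiv b' (Equiv.refl _) with hφdef
  have hφb : ∀ i, φ (b i) = b' i := by
    intro i
    rw [hφdef, Module.Basis.equiv_apply]
    rfl
  have hbi : ∀ i, ((b i : Submodule.span F (Set.range s)) : Fin m ⊕ Fin m → F) = s i :=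
    fun i => congrArg Subtype.val (Module.Basis.span_apply hs i)
  have hbi' : ∀ i, ((b' i : Submodule.span F (Set.range s')) : Fin m ⊕ Fin m → F) = s' i :=
    fun i => congrArg Subtype.val (Module.Basis.span_apply hs' i)
  have key : LinearMap.BilinForm.comp (sB m F)
      ((Submodule.span F (Set.range s')).subtype.comp φ.toLinearMap)
      ((Submodule.span F (Set.range s')).subtype.comp φ.toLinearMap) =
      LinearMap.BilinForm.comp (sB m F) (Submodule.span F (Set.range s)).subtype
        (Submodule.span F (Set.range s)).subtype := by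
    apply LinearMap.BilinForm.ext_basis b
    intro i j
    simp only [LinearMap.BilinForm.comp_apply, LinearMap.comp_apply, LinearEquiv.coe_coe,
      Submodule.subtype_apply, hφb, hbi, hbi', sB_apply]
    exact (h i j).symm
  obtain ⟨A, hA⟩ := witt_symp _ _ φ (by
    intro x x'
    have := congrArg (fun B => B x x') key
    simp only [LinearMap.BilinForm.comp_apply, LinearMap.comp_apply, LinearEquiv.coe_coe,
      Submodule.subtype_apply, sB_apply] at this
    exact this)
  refine ⟨A, fun i => ?_⟩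
  have := hA (b i)
  rw [hφb, hbi, hbi'] at this
  exact this

end

end Cfsg.Agent.Lib.Helper18
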