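import Cfsg.Prelude

set_option autoImplicit false

namespace Cfsg.Agent.Lib.Helper18

open Matrix

section
variable {H : Type*} [Group H] {ι : Type} [Fintype ι] [DecidableEq ι] {F : Type*} [Field F]

/-- a matrix killing the off-block maps the coordinate subspace into itself -/
theorem mulVec_mem_coord (M : Matrix ι ι F) (p : ι → Prop)
    (hM : ∀ i j, p i → ¬ p j → M i j = 0) (v : ι → F) (hv : ∀ x, p x → v x = 0) :
    ∀ x, p x → (M *ᵥ v) x = 0 := by
  classical
  intro i hi
  rw [Matrix.mulVec, dotProduct]
  apply Finset.sum_eq_zero
  intro j _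
  by_cases hj : p j
  · rw [hv j hj, mul_zero]
  · rw [hM i j hi hj, zero_mul]

/-- membership in the stabiliser of a coordinate subspace, as vanishing of a block -/
theorem mem_stabilizing_coord_iff (toMat : H →* Matrix ι ι F) (p : ι → Prop) (h : H) :
    h ∈ Cfsg.stabilizing toMat {v : ι → F | ∀ x, p x → v x = 0} ↔
      ∀ i j, p i → ¬ p j → toMat h i j = 0 := by
  classical
  constructor
  · intro hg i j hi hj
    have hmem : (Pi.single j 1 : ι → F) ∈ {v : ι → F | ∀ x, p x → v x = 0} := by
      intro x hx
      have : x ≠ j := by
        rintro rfl; exact hj hx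
      simp [this]
    have := (hg (Pi.single j 1)).mp hmem i hi
    simpa using this
  · intro hM v
    constructor
    · intro hv
      exact mulVec_mem_coord _ p hM v hv
    · intro hv
      have hinvM : toMat h * toMat h⁻¹ = 1 := by
        rw [← map_mul, mul_inv_cancel, map_one]
      have hinvM' : toMat h⁻¹ * toMat h = 1 := by
        rw [← map_mul, inv_mul_cancel, map_one]
      have hI : Invertible (toMat h) := ⟨toMat h⁻¹, hinvM', hinvM⟩
      have hBT : (toMat h).BlockTriangular (fun x => if p x then (1 : ℕ) else 0) := by
        intro i j hij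
        simp only at hij
        by_cases hi : p i
        · by_cases hj : p j
          · simp [hi, hj] at hij
          · exact hM i j hi hj
        · by_cases hj : p j <;> simp [hi, hj] at hij
      have hinv := Matrix.blockTriangular_inv_of_blockTriangular hBT
      have hinv' : ∀ i j, p i → ¬ p j → (toMat h)⁻¹ i j = 0 := by
        intro i j hi hj
        apply hinv
        simp [hi, hj]
      have h2 := mulVec_mem_coord _ p hinv' _ hv
      have h3 : (toMat h)⁻¹ *ᵥ (toMat h *ᵥ v) = v := by
        rw [Matrix.mulVec_mulVec, Matrix.inv_mul_of_invertible, Matrix.one_mulVec]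
      rw [h3] at h2
      exact h2

end

end Cfsg.Agent.Lib.Helper18
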