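import Mathlib
import Cfsg.Prelude.Def_GeometricClasses
import Cfsg.Agent.Lib.Helper61.AschDefs

/-!
# K-S5630-E4: `GL_2 wr S_t` preserves, up to scalars, the `t`-fold tensor power of the
alternating form on `F²`: class 8.
-/

set_option autoImplicit false

namespace Cfsg.Agent.Lib.Helper18.Asch

open Cfsg Cfsg.Geo Cfsg.Agent.Lib.Helper61.Asch
open scoped Matrix Kronecker MatrixGroups

section General

variable {I : Type} [Fintype I] [DecidableEq I] {F : Type*} [Field F]

/-- The bilinear form with Gram matrix `G`. -/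
def bform (G : Matrix I I F) (x y : I → F) : F := x ⬝ᵥ (G *ᵥ y)

omit [DecidableEq I] in
theorem bform_add_left (G : Matrix I I F) (x y v : I → F) :
    bform G (x + y) v = bform G x v + bform G y v := by
  unfold bform; rw [add_dotProduct]

omit [DecidableEq I] in
theorem bform_smul_left (G : Matrix I I F) (c : F) (x v : I → F) :
    bform G (c • x) v = c * bform G x v := by
  unfold bform; rw [smul_dotProduct, smul_eq_mul]

omit [DecidableEq I] in
theorem bform_add_right (G : Matrix I I F) (v x y : I → F) :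
    bform G v (x + y) = bform G v x + bform G v y := by
  unfold bform; rw [Matrix.mulVec_add, dotProduct_add]

omit [DecidableEq I] in
theorem bform_smul_right (G : Matrix I I F) (c : F) (v x : I → F) :
    bform G v (c • x) = c * bform G v x := by
  unfold bform; rw [Matrix.mulVec_smul, dotProduct_smul, smul_eq_mul]

omit [DecidableEq I] in
theorem bform_isBilinear (G : Matrix I I F) : IsBilinearForm (bform G) :=
  ⟨bform_add_left G, bform_smul_left G, bform_add_right G, bform_smul_right G⟩

omit [DecidableEq I] in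
theorem bform_smul_matrix (G : Matrix I I F) (c : F) (x y : I → F) :
    bform (c • G) x y = c * bform G x y := by
  unfold bform; rw [Matrix.smul_mulVec, dotProduct_smul, smul_eq_mul]

omit [DecidableEq I] in
theorem bform_swap (G : Matrix I I F) (x y : I → F) : bform G y x = bform Gᵀ x y := by
  unfold bform
  rw [dotProduct_comm, Matrix.dotProduct_mulVec, Matrix.vecMul_transpose, dotProduct_comm]

omit [DecidableEq I] in
theorem bform_mulVec (G g : Matrix I I F) (x y : I → F) :
    bform G (g *ᵥ x) (g *ᵥ y) = bform (gᵀ * G * g) x y := by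
  unfold bform
  rw [← Matrix.mulVec_mulVec, ← Matrix.mulVec_mulVec, Matrix.dotProduct_mulVec x gᵀ,
    Matrix.vecMul_transpose]

omit [DecidableEq I] in
theorem bform_eq_sum (G : Matrix I I F) (x y : I → F) :
    bform G x y = ∑ p ∈ (Finset.univ : Finset I) ×ˢ (Finset.univ : Finset I),
      x p.1 * G p.1 p.2 * y p.2 := by
  unfold bform
  rw [Finset.sum_product]
  simp only [dotProduct, Matrix.mulVec, Finset.mul_sum, mul_assoc]

omit [DecidableEq I] in
/-- a skew form with zero diagonal is alternating (any characteristic). -/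
theorem bform_self (G : Matrix I I F) (hskew : ∀ a b, G b a = - G a b) (hdiag : ∀ a, G a a = 0)
    (x : I → F) : bform G x x = 0 := by
  classical
  rw [bform_eq_sum]
  refine Finset.sum_involution (fun p _ => (p.2, p.1)) ?_ ?_ ?_ ?_
  · rintro ⟨a, b⟩ _
    simp only
    rw [hskew a b]; ring
  · rintro ⟨a, b⟩ _ hne heq
    simp only [Prod.mk.injEq] at heq
    obtain ⟨rfl, -⟩ := heq
    apply hne
    simp only
    rw [hdiag]; ring
  · rintro ⟨a, b⟩ _
    simp
  · rintro ⟨a, b⟩ _
    rfl

/-- a "monomial" Gram matrix gives a form which is non-degenerate on the right. -/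
theorem bform_nondeg_right (G : Matrix I I F)
    (hmon : ∀ b, ∃ a, G a b ≠ 0 ∧ ∀ b', b' ≠ b → G a b' = 0) (y : I → F) (hy : y ≠ 0) :
    ∃ x, bform G x y ≠ 0 := by
  obtain ⟨b, hb⟩ : ∃ b, y b ≠ 0 := by
    by_contra hcon
    push Not at hcon
    exact hy (funext hcon)
  obtain ⟨a, ha, ha'⟩ := hmon b
  refine ⟨Pi.single a 1, ?_⟩
  unfold bform
  rw [single_dotProduct, one_mul, Matrix.mulVec, dotProduct, Finset.sum_eq_single b]
  · exact mul_ne_zero ha hb
  · intro b' _ hb'
    rw [ha' b' hb', zero_mul]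
  · intro h; exact absurd (Finset.mem_univ b) h

end General

section Tensor

variable {F : Type*} [Field F]

/-- the alternating form on `F²`. -/
def J2 : Matrix (Fin 2) (Fin 2) F := !![0, 1; -1, 0]

theorem J2_swap (a b : Fin 2) : (J2 b a : F) = - J2 a b := by
  fin_cases a <;> fin_cases b <;> simp [J2]

theorem J2_self (a : Fin 2) : (J2 a a : F) = 0 := by
  fin_cases a <;> simp [J2]

theorem J2_rev_ne (a : Fin 2) : (J2 a.rev a : F) ≠ 0 := by
  fin_cases a <;> simp [J2, Fin.rev]

theorem J2_eq_zero_of_ne (a b : Fin 2) (h : a ≠ b.rev) : (J2 a b : F) = 0 := by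
  fin_cases a <;> fin_cases b <;> simp_all [J2, Fin.rev]

theorem J2_conj (g : Matrix (Fin 2) (Fin 2) F) : gᵀ * J2 * g = g.det • (J2 : Matrix (Fin 2) (Fin 2) F) := by
  ext a b
  fin_cases a <;> fin_cases b <;>
    simp [J2, Matrix.mul_apply, Fin.sum_univ_two, Matrix.det_fin_two] <;> ring

/-- the Gram matrix of the `t`-fold tensor power of `J2`. -/
def Gt (F : Type*) [Field F] (t : ℕ) : Matrix (Fin t → Fin 2) (Fin t → Fin 2) F :=
  fun a b => ∏ i, J2 (a i) (b i)

theorem Gt_transpose (t : ℕ) : (Gt F t)ᵀ = ((-1 : F) ^ t) • Gt F t := by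
  ext a b
  simp only [Matrix.transpose_apply, Matrix.smul_apply, Gt, smul_eq_mul]
  rw [show (∏ i, (J2 (b i) (a i) : F)) = ∏ i, - (J2 (a i) (b i) : F) from
    Finset.prod_congr rfl (fun i _ => J2_swap (a i) (b i)), Finset.prod_neg, Finset.card_univ,
    Fintype.card_fin]

theorem Gt_diag (t : ℕ) (ht : 0 < t) (a : Fin t → Fin 2) : Gt F t a a = 0 := by
  unfold Gt
  exact Finset.prod_eq_zero (Finset.mem_univ (⟨0, ht⟩ : Fin t)) (J2_self _)

theorem Gt_mon (t : ℕ) (b : Fin t → Fin 2) :
    ∃ a, Gt F t a b ≠ 0 ∧ ∀ b', b' ≠ b → Gt F t a b' = 0 := by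
  refine ⟨fun i => (b i).rev, ?_, ?_⟩
  · unfold Gt
    exact Finset.prod_ne_zero_iff.2 (fun i _ => J2_rev_ne (b i))
  · intro b' hb'
    obtain ⟨i, hi⟩ : ∃ i, b' i ≠ b i := by
      by_contra hcon
      push Not at hcon
      exact hb' (funext hcon)
    unfold Gt
    refine Finset.prod_eq_zero (Finset.mem_univ i) ?_
    apply J2_eq_zero_of_ne
    intro h
    exact hi (Fin.rev_inj.1 h).symm

theorem pure_conj (t : ℕ) (g : Matrix (Fin t → Fin 2) (Fin t → Fin 2) F)
    (gs : Fin t → Matrix (Fin 2) (Fin 2) F) (hg : ∀ x y, g x y = ∏ i, gs i (x i) (y i)) :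
    gᵀ * Gt F t * g = (∏ i, (gs i).det) • Gt F t := by
  ext a b
  have key : ∀ i, ((gs i)ᵀ * (J2 : Matrix (Fin 2) (Fin 2) F) * gs i) (a i) (b i) =
      ∑ d : Fin 2, ∑ c : Fin 2, gs i c (a i) * J2 c d * gs i d (b i) := by
    intro i
    simp only [Matrix.mul_apply, Matrix.transpose_apply, Finset.sum_mul]
  calc (gᵀ * Gt F t * g) a b
      = ∑ d : Fin t → Fin 2, ∑ c : Fin t → Fin 2,
          ∏ i, (gs i (c i) (a i) * J2 (c i) (d i) * gs i (d i) (b i)) := by
        simp only [Matrix.mul_apply, Matrix.transpose_apply, Finset.sum_mul, hg, Gt,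
          Finset.prod_mul_distrib]
    _ = ∑ d : Fin t → Fin 2, ∏ i, ∑ c : Fin 2, (gs i c (a i) * J2 c (d i) * gs i (d i) (b i)) := by
        refine Finset.sum_congr rfl (fun d _ => ?_)
        exact (Fintype.prod_sum (fun i (c : Fin 2) =>
          gs i c (a i) * J2 c (d i) * gs i (d i) (b i))).symm
    _ = ∏ i, ∑ d : Fin 2, ∑ c : Fin 2, (gs i c (a i) * J2 c d * gs i d (b i)) := by
        exact (Fintype.prod_sum (fun i (d : Fin 2) =>
          ∑ c : Fin 2, gs i c (a i) * J2 c d * gs i d (b i))).symm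
    _ = ∏ i, ((gs i).det * J2 (a i) (b i)) := by
        refine Finset.prod_congr rfl (fun i _ => ?_)
        rw [← key i, J2_conj, Matrix.smul_apply, smul_eq_mul]
    _ = ((∏ i, (gs i).det) • Gt F t) a b := by
        rw [Matrix.smul_apply, smul_eq_mul, Finset.prod_mul_distrib]
        rfl

theorem perm_conj (t : ℕ) (g : Matrix (Fin t → Fin 2) (Fin t → Fin 2) F)
    (σ : Equiv.Perm (Fin t)) (hg : ∀ x y, g x y = if y = x ∘ σ then 1 else 0) :
    gᵀ * Gt F t * g = Gt F t := by
  ext a b
  have h1 : ∀ c a : Fin t → Fin 2, g c a = if c = a ∘ σ.symm then 1 else 0 := by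
    intro c a
    rw [hg]
    have : a = c ∘ σ ↔ c = a ∘ σ.symm := by
      constructor
      · rintro rfl; ext i; simp
      · rintro rfl; ext i; simp
    simp only [this]
  simp only [Matrix.mul_apply, Matrix.transpose_apply, h1, ite_mul, one_mul, zero_mul, mul_ite,
    mul_one, mul_zero, Finset.sum_ite_eq', Finset.mem_univ, if_true]
  unfold Gt
  exact Equiv.prod_comp σ.symm (fun i => J2 (a i) (b i))

theorem standard_le (t : ℕ) :
    tensorWreathStandard 2 t F ≤ similarityGroup (bform (Gt F t)) := by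
  unfold tensorWreathStandard
  rw [Subgroup.closure_le]
  rintro g (⟨gs, hgs⟩ | ⟨σ, hσ⟩)
  · refine ⟨∏ i, Matrix.GeneralLinearGroup.det (gs i), fun u v => ?_⟩
    rw [bform_mulVec, pure_conj t _ (fun i => ((gs i : GL (Fin 2) F) : Matrix (Fin 2) (Fin 2) F)) hgs,
      bform_smul_matrix, Units.coe_prod]
    simp only [Matrix.GeneralLinearGroup.val_det_apply]
  · refine ⟨1, fun u v => ?_⟩
    rw [bform_mulVec, perm_conj t _ σ hσ, Units.val_one, one_mul]

end Tensor

section Main

variable {F : Type*} [Field F] {n : ℕ}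

/-- coordinates of a vector of `F^n` in the tensor basis. -/
def Tmap (t : ℕ) (e : Fin n ≃ (Fin t → Fin 2)) (P : GL (Fin n) F) (u : Fin n → F) :
    (Fin t → Fin 2) → F :=
  (((P⁻¹ : GL (Fin n) F) : Matrix (Fin n) (Fin n) F) *ᵥ u) ∘ e.symm

theorem Tmap_add (t : ℕ) (e : Fin n ≃ (Fin t → Fin 2)) (P : GL (Fin n) F) (u v : Fin n → F) :
    Tmap t e P (u + v) = Tmap t e P u + Tmap t e P v := by
  unfold Tmap; rw [Matrix.mulVec_add]; rfl

theorem Tmap_smul (t : ℕ) (e : Fin n ≃ (Fin t → Fin 2)) (P : GL (Fin n) F) (c : F)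
    (u : Fin n → F) : Tmap t e P (c • u) = c • Tmap t e P u := by
  unfold Tmap; rw [Matrix.mulVec_smul]; rfl

theorem Tmap_surj (t : ℕ) (e : Fin n ≃ (Fin t → Fin 2)) (P : GL (Fin n) F)
    (x : (Fin t → Fin 2) → F) : ∃ u, Tmap t e P u = x := by
  refine ⟨(P : Matrix (Fin n) (Fin n) F) *ᵥ (x ∘ e), ?_⟩
  unfold Tmap
  rw [Matrix.mulVec_mulVec, ← Units.val_mul, inv_mul_cancel, Units.val_one, Matrix.one_mulVec]
  funext a
  simp

theorem Tmap_ne_zero (t : ℕ) (e : Fin n ≃ (Fin t → Fin 2)) (P : GL (Fin n) F)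
    (u : Fin n → F) (hu : u ≠ 0) : Tmap t e P u ≠ 0 := by
  intro h
  apply hu
  have h1 : ((P⁻¹ : GL (Fin n) F) : Matrix (Fin n) (Fin n) F) *ᵥ u = 0 := by
    funext i
    have := congrFun h (e i)
    unfold Tmap at this
    simpa using this
  have h2 : (P : Matrix (Fin n) (Fin n) F) *ᵥ
      (((P⁻¹ : GL (Fin n) F) : Matrix (Fin n) (Fin n) F) *ᵥ u) = u := by
    rw [Matrix.mulVec_mulVec, ← Units.val_mul, mul_inv_cancel, Units.val_one, Matrix.one_mulVec]
  rw [← h2, h1, Matrix.mulVec_zero]

theorem Tmap_conj (t : ℕ) (e : Fin n ≃ (Fin t → Fin 2)) (P : GL (Fin n) F)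
    (g : GL (Fin t → Fin 2) F) (u : Fin n → F) :
    Tmap t e P (((MulAut.conj P (glReindex e.symm g) : GL (Fin n) F) :
      Matrix (Fin n) (Fin n) F) *ᵥ u) =
      (g : Matrix (Fin t → Fin 2) (Fin t → Fin 2) F) *ᵥ Tmap t e P u := by
  have hR : ((glReindex e.symm g : GL (Fin n) F) : Matrix (Fin n) (Fin n) F) =
      (g : Matrix (Fin t → Fin 2) (Fin t → Fin 2) F).submatrix e e := rfl
  unfold Tmap
  rw [MulAut.conj_apply, Units.val_mul, Units.val_mul, Matrix.mulVec_mulVec, ← mul_assoc,
    ← mul_assoc, ← Units.val_mul, inv_mul_cancel, Units.val_one, one_mul, ← Matrix.mulVec_mulVec,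
    hR, Matrix.submatrix_mulVec_equiv]
  funext a
  simp

/-- the transported tensor power form. -/
def tform (t : ℕ) (e : Fin n ≃ (Fin t → Fin 2)) (P : GL (Fin n) F) (u v : Fin n → F) : F :=
  bform (Gt F t) (Tmap t e P u) (Tmap t e P v)

theorem tform_isBilinear (t : ℕ) (e : Fin n ≃ (Fin t → Fin 2)) (P : GL (Fin n) F) :
    IsBilinearForm (tform t e P) := by
  refine ⟨fun x y v => ?_, fun c x v => ?_, fun v x y => ?_, fun c v x => ?_⟩
  · unfold tform; rw [Tmap_add, bform_add_left]
  · unfold tform; rw [Tmap_smul, bform_smul_left]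
  · unfold tform; rw [Tmap_add, bform_add_right]
  · unfold tform; rw [Tmap_smul, bform_smul_right]

theorem tform_swap (t : ℕ) (e : Fin n ≃ (Fin t → Fin 2)) (P : GL (Fin n) F) (u v : Fin n → F) :
    tform t e P v u = (-1 : F) ^ t * tform t e P u v := by
  unfold tform
  rw [bform_swap, Gt_transpose, bform_smul_matrix]

theorem tform_nondeg (t : ℕ) (e : Fin n ≃ (Fin t → Fin 2)) (P : GL (Fin n) F) :
    IsNondegenerateForm (tform t e P) := by
  intro v hv
  obtain ⟨x, hx⟩ := bform_nondeg_right (Gt F t) (Gt_mon t) (Tmap t e P v) (Tmap_ne_zero t e P v hv)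
  obtain ⟨u, rfl⟩ := Tmap_surj t e P x
  refine ⟨⟨u, hx⟩, ⟨u, ?_⟩⟩
  rw [tform_swap]
  exact mul_ne_zero (pow_ne_zero _ (neg_ne_zero.2 one_ne_zero)) hx

theorem tform_self (t : ℕ) (ht : 0 < t) (e : Fin n ≃ (Fin t → Fin 2)) (P : GL (Fin n) F)
    (hε : (-1 : F) ^ t = -1) (v : Fin n → F) : tform t e P v v = 0 := by
  unfold tform
  apply bform_self
  · intro a b
    have := congrFun (congrFun (Gt_transpose (F := F) t) a) b
    rw [Matrix.transpose_apply, Matrix.smul_apply, smul_eq_mul, hε] at this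
    rw [this]; ring
  · exact Gt_diag t ht

theorem wreath_le (t : ℕ) (e : Fin n ≃ (Fin t → Fin 2)) (P : GL (Fin n) F) :
    tensorWreathSubgroup 2 t e P ≤ similarityGroup (tform t e P) := by
  unfold tensorWreathSubgroup
  rintro k ⟨_, ⟨g, hg, rfl⟩, rfl⟩
  obtain ⟨c, hc⟩ := standard_le t hg
  refine ⟨c, fun u v => ?_⟩
  unfold tform
  have h1 := Tmap_conj t e P g u
  have h2 := Tmap_conj t e P g v
  simp only [MulEquiv.coe_toMonoidHom] at *
  rw [h1, h2, hc]

end Main

section Final

variable {F : Type*} [Field F] [Fintype F] {n : ℕ}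

/-- K-S5630-E4. -/
theorem geom_of_le_tensorWreathSubgroup_two (K : Subgroup (GL (Fin n) F)) (t : ℕ) (ht : 2 ≤ t)
    (e : Fin n ≃ (Fin t → Fin 2)) (P : GL (Fin n) F) (hK : K ≤ tensorWreathSubgroup 2 t e P) :
    Geom K := by
  have hn : n = 2 ^ t := by
    have h1 := Fintype.card_congr e
    rw [Fintype.card_fin, Fintype.card_pi_const, Fintype.card_fin] at h1
    exact h1
  have h4 : 4 ≤ n := by
    rw [hn]
    calc 4 = 2 ^ 2 := by norm_num
      _ ≤ 2 ^ t := Nat.pow_le_pow_right (by norm_num) ht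
  have heven : Even n := by
    rw [hn]
    exact (Nat.even_pow' (by omega)).2 even_two
  have hK' : K ≤ similarityGroup (tform t e P) := hK.trans (wreath_le t e P)
  have hsymp : (-1 : F) ^ t = -1 →
      Geom K := by
    intro hε
    refine ⟨similarityGroup (tform t e P), ?_, hK'⟩
    right; right; right; right; right; right; right; right; right; left
    refine ⟨tform t e P, ⟨tform_isBilinear t e P, ?_, tform_self t (by omega) e P hε,
      tform_nondeg t e P⟩, heven, h4, rfl⟩
    intro v w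
    rw [tform_swap t e P w v, hε]; ring
  by_cases h2 : (2 : F) = 0
  · apply hsymp
    have h1 : (-1 : F) = 1 := by
      have : (1 : F) + 1 = 0 := by rw [one_add_one_eq_two]; exact h2
      exact (eq_neg_of_add_eq_zero_left this).symm
    rw [h1, one_pow]
  · rcases Nat.even_or_odd t with hte | hto
    · -- symmetric case: quadratic form
      have hε : (-1 : F) ^ t = 1 := hte.neg_one_pow
      have hsym : ∀ u v, tform t e P v u = tform t e P u v := by
        intro u v
        rw [tform_swap, hε, one_mul]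
      have hbil := tform_isBilinear t e P
      have hpolar : QuadraticMap.polar (fun v => 2⁻¹ * tform t e P v v) = tform t e P := by
        funext x y
        unfold QuadraticMap.polar
        simp only
        rw [hbil.add_left, hbil.add_right, hbil.add_right, hsym x y]
        field_simp
        ring
      have hodd : Odd (Fintype.card F) := by
        rw [Nat.odd_iff]
        apply FiniteField.odd_card_of_char_ne_two
        intro hch
        apply h2
        have := ringChar.Nat.cast_ringChar (R := F)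
        rw [hch] at this
        exact_mod_cast this
      refine ⟨quadSimilarityGroup (fun v => 2⁻¹ * tform t e P v v), ?_, ?_⟩
      · right; right; right; right; right; right; right; right; right; right; right
        refine ⟨fun v => 2⁻¹ * tform t e P v v, ⟨?_, ?_, ?_⟩, hodd, by omega, rfl⟩
        · intro c v
          show 2⁻¹ * tform t e P (c • v) (c • v) = c ^ 2 * (2⁻¹ * tform t e P v v)
          rw [hbil.smul_left, hbil.smul_right]; ring
        · rw [hpolar]; exact hbil
        · rw [hpolar]; exact tform_nondeg t e P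
      · intro k hk
        obtain ⟨c, hc⟩ := hK' hk
        refine ⟨c, fun v => ?_⟩
        show 2⁻¹ * tform t e P ((k : Matrix (Fin n) (Fin n) F) *ᵥ v)
          ((k : Matrix (Fin n) (Fin n) F) *ᵥ v) = (c : F) * (2⁻¹ * tform t e P v v)
        rw [hc]; ring
    · exact hsymp hto.neg_one_pow

end Final

end Cfsg.Agent.Lib.Helper18.Asch
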