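import Mathlib
import Cfsg.Prelude.Def_Transfer
import Cfsg.Prelude.Def_Sz

/-!
# K-S2861-D: the matrix group `Cfsg.Lie.Sz F 2` over the field with two elements has no
two distinct commuting involutions (brute force over `ZMod 2`).
-/

set_option autoImplicit false

namespace Cfsg.Agent.Lib.Helper18.L2861

open Matrix

abbrev M4 := Matrix (Fin 4) (Fin 4) (ZMod 2)

def L20 : List M4 :=
  [!![0, 0, 0, 1; 0, 0, 1, 0; 0, 1, 0, 0; 1, 0, 0, 0],
   !![0, 0, 0, 1; 0, 0, 1, 0; 0, 1, 0, 1; 1, 0, 1, 1],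
   !![0, 0, 0, 1; 0, 0, 1, 1; 0, 1, 1, 0; 1, 1, 1, 1],
   !![0, 0, 0, 1; 0, 0, 1, 1; 0, 1, 1, 1; 1, 1, 0, 1],
   !![1, 0, 0, 0; 0, 1, 0, 0; 0, 0, 1, 0; 0, 0, 0, 1],
   !![1, 0, 0, 0; 0, 1, 0, 0; 1, 0, 1, 0; 1, 1, 0, 1],
   !![1, 0, 0, 0; 1, 1, 0, 0; 0, 1, 1, 0; 1, 1, 1, 1],
   !![1, 0, 0, 0; 1, 1, 0, 0; 1, 1, 1, 0; 1, 0, 1, 1],
   !![1, 0, 1, 1; 0, 1, 0, 1; 0, 0, 1, 0; 0, 0, 0, 1],
   !![1, 0, 1, 1; 0, 1, 0, 1; 1, 0, 0, 1; 1, 1, 1, 1],
   !![1, 0, 1, 1; 1, 1, 1, 0; 0, 1, 1, 1; 1, 1, 0, 1],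
   !![1, 0, 1, 1; 1, 1, 1, 0; 1, 1, 0, 0; 1, 0, 0, 0],
   !![1, 1, 0, 1; 0, 1, 1, 1; 0, 0, 1, 1; 0, 0, 0, 1],
   !![1, 1, 0, 1; 0, 1, 1, 1; 1, 1, 1, 0; 1, 0, 1, 1],
   !![1, 1, 0, 1; 1, 0, 1, 0; 0, 1, 0, 0; 1, 0, 0, 0],
   !![1, 1, 0, 1; 1, 0, 1, 0; 1, 0, 0, 1; 1, 1, 1, 1],
   !![1, 1, 1, 1; 0, 1, 1, 0; 0, 0, 1, 1; 0, 0, 0, 1],
   !![1, 1, 1, 1; 0, 1, 1, 0; 1, 1, 0, 0; 1, 0, 0, 0],
   !![1, 1, 1, 1; 1, 0, 0, 1; 0, 1, 0, 1; 1, 0, 1, 1],
   !![1, 1, 1, 1; 1, 0, 0, 1; 1, 0, 1, 0; 1, 1, 0, 1]]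

def idx : List (Fin 4) := [0, 1, 2, 3]

theorem mem_idx (i : Fin 4) : i ∈ idx := by fin_cases i <;> simp [idx]

/-- Boolean equality of matrices. -/
def beq4 (A B : M4) : Bool := idx.all fun i => idx.all fun j => decide (A i j = B i j)

theorem beq4_iff (A B : M4) : beq4 A B = true ↔ A = B := by
  unfold beq4
  simp only [List.all_eq_true, decide_eq_true_eq]
  constructor
  · intro h; ext i j; exact h i (mem_idx i) j (mem_idx j)
  · rintro rfl i _ j _; rfl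

/-- explicit product. -/
def mul4 (A B : M4) : M4 :=
  Matrix.of fun i j => A i 0 * B 0 j + A i 1 * B 1 j + A i 2 * B 2 j + A i 3 * B 3 j

theorem mul4_eq (A B : M4) : A * B = mul4 A B := by
  ext i j
  simp [mul4, Matrix.mul_apply, Fin.sum_univ_four]

def one4 : M4 := !![1, 0, 0, 0; 0, 1, 0, 0; 0, 0, 1, 0; 0, 0, 0, 1]

theorem one4_eq : (1 : M4) = one4 := by
  ext i j; fin_cases i <;> fin_cases j <;> rfl

def memB (M : M4) : Bool := L20.any fun C => beq4 M C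

theorem memB_iff (M : M4) : memB M = true ↔ M ∈ L20 := by
  unfold memB
  simp only [List.any_eq_true, beq4_iff]
  constructor
  · rintro ⟨C, hC, rfl⟩; exact hC
  · intro h; exact ⟨M, h, rfl⟩

def closedB : Bool := L20.all fun A => L20.all fun B => memB (mul4 A B)

set_option maxRecDepth 1000000 in
theorem closedB_true : closedB = true := by decide +kernel

def pairB : Bool := L20.all fun A => L20.all fun B =>
  !(beq4 (mul4 A A) one4) || !(beq4 (mul4 B B) one4) || !(beq4 (mul4 A B) (mul4 B A)) ||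
    beq4 A one4 || beq4 B one4 || beq4 A B

set_option maxRecDepth 1000000 in
theorem pairB_true : pairB = true := by decide +kernel


def invB : Bool := L20.all fun A => L20.any fun B => beq4 (mul4 B A) one4

set_option maxRecDepth 1000000 in
theorem invB_true : invB = true := by decide +kernel

theorem mul_mem_L20 {A B : M4} (hA : A ∈ L20) (hB : B ∈ L20) : A * B ∈ L20 := by
  have h := closedB_true
  unfold closedB at h
  rw [List.all_eq_true] at h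
  have h1 := h A hA
  rw [List.all_eq_true] at h1
  have h2 := h1 B hB
  rw [mul4_eq]
  exact (memB_iff _).1 h2

theorem one_mem_L20 : (1 : M4) ∈ L20 := by
  rw [one4_eq]
  refine (memB_iff _).1 ?_
  decide +kernel

theorem exists_inv_L20 {A : M4} (hA : A ∈ L20) : ∃ B ∈ L20, B * A = 1 := by
  have h := invB_true
  unfold invB at h
  rw [List.all_eq_true] at h
  have h1 := h A hA
  rw [List.any_eq_true] at h1
  obtain ⟨B, hB, hBA⟩ := h1
  refine ⟨B, hB, ?_⟩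
  rw [mul4_eq, one4_eq]
  exact (beq4_iff _ _).1 hBA

theorem pair_L20 {A B : M4} (hA : A ∈ L20) (hB : B ∈ L20) (hA2 : A * A = 1) (hB2 : B * B = 1)
    (hc : A * B = B * A) : A = 1 ∨ B = 1 ∨ A = B := by
  have h := pairB_true
  unfold pairB at h
  rw [List.all_eq_true] at h
  have h1 := h A hA
  rw [List.all_eq_true] at h1
  have h2 := h1 B hB
  rw [mul4_eq, one4_eq] at hA2 hB2
  rw [mul4_eq, mul4_eq] at hc
  have e1 : beq4 (mul4 A A) one4 = true := (beq4_iff _ _).2 hA2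
  have e2 : beq4 (mul4 B B) one4 = true := (beq4_iff _ _).2 hB2
  have e3 : beq4 (mul4 A B) (mul4 B A) = true := (beq4_iff _ _).2 hc
  rw [e1, e2, e3] at h2
  simp only [Bool.not_true, Bool.false_or, Bool.or_eq_true] at h2
  rw [one4_eq]
  rcases h2 with (h2 | h2) | h2
  · exact Or.inl ((beq4_iff _ _).1 h2)
  · exact Or.inr (Or.inl ((beq4_iff _ _).1 h2))
  · exact Or.inr (Or.inr ((beq4_iff _ _).1 h2))

set_option maxRecDepth 1000000 in
set_option synthInstance.maxSize 4096 in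
set_option synthInstance.maxHeartbeats 2000000 in
theorem classify_aux : ∀ a0 a1 a2 a3 b0 b1 b2 b3 : ZMod 2,
    (a0 * b1 - a1 * b0 = a0 ∧ a0 * b2 - a2 * b0 = a1 ∧ a1 * b3 - a3 * b1 = a2 ∧ a2 * b3 - a3 * b2 = a3 ∧ a0 * b3 + a1 * b2 + a2 * b1 + a3 * b0 = 0) →
    ∀ c0 c1 c2 c3 : ZMod 2,
    (a0 * c1 - a1 * c0 = b0 ∧ a0 * c2 - a2 * c0 = b1 ∧ a1 * c3 - a3 * c1 = b2 ∧ a2 * c3 - a3 * c2 = b3 ∧ a0 * c3 + a1 * c2 + a2 * c1 + a3 * c0 = 0 ∧ b0 * c3 + b1 * c2 + b2 * c1 + b3 * c0 = 1) →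
    ∀ d0 d1 d2 d3 : ZMod 2,
    (b0 * d1 - b1 * d0 = c0 ∧ b0 * d2 - b2 * d0 = c1 ∧ b1 * d3 - b3 * d1 = c2 ∧ b2 * d3 - b3 * d2 = c3 ∧ c0 * d1 - c1 * d0 = d0 ∧ c0 * d2 - c2 * d0 = d1 ∧ c1 * d3 - c3 * d1 = d2 ∧ c2 * d3 - c3 * d2 = d3 ∧ a0 * d3 + a1 * d2 + a2 * d1 + a3 * d0 = 1 ∧ b0 * d3 + b1 * d2 + b2 * d1 + b3 * d0 = 0 ∧ c0 * d3 + c1 * d2 + c2 * d1 + c3 * d0 = 0) →
    memB !![a0, b0, c0, d0; a1, b1, c1, d1; a2, b2, c2, d2; a3, b3, c3, d3] = true := by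
  decide +kernel

theorem sq_eq_self (z : ZMod 2) : z ^ 2 = z := by revert z; decide

/-- classification of the matrices over `ZMod 2` satisfying the defining conditions. -/
theorem classify (N : M4)
    (hS : ∀ p r : Fin 4, N (Cfsg.Lie.pairOf p).1 (Cfsg.Lie.pairOf r).1 *
        N (Cfsg.Lie.pairOf p).2 (Cfsg.Lie.pairOf r).2 -
      N (Cfsg.Lie.pairOf p).2 (Cfsg.Lie.pairOf r).1 *
        N (Cfsg.Lie.pairOf p).1 (Cfsg.Lie.pairOf r).2 = N p r)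
    (hJ : ∀ i j : Fin 4, N 0 i * N 3 j + N 1 i * N 2 j + N 2 i * N 1 j + N 3 i * N 0 j =
      if (i : ℕ) + (j : ℕ) = 3 then 1 else 0) : N ∈ L20 := by
  have h := classify_aux (N 0 0) (N 1 0) (N 2 0) (N 3 0) (N 0 1) (N 1 1) (N 2 1) (N 3 1)
    ⟨hS 0 0, hS 1 0, hS 2 0, hS 3 0, hJ 0 1⟩
    (N 0 2) (N 1 2) (N 2 2) (N 3 2)
    ⟨hS 0 1, hS 1 1, hS 2 1, hS 3 1, hJ 0 2, hJ 1 2⟩
    (N 0 3) (N 1 3) (N 2 3) (N 3 3)
    ⟨hS 0 2, hS 1 2, hS 2 2, hS 3 2, hS 0 3, hS 1 3, hS 2 3, hS 3 3, hJ 0 3, hJ 1 3, hJ 2 3⟩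
  have hN : N = !![N 0 0, N 0 1, N 0 2, N 0 3; N 1 0, N 1 1, N 1 2, N 1 3;
      N 2 0, N 2 1, N 2 2, N 2 3; N 3 0, N 3 1, N 3 2, N 3 3] := by
    ext i j; fin_cases i <;> fin_cases j <;> rfl
  rw [hN]
  exact (memB_iff _).1 h

theorem altForm4_cols {R : Type*} [CommRing R] (X : Matrix (Fin 4) (Fin 4) R) (i j : Fin 4) :
    Cfsg.Lie.altForm4 (X *ᵥ Pi.single i 1) (X *ᵥ Pi.single j 1) =
      X 0 i * X 3 j + X 1 i * X 2 j + X 2 i * X 1 j + X 3 i * X 0 j := by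
  simp [Cfsg.Lie.altForm4]

theorem altForm4_single {R : Type*} [CommRing R] (i j : Fin 4) :
    Cfsg.Lie.altForm4 (Pi.single i (1 : R)) (Pi.single j (1 : R)) =
      if (i : ℕ) + (j : ℕ) = 3 then 1 else 0 := by
  fin_cases i <;> fin_cases j <;> simp [Cfsg.Lie.altForm4]

/-- K-S2861-D. -/
theorem sz_two_no_klein_four {F : Type*} [Field F] [Fintype F] (hF : Fintype.card F = 2)
    (g h : GL (Fin 4) F) (hg : g ∈ Cfsg.Lie.Sz F 2) (hh : h ∈ Cfsg.Lie.Sz F 2)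
    (hg2 : g * g = 1) (hh2 : h * h = 1) (hc : g * h = h * g) : g = 1 ∨ h = 1 ∨ g = h := by
  have : Fact (Nat.Prime 2) := ⟨Nat.prime_two⟩
  let e : F ≃+* ZMod 2 := (ZMod.ringEquivOfPrime F Nat.prime_two hF).symm
  let ψ : GL (Fin 4) F →* M4 :=
    ((e : F →+* ZMod 2).mapMatrix (m := Fin 4)).toMonoidHom.comp
      (Units.coeHom (Matrix (Fin 4) (Fin 4) F))
  have hψ : ∀ x : GL (Fin 4) F, ∀ a b, ψ x a b = e ((x : Matrix (Fin 4) (Fin 4) F) a b) :=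
    fun x a b => rfl
  have hψinj : Function.Injective ψ := by
    intro x y hxy
    apply Units.ext
    ext a b
    have := congrFun (congrFun hxy a) b
    rw [hψ, hψ] at this
    exact e.injective this
  have hmem : ∀ x ∈ Cfsg.Lie.Sz F 2, ψ x ∈ L20 := by
    intro x hx
    unfold Cfsg.Lie.Sz at hx
    induction hx using Subgroup.closure_induction with
    | mem x hx =>
      obtain ⟨hsp, hstar⟩ := hx
      apply classify
      · intro p r
        have h1 := congrFun (congrFun hstar p) r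
        have h2 : Cfsg.Lie.star4 (x : Matrix (Fin 4) (Fin 4) F) p r =
            (x : Matrix (Fin 4) (Fin 4) F) (Cfsg.Lie.pairOf p).1 (Cfsg.Lie.pairOf r).1 *
              (x : Matrix (Fin 4) (Fin 4) F) (Cfsg.Lie.pairOf p).2 (Cfsg.Lie.pairOf r).2 -
            (x : Matrix (Fin 4) (Fin 4) F) (Cfsg.Lie.pairOf p).2 (Cfsg.Lie.pairOf r).1 *
              (x : Matrix (Fin 4) (Fin 4) F) (Cfsg.Lie.pairOf p).1 (Cfsg.Lie.pairOf r).2 := rfl
        rw [h2, Matrix.map_apply] at h1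
        have h3 := congrArg e h1
        rw [map_sub, map_mul, map_mul, map_pow, sq_eq_self] at h3
        simp only [hψ]
        exact h3
      · intro i j
        have h1 := hsp (Pi.single i 1) (Pi.single j 1)
        rw [altForm4_single] at h1
        have h1' : Cfsg.Lie.altForm4 ((x : Matrix (Fin 4) (Fin 4) F) *ᵥ Pi.single i 1)
            ((x : Matrix (Fin 4) (Fin 4) F) *ᵥ Pi.single j 1) =
            if (i : ℕ) + (j : ℕ) = 3 then 1 else 0 := h1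
        rw [altForm4_cols] at h1'
        have h3 := congrArg e h1'
        rw [map_add, map_add, map_add, map_mul, map_mul, map_mul, map_mul, apply_ite e, map_one,
          map_zero] at h3
        simp only [hψ]
        exact h3
    | one => rw [map_one]; exact one_mem_L20
    | mul x y _ _ hx hy => rw [map_mul]; exact mul_mem_L20 hx hy
    | inv x _ hx =>
      obtain ⟨B, hB, hBx⟩ := exists_inv_L20 hx
      have : ψ x⁻¹ = B := by
        have h1 : ψ x * ψ x⁻¹ = 1 := by rw [← map_mul, mul_inv_cancel, map_one]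
        calc ψ x⁻¹ = (B * ψ x) * ψ x⁻¹ := by rw [hBx, one_mul]
          _ = B := by rw [mul_assoc, h1, mul_one]
      rw [this]; exact hB
  have hA2 : ψ g * ψ g = 1 := by rw [← map_mul, hg2, map_one]
  have hB2 : ψ h * ψ h = 1 := by rw [← map_mul, hh2, map_one]
  have hcc : ψ g * ψ h = ψ h * ψ g := by rw [← map_mul, ← map_mul, hc]
  rcases pair_L20 (hmem g hg) (hmem h hh) hA2 hB2 hcc with h1 | h1 | h1
  · left; apply hψinj; rw [h1, map_one]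
  · right; left; apply hψinj; rw [h1, map_one]
  · right; right; exact hψinj h1

end Cfsg.Agent.Lib.Helper18.L2861
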