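import Mathlib
import Cfsg.Prelude.Def_GeometricClasses
import Cfsg.Agent.Lib.Helper61.AschDefs
import Cfsg.Agent.Lib.Helper61.AschBasic
import Cfsg.Agent.Lib.Helper61.AschGlueA
import Cfsg.Agent.Lib.Helper46.AschODefs
import Cfsg.Agent.Lib.Helper46.AschOBasic

/-!
Keystone K-S5673-Cf: rationality of the quadratic form for an absolutely irreducible group of isometries realised
over a subfield (odd dimension, odd characteristic, discriminant in the prime field up to squares).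

Reusable: `mem_subfield_of_pow_card` (`x ^ |F₁| = x → x ∈ F₁`), `exists_frob` (the `|F₁|`-power ring
endomorphism fixing `F₁`), `gram_invariant` (`sᵀ G s = G` for an isometry `s`).
-/

set_option autoImplicit false
set_option linter.unusedSectionVars false
set_option linter.style.haveILetI false

namespace Cfsg.Agent.Lib.Helper18.AschO

open Cfsg Cfsg.Geo Cfsg.Agent.Lib.Helper61.Asch Cfsg.Agent.Lib.Helper46.AschO
open scoped Matrix Kronecker MatrixGroups

variable {F : Type*} [Field F] [Fintype F] {n : ℕ}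

/-- an element fixed by the `|F₁|`-th power map lies in the subfield `F₁`. -/
theorem mem_subfield_of_pow_card (F₁ : Subfield F) (x : F) (h : x ^ Nat.card F₁ = x) : x ∈ F₁ := by
  classical
  letI : Fintype F₁ := Fintype.ofFinite F₁
  have hc : Nat.card F₁ = Fintype.card F₁ := Nat.card_eq_fintype_card
  rw [hc] at h
  have hc1 : 1 < Fintype.card F₁ := Fintype.one_lt_card
  let S : Finset F := Finset.univ.filter (fun y : F => y ^ Fintype.card F₁ = y)
  let T : Finset F := Finset.univ.image (Subtype.val : F₁ → F)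
  have hTS : T ⊆ S := by
    intro y hy
    obtain ⟨z, _, rfl⟩ := Finset.mem_image.mp hy
    rw [Finset.mem_filter]
    refine ⟨Finset.mem_univ _, ?_⟩
    have := FiniteField.pow_card z
    have h2 := congrArg (Subtype.val : F₁ → F) this
    push_cast at h2
    exact h2
  have hTcard : T.card = Fintype.card F₁ := by
    rw [Finset.card_image_of_injective _ Subtype.val_injective, Finset.card_univ]
  have hScard : S.card ≤ Fintype.card F₁ := by
    have hsub : S ⊆ (Polynomial.X ^ Fintype.card F₁ - Polynomial.X : Polynomial F).roots.toFinset := by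
      intro y hy
      rw [Finset.mem_filter] at hy
      rw [Multiset.mem_toFinset, Polynomial.mem_roots (FiniteField.X_pow_card_sub_X_ne_zero F hc1)]
      simp [hy.2]
    calc S.card ≤ _ := Finset.card_le_card hsub
      _ ≤ Multiset.card (Polynomial.X ^ Fintype.card F₁ - Polynomial.X : Polynomial F).roots :=
          Multiset.toFinset_card_le _
      _ ≤ (Polynomial.X ^ Fintype.card F₁ - Polynomial.X : Polynomial F).natDegree := Polynomial.card_roots' _
      _ = Fintype.card F₁ := FiniteField.X_pow_card_sub_X_natDegree_eq F hc1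
  have hST : T = S := Finset.eq_of_subset_of_card_le hTS (by rw [hTcard]; exact hScard)
  have hxS : x ∈ S := by
    rw [Finset.mem_filter]
    exact ⟨Finset.mem_univ _, h⟩
  rw [← hST] at hxS
  obtain ⟨z, _, rfl⟩ := Finset.mem_image.mp hxS
  exact z.2

/-- the `|F₁|`-th power map as a ring endomorphism fixing `F₁`. -/
theorem exists_frob (F₁ : Subfield F) :
    ∃ φ : F →+* F, (∀ x, φ x = x ^ Nat.card F₁) ∧ ∀ x ∈ F₁, φ x = x := by
  classical
  letI : Fintype F₁ := Fintype.ofFinite F₁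
  refine ⟨(FiniteField.frobeniusAlgHom F₁ F).toRingHom, ?_, ?_⟩
  · intro x
    rw [Nat.card_eq_fintype_card]
    rfl
  · intro x hx
    exact (FiniteField.frobeniusAlgHom F₁ F).commutes ⟨x, hx⟩

/-- an isometry preserves the Gram matrix. -/
theorem gram_invariant (Q : (Fin n → F) → F) (hQ : IsNondegenerateQuadraticForm Q) (g : GL (Fin n) F)
    (hg : g ∈ isometryGroup F Q) :
    (g : Matrix (Fin n) (Fin n) F)ᵀ * gramQ Q * (g : Matrix (Fin n) (Fin n) F) = gramQ Q := by
  have hc : ∀ v, Q ((g : Matrix (Fin n) (Fin n) F) *ᵥ v) = ((1 : Fˣ) : F) * Q v := by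
    intro v
    rw [Units.val_one, one_mul]
    exact (mem_isometryGroup_iff Q g).mp hg v
  have h1 := adjQ_similarity hQ hc
  have h2 := gramQ_mul_adjQ hQ (g : Matrix (Fin n) (Fin n) F)
  rw [h1, Units.val_one, one_smul] at h2
  rw [← h2, Matrix.mul_assoc, ← Units.val_mul, inv_mul_cancel, Units.val_one, Matrix.mul_one]

/-- K-S5673-Cf. -/
theorem exists_rational_structure (hodd : Odd n) (h2 : (2 : F) ≠ 0) (Q : (Fin n → F) → F)
    (hQ : IsNondegenerateQuadraticForm Q)
    (hdisc : DiscInPrimeField Q) (X : Subgroup (GL (Fin n) F)) (hX : spanAlg X = ⊤) (hXI : X ≤ isometryGroup F Q)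
    (F₁ : Subfield F) (B : GL (Fin n) F)
    (hB : ∀ s ∈ matrixSet X, ∀ i j, ((B : Matrix (Fin n) (Fin n) F) * s *
      ((B⁻¹ : GL (Fin n) F) : Matrix (Fin n) (Fin n) F)) i j ∈ F₁) :
    ∃ P : GL (Fin n) F, IsQuadFormRationalStructure Q F₁ P ∧ subfieldSubgroup F₁ P = subfieldSubgroup F₁ B⁻¹ := by
  classical
  obtain ⟨l, hl⟩ := hodd
  have : Nonempty (Fin n) := ⟨⟨0, by omega⟩⟩
  set G : Matrix (Fin n) (Fin n) F := gramQ Q with hGdef
  set Bm : Matrix (Fin n) (Fin n) F := (B : Matrix (Fin n) (Fin n) F) with hBm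
  set Bi : Matrix (Fin n) (Fin n) F := ((B⁻¹ : GL (Fin n) F) : Matrix (Fin n) (Fin n) F) with hBi
  have hBmBi : Bm * Bi = 1 := by
    rw [hBm, hBi, ← Units.val_mul, mul_inv_cancel, Units.val_one]
  have hBiBm : Bi * Bm = 1 := by
    rw [hBm, hBi, ← Units.val_mul, inv_mul_cancel, Units.val_one]
  have hGdet : IsUnit G.det := isUnit_det_gramQ hQ
  set G' : Matrix (Fin n) (Fin n) F := Biᵀ * G * Bi with hG'
  have hBidet : Bi.det ≠ 0 := by
    intro h0
    have := congrArg Matrix.det hBmBi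
    rw [Matrix.det_mul, h0, mul_zero, Matrix.det_one] at this
    exact zero_ne_one this
  have hG'det : G'.det = Bi.det ^ 2 * G.det := by
    rw [hG', Matrix.det_mul, Matrix.det_mul, Matrix.det_transpose]
    ring
  have hG'det0 : G'.det ≠ 0 := by
    rw [hG'det]
    exact mul_ne_zero (pow_ne_zero _ hBidet) hGdet.ne_zero
  -- a non-zero entry
  have hent : ∃ i j, G' i j ≠ 0 := by
    by_contra hcon
    push Not at hcon
    have : G' = 0 := by
      ext i j
      exact hcon i j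
    rw [this, Matrix.det_zero] at hG'det0
    exact hG'det0 rfl
  obtain ⟨i₀, j₀, hij⟩ := hent
  set ζ : F := (G' i₀ j₀)⁻¹ with hζ
  have hζ0 : ζ ≠ 0 := inv_ne_zero hij
  set M : Matrix (Fin n) (Fin n) F := ζ • G' with hM
  have hMij : M i₀ j₀ = 1 := by
    rw [hM, Matrix.smul_apply, smul_eq_mul, hζ, inv_mul_cancel₀ hij]
  have hMdet : M.det = ζ ^ n * G'.det := by
    rw [hM, Matrix.det_smul, Fintype.card_fin]
  have hMdet0 : M.det ≠ 0 := by
    rw [hMdet]
    exact mul_ne_zero (pow_ne_zero _ hζ0) hG'det0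
  have hMu : IsUnit M.det := isUnit_iff_ne_zero.mpr hMdet0
  -- invariance of G' and M under the conjugated group
  have hinv : ∀ g ∈ X, (Bm * (g : Matrix (Fin n) (Fin n) F) * Bi)ᵀ * M * (Bm * (g : Matrix (Fin n) (Fin n) F) * Bi) = M := by
    intro g hg
    have hs : (g : Matrix (Fin n) (Fin n) F)ᵀ * G * (g : Matrix (Fin n) (Fin n) F) = G :=
      gram_invariant Q hQ g (hXI hg)
    have e1 : Bmᵀ * Biᵀ = 1 := by
      rw [← Matrix.transpose_mul, hBiBm, Matrix.transpose_one]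
    have e2 : (Bm * (g : Matrix (Fin n) (Fin n) F) * Bi)ᵀ * G' * (Bm * (g : Matrix (Fin n) (Fin n) F) * Bi)
        = Biᵀ * ((g : Matrix (Fin n) (Fin n) F)ᵀ * ((Bmᵀ * Biᵀ) * (G * ((Bi * Bm) * ((g : Matrix (Fin n) (Fin n) F) * Bi))))) := by
      simp only [hG', Matrix.transpose_mul, Matrix.mul_assoc]
    rw [hM, Matrix.mul_smul, Matrix.smul_mul, e2, e1, hBiBm, Matrix.one_mul, Matrix.one_mul]
    congr 1
    have e3 : Biᵀ * ((g : Matrix (Fin n) (Fin n) F)ᵀ * (G * ((g : Matrix (Fin n) (Fin n) F) * Bi)))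
        = Biᵀ * ((g : Matrix (Fin n) (Fin n) F)ᵀ * G * (g : Matrix (Fin n) (Fin n) F)) * Bi := by
      simp only [Matrix.mul_assoc]
    rw [e3, hs]
  -- Frobenius
  obtain ⟨φ, hφpow, hφfix⟩ := exists_frob F₁
  have hmapfix : ∀ g ∈ X, (Bm * (g : Matrix (Fin n) (Fin n) F) * Bi).map φ = Bm * (g : Matrix (Fin n) (Fin n) F) * Bi := by
    intro g hg
    ext a b
    rw [Matrix.map_apply]
    exact hφfix _ (hB _ ⟨g, hg, rfl⟩ a b)
  have hinvφ : ∀ g ∈ X, (Bm * (g : Matrix (Fin n) (Fin n) F) * Bi)ᵀ * M.map φ * (Bm * (g : Matrix (Fin n) (Fin n) F) * Bi) = M.map φ := by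
    intro g hg
    have h := congrArg (fun A : Matrix (Fin n) (Fin n) F => A.map φ) (hinv g hg)
    simp only [Matrix.map_mul, Matrix.transpose_map, hmapfix g hg] at h
    exact h
  -- C commutes with the conjugated group
  set C : Matrix (Fin n) (Fin n) F := M⁻¹ * M.map φ with hC
  have hcomm : ∀ g ∈ X, C * (Bm * (g : Matrix (Fin n) (Fin n) F) * Bi) = (Bm * (g : Matrix (Fin n) (Fin n) F) * Bi) * C := by
    intro g hg
    set s' := Bm * (g : Matrix (Fin n) (Fin n) F) * Bi with hs'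
    have h1 := hinv g hg
    have h1φ := hinvφ g hg
    have h3 : (M⁻¹ * s'ᵀ * M) * s' = 1 := by
      rw [Matrix.mul_assoc, Matrix.mul_assoc, ← Matrix.mul_assoc s'ᵀ, h1, Matrix.nonsing_inv_mul _ hMu]
    have h4 : s' * (M⁻¹ * s'ᵀ * M) = 1 := mul_eq_one_comm.mp h3
    have h5 : s' * M⁻¹ * s'ᵀ = M⁻¹ := by
      have e : s' * M⁻¹ * s'ᵀ = (s' * (M⁻¹ * s'ᵀ * M)) * M⁻¹ := by
        simp only [Matrix.mul_assoc]
        rw [Matrix.mul_nonsing_inv _ hMu, Matrix.mul_one]
      rw [e, h4, Matrix.one_mul]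
    calc C * s' = M⁻¹ * (M.map φ * s') := by rw [hC, Matrix.mul_assoc]
      _ = (s' * M⁻¹ * s'ᵀ) * (M.map φ * s') := by rw [h5]
      _ = s' * M⁻¹ * (s'ᵀ * M.map φ * s') := by simp only [Matrix.mul_assoc]
      _ = s' * C := by rw [h1φ, hC, Matrix.mul_assoc]
  -- C is a scalar
  have hCsc : ∃ c : F, C = c • (1 : Matrix (Fin n) (Fin n) F) := by
    have habs := (Cfsg.Agent.Lib.Helper61.Asch.actsAbsolutelyIrreducibly_of_spanAlg_eq_top hX).2 (Bi * C * Bm) (by
      rintro _ ⟨g, hg, rfl⟩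
      show Bi * C * Bm * (g : Matrix (Fin n) (Fin n) F) = (g : Matrix (Fin n) (Fin n) F) * (Bi * C * Bm)
      have h := hcomm g hg
      calc Bi * C * Bm * (g : Matrix (Fin n) (Fin n) F)
          = Bi * (C * (Bm * (g : Matrix (Fin n) (Fin n) F) * Bi)) * Bm := by
            simp only [Matrix.mul_assoc]
            rw [hBiBm, Matrix.mul_one]
        _ = Bi * ((Bm * (g : Matrix (Fin n) (Fin n) F) * Bi) * C) * Bm := by rw [h]
        _ = (g : Matrix (Fin n) (Fin n) F) * (Bi * C * Bm) := by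
            simp only [Matrix.mul_assoc]
            rw [← Matrix.mul_assoc Bi Bm, hBiBm, Matrix.one_mul])
    obtain ⟨c, hc⟩ := habs
    refine ⟨c, ?_⟩
    have : C = Bm * (Bi * C * Bm) * Bi := by
      simp only [Matrix.mul_assoc]
      rw [hBmBi, Matrix.mul_one, ← Matrix.mul_assoc, hBmBi, Matrix.one_mul]
    rw [this, hc, Matrix.mul_smul, Matrix.smul_mul, Matrix.mul_one, hBmBi]
  obtain ⟨c, hc⟩ := hCsc
  have hφM : M.map φ = c • M := by
    have : M * C = M.map φ := by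
      rw [hC, ← Matrix.mul_assoc, Matrix.mul_nonsing_inv _ hMu, Matrix.one_mul]
    rw [← this, hc, Matrix.mul_smul, Matrix.mul_one]
  have hc1 : c = 1 := by
    have := congrFun (congrFun hφM i₀) j₀
    rw [Matrix.map_apply, Matrix.smul_apply, hMij, map_one, smul_eq_mul, mul_one] at this
    exact this.symm
  have hMF₁ : ∀ a b, M a b ∈ F₁ := by
    intro a b
    apply mem_subfield_of_pow_card
    rw [← hφpow]
    have := congrFun (congrFun hφM a) b
    rw [Matrix.map_apply, hc1, one_smul] at this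
    exact this
  -- the determinant of M lies in F₁
  have hdetF₁ : M.det ∈ F₁ := by
    let M₀ : Matrix (Fin n) (Fin n) F₁ := fun a b => ⟨M a b, hMF₁ a b⟩
    have : M = M₀.map F₁.subtype := by
      ext a b
      rfl
    rw [this, ← RingHom.mapMatrix_apply, ← RingHom.map_det]
    exact (M₀.det).2
  -- arithmetic
  obtain ⟨k, s, hs0, hks⟩ := hdisc
  have hks' : G.det = (k : F) * s ^ 2 := hks
  have hdetM : M.det = ζ * (ζ ^ l * Bi.det * s) ^ 2 * (k : F) := by
    have hpow : ∀ m : ℕ, m = 2 * l + 1 → ζ ^ m = ζ * (ζ ^ l) ^ 2 := by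
      intro m hm
      rw [hm]
      ring
    rw [hMdet, hG'det, hks', hpow n hl]
    ring
  have hk0 : (k : F) ≠ 0 := by
    intro h0
    rw [hdetM, h0, mul_zero] at hMdet0
    exact hMdet0 rfl
  have hw0 : ζ ^ l * Bi.det * s ≠ 0 := mul_ne_zero (mul_ne_zero (pow_ne_zero _ hζ0) hBidet) hs0
  set a : F := (ζ ^ l * Bi.det * s)⁻¹ with ha
  have ha0 : a ≠ 0 := inv_ne_zero hw0
  set c₁ : F := M.det * (k : F)⁻¹ with hc₁
  have hc₁F : c₁ ∈ F₁ := F₁.mul_mem hdetF₁ (F₁.inv_mem (intCast_mem F₁ k))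
  have hc₁0 : c₁ ≠ 0 := mul_ne_zero hMdet0 (inv_ne_zero hk0)
  have hζeq : ζ = c₁ * a ^ 2 := by
    rw [hc₁, ha, hdetM]
    field_simp
  -- the scalar a as an element of GL
  let z : GL (Fin n) F := Units.map (Matrix.scalar (Fin n) : F →+* Matrix (Fin n) (Fin n) F).toMonoidHom (Units.mk0 a ha0)
  have hzsc : z ∈ scalars (Fin n) F := ⟨Units.mk0 a ha0, rfl⟩
  have hzmat : (z : Matrix (Fin n) (Fin n) F) = a • (1 : Matrix (Fin n) (Fin n) F) := by
    show Matrix.scalar (Fin n) a = _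
    rw [Matrix.scalar_apply, Matrix.smul_one_eq_diagonal]
  refine ⟨B⁻¹ * z, ?_, ?_⟩
  · intro u hu
    have hPmat : ((B⁻¹ * z : GL (Fin n) F) : Matrix (Fin n) (Fin n) F) = a • Bi := by
      rw [Units.val_mul, hzmat, Matrix.mul_smul, Matrix.mul_one]
    rw [hPmat, Matrix.smul_mulVec, hQ.smul, Q_eq_half hQ h2, polar_eq_gram hQ]
    have e1 : (Bi *ᵥ u) ⬝ᵥ (gramQ Q *ᵥ (Bi *ᵥ u)) = u ⬝ᵥ (G' *ᵥ u) := by
      rw [hG', ← Matrix.mulVec_mulVec, ← Matrix.mulVec_mulVec, Matrix.dotProduct_mulVec u Biᵀ,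
        Matrix.vecMul_transpose]
    have e2 : G' = ζ⁻¹ • M := by
      rw [hM, smul_smul, inv_mul_cancel₀ hζ0, one_smul]
    rw [e1, e2, Matrix.smul_mulVec, dotProduct_smul, smul_eq_mul, hζeq]
    have e3 : a ^ 2 * (2⁻¹ * ((c₁ * a ^ 2)⁻¹ * (u ⬝ᵥ M *ᵥ u))) = 2⁻¹ * c₁⁻¹ * (u ⬝ᵥ M *ᵥ u) := by
      field_simp
    rw [e3]
    have h2F : (2 : F) ∈ F₁ := by
      exact_mod_cast natCast_mem F₁ 2
    refine F₁.mul_mem (F₁.mul_mem (F₁.inv_mem h2F) (F₁.inv_mem hc₁F)) ?_
    unfold dotProduct Matrix.mulVec dotProduct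
    exact F₁.sum_mem (fun i _ => F₁.mul_mem (hu i) (F₁.sum_mem (fun j _ => F₁.mul_mem (hMF₁ i j) (hu j))))
  · unfold subfieldSubgroup
    have : MulAut.conj (B⁻¹ * z) = MulAut.conj B⁻¹ := by
      ext g : 1
      rw [MulAut.conj_apply, MulAut.conj_apply]
      have hzg : z * g = g * z := scalar_comm hzsc g
      rw [mul_inv_rev, mul_assoc B⁻¹ z g, hzg]
      group
    rw [this]

end Cfsg.Agent.Lib.Helper18.AschO
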