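import Mathlib
import Cfsg.Prelude.Def_GeometricClasses

/-!
# K-SLMax-X5: over the field with two elements, `GL₂ ⊗ GL_k` normalises the field `F₄ ⊗ 1`
-/

set_option autoImplicit false

namespace Cfsg.Agent.Lib.Helper18.SLMax

open Cfsg Cfsg.Geo
open scoped Matrix Kronecker MatrixGroups

section TwoByTwo

variable {F : Type*} [Field F]

/-- the element `c₀ + c₁ ω` of `F[ω] ⊆ M₂(F)`, `ω = !![0,1;1,1]`. -/
def kap (c₀ c₁ : F) : Matrix (Fin 2) (Fin 2) F := !![c₀, c₁; c₁, c₀ + c₁]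

theorem kap_add (c₀ c₁ d₀ d₁ : F) : kap c₀ c₁ + kap d₀ d₁ = kap (c₀ + d₀) (c₁ + d₁) := by
  ext i j
  fin_cases i <;> fin_cases j <;> simp [kap]
  ring

theorem kap_mul (c₀ c₁ d₀ d₁ : F) :
    kap c₀ c₁ * kap d₀ d₁ = kap (c₀ * d₀ + c₁ * d₁) (c₀ * d₁ + c₁ * d₀ + c₁ * d₁) := by
  ext i j
  fin_cases i <;> fin_cases j <;> simp [kap, Matrix.mul_apply, Fin.sum_univ_two] <;> ring

theorem kap_one : kap (1 : F) 0 = 1 := by
  ext i j
  fin_cases i <;> fin_cases j <;> simp [kap]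

theorem kap_zero : kap (0 : F) 0 = 0 := by
  ext i j
  fin_cases i <;> fin_cases j <;> simp [kap]

theorem kap_smul (c c₀ c₁ : F) : c • kap c₀ c₁ = kap (c * c₀) (c * c₁) := by
  ext i j
  fin_cases i <;> fin_cases j <;> simp [kap]
  ring

theorem kap_eq (c₀ c₁ : F) : kap c₀ c₁ = c₀ • (1 : Matrix (Fin 2) (Fin 2) F) + c₁ • kap 0 1 := by
  rw [← kap_one, kap_smul, kap_smul, kap_add]
  simp

theorem kap_inj {c₀ c₁ d₀ d₁ : F} (h : kap c₀ c₁ = kap d₀ d₁) : c₀ = d₀ ∧ c₁ = d₁ := by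
  have h0 := congrFun (congrFun h 0) 0
  have h1 := congrFun (congrFun h 0) 1
  simp [kap] at h0 h1
  exact ⟨h0, h1⟩

/-- the conjugates of `ω` over the field with two elements. -/
theorem conj_omega (h01 : ∀ x : F, x = 0 ∨ x = 1) (h2 : (1 : F) + 1 = 0) (a : GL (Fin 2) F) :
    (a : Matrix (Fin 2) (Fin 2) F) * kap 0 1 * ((a⁻¹ : GL (Fin 2) F) : Matrix (Fin 2) (Fin 2) F)
        = kap 0 1 ∨
    (a : Matrix (Fin 2) (Fin 2) F) * kap 0 1 * ((a⁻¹ : GL (Fin 2) F) : Matrix (Fin 2) (Fin 2) F)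
        = kap 1 1 := by
  set w := (a : Matrix (Fin 2) (Fin 2) F) * kap 0 1 *
    ((a⁻¹ : GL (Fin 2) F) : Matrix (Fin 2) (Fin 2) F) with hw
  have htr : w 0 0 + w 1 1 = 1 := by
    have := Matrix.trace_units_conj a (kap (0 : F) 1)
    rw [Matrix.trace_fin_two, Matrix.trace_fin_two] at this
    rw [hw, this]
    simp [kap]
  have hdet : w 0 0 * w 1 1 - w 0 1 * w 1 0 = -1 := by
    have := Matrix.det_units_conj a (kap (0 : F) 1)
    rw [Matrix.det_fin_two, Matrix.det_fin_two] at this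
    rw [hw, this]
    simp [kap]
  have hneg : (-1 : F) = 1 := by
    rw [neg_eq_iff_add_eq_zero]; exact h2
  rw [hneg] at hdet
  have key : (w 0 0 = 0 ∧ w 0 1 = 1 ∧ w 1 0 = 1 ∧ w 1 1 = 1) ∨
      (w 0 0 = 1 ∧ w 0 1 = 1 ∧ w 1 0 = 1 ∧ w 1 1 = 0) := by
    rcases h01 (w 0 0) with h00 | h00 <;> rcases h01 (w 0 1) with h01' | h01' <;>
      rcases h01 (w 1 0) with h10 | h10 <;> rcases h01 (w 1 1) with h11 | h11 <;>
      rw [h00, h01', h10, h11] at hdet <;> rw [h00, h11] at htr <;>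
      simp_all
  rcases key with ⟨h00, h01', h10, h11⟩ | ⟨h00, h01', h10, h11⟩
  · left
    ext i j
    fin_cases i <;> fin_cases j <;> simp [kap, h00, h01', h10, h11]
  · right
    ext i j
    fin_cases i <;> fin_cases j <;> simp [kap, h00, h01', h10, h11, h2]

end TwoByTwo

section Phi

variable {F : Type*} [Field F] {n k : ℕ}

/-- `x ↦ P (x ⊗ 1_k) P⁻¹` read on `Fin n` through `e`. -/
def Phi (e : Fin n ≃ Fin 2 × Fin k) (P : GL (Fin n) F) (x : Matrix (Fin 2) (Fin 2) F) :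
    Matrix (Fin n) (Fin n) F :=
  (P : Matrix (Fin n) (Fin n) F) * (x ⊗ₖ (1 : Matrix (Fin k) (Fin k) F)).submatrix e e *
    ((P⁻¹ : GL (Fin n) F) : Matrix (Fin n) (Fin n) F)

theorem Phi_add (e : Fin n ≃ Fin 2 × Fin k) (P : GL (Fin n) F) (x y : Matrix (Fin 2) (Fin 2) F) :
    Phi e P (x + y) = Phi e P x + Phi e P y := by
  unfold Phi
  have h : ((x + y) ⊗ₖ (1 : Matrix (Fin k) (Fin k) F)).submatrix e e =
      (x ⊗ₖ (1 : Matrix (Fin k) (Fin k) F)).submatrix e e +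
        (y ⊗ₖ (1 : Matrix (Fin k) (Fin k) F)).submatrix e e := by
    rw [Matrix.add_kronecker]; rfl
  rw [h, Matrix.mul_add, Matrix.add_mul]

theorem Phi_smul (e : Fin n ≃ Fin 2 × Fin k) (P : GL (Fin n) F) (c : F)
    (x : Matrix (Fin 2) (Fin 2) F) : Phi e P (c • x) = c • Phi e P x := by
  unfold Phi
  have h : ((c • x) ⊗ₖ (1 : Matrix (Fin k) (Fin k) F)).submatrix e e =
      c • (x ⊗ₖ (1 : Matrix (Fin k) (Fin k) F)).submatrix e e := by
    rw [Matrix.smul_kronecker]; rfl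
  rw [h, Matrix.mul_smul, Matrix.smul_mul]

theorem Phi_one (e : Fin n ≃ Fin 2 × Fin k) (P : GL (Fin n) F) : Phi e P 1 = 1 := by
  unfold Phi
  rw [Matrix.one_kronecker_one, Matrix.submatrix_one_equiv, Matrix.mul_one, Units.mul_inv]

theorem Phi_mul (e : Fin n ≃ Fin 2 × Fin k) (P : GL (Fin n) F) (x y : Matrix (Fin 2) (Fin 2) F) :
    Phi e P (x * y) = Phi e P x * Phi e P y := by
  unfold Phi
  have h1 : ((x * y) ⊗ₖ (1 : Matrix (Fin k) (Fin k) F)).submatrix e e =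
      (x ⊗ₖ (1 : Matrix (Fin k) (Fin k) F)).submatrix e e *
        (y ⊗ₖ (1 : Matrix (Fin k) (Fin k) F)).submatrix e e := by
    rw [Matrix.submatrix_mul_equiv, ← Matrix.mul_kronecker_mul, mul_one]
  rw [h1]
  have hP : ((P⁻¹ : GL (Fin n) F) : Matrix (Fin n) (Fin n) F) * (P : Matrix (Fin n) (Fin n) F) = 1 :=
    Units.inv_mul P
  calc (P : Matrix (Fin n) (Fin n) F) * ((x ⊗ₖ (1 : Matrix (Fin k) (Fin k) F)).submatrix e e *
        (y ⊗ₖ (1 : Matrix (Fin k) (Fin k) F)).submatrix e e) *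
        ((P⁻¹ : GL (Fin n) F) : Matrix (Fin n) (Fin n) F)
      = (P : Matrix (Fin n) (Fin n) F) * (x ⊗ₖ (1 : Matrix (Fin k) (Fin k) F)).submatrix e e *
        (((P⁻¹ : GL (Fin n) F) : Matrix (Fin n) (Fin n) F) * (P : Matrix (Fin n) (Fin n) F)) *
        (y ⊗ₖ (1 : Matrix (Fin k) (Fin k) F)).submatrix e e *
        ((P⁻¹ : GL (Fin n) F) : Matrix (Fin n) (Fin n) F) := by
        rw [hP]; simp only [Matrix.mul_assoc, Matrix.one_mul]
    _ = _ := by simp only [Matrix.mul_assoc]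

theorem Phi_inj (hk : 1 ≤ k) (e : Fin n ≃ Fin 2 × Fin k) (P : GL (Fin n) F)
    (x : Matrix (Fin 2) (Fin 2) F) (h : Phi e P x = 0) : x = 0 := by
  unfold Phi at h
  have hP : ((P⁻¹ : GL (Fin n) F) : Matrix (Fin n) (Fin n) F) * (P : Matrix (Fin n) (Fin n) F) = 1 :=
    Units.inv_mul P
  have h1 : (x ⊗ₖ (1 : Matrix (Fin k) (Fin k) F)).submatrix e e = 0 := by
    have := congrArg (fun M => ((P⁻¹ : GL (Fin n) F) : Matrix (Fin n) (Fin n) F) * M *
      (P : Matrix (Fin n) (Fin n) F)) h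
    simp only [Matrix.mul_zero, Matrix.zero_mul] at this
    rw [← this]
    simp only [← Matrix.mul_assoc, hP, Matrix.one_mul]
    simp only [Matrix.mul_assoc, hP, Matrix.mul_one]
  ext i j
  have h2 := congrFun (congrFun h1 (e.symm (i, ⟨0, hk⟩))) (e.symm (j, ⟨0, hk⟩))
  simpa [Matrix.submatrix_apply, Matrix.kroneckerMap_apply] using h2

/-- the intertwining relation for elements of the Kronecker subgroup. -/
theorem Phi_conj (e : Fin n ≃ Fin 2 × Fin k) (P : GL (Fin n) F) (a : GL (Fin 2) F)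
    (b : GL (Fin k) F) (g₀ : GL (Fin 2 × Fin k) F)
    (hg₀ : (g₀ : Matrix (Fin 2 × Fin k) (Fin 2 × Fin k) F) =
      (a : Matrix (Fin 2) (Fin 2) F) ⊗ₖ (b : Matrix (Fin k) (Fin k) F))
    (x : Matrix (Fin 2) (Fin 2) F) :
    ((MulAut.conj P (glReindex e.symm g₀) : GL (Fin n) F) : Matrix (Fin n) (Fin n) F) * Phi e P x *
      (((MulAut.conj P (glReindex e.symm g₀))⁻¹ : GL (Fin n) F) : Matrix (Fin n) (Fin n) F) =
    Phi e P ((a : Matrix (Fin 2) (Fin 2) F) * x *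
      ((a⁻¹ : GL (Fin 2) F) : Matrix (Fin 2) (Fin 2) F)) := by
  set g : GL (Fin n) F := MulAut.conj P (glReindex e.symm g₀) with hg
  have hP : ((P⁻¹ : GL (Fin n) F) : Matrix (Fin n) (Fin n) F) * (P : Matrix (Fin n) (Fin n) F) = 1 :=
    Units.inv_mul P
  have hR : ((glReindex e.symm g₀ : GL (Fin n) F) : Matrix (Fin n) (Fin n) F) =
      ((a : Matrix (Fin 2) (Fin 2) F) ⊗ₖ (b : Matrix (Fin k) (Fin k) F)).submatrix e e := by
    rw [← hg₀]; rfl
  have hgm : (g : Matrix (Fin n) (Fin n) F) = (P : Matrix (Fin n) (Fin n) F) *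
      ((a : Matrix (Fin 2) (Fin 2) F) ⊗ₖ (b : Matrix (Fin k) (Fin k) F)).submatrix e e *
      ((P⁻¹ : GL (Fin n) F) : Matrix (Fin n) (Fin n) F) := by
    rw [hg, MulAut.conj_apply, Units.val_mul, Units.val_mul, hR]
  -- g * Φ x = Φ (a x a⁻¹) * g
  have hrel : (g : Matrix (Fin n) (Fin n) F) * Phi e P x =
      Phi e P ((a : Matrix (Fin 2) (Fin 2) F) * x *
        ((a⁻¹ : GL (Fin 2) F) : Matrix (Fin 2) (Fin 2) F)) * (g : Matrix (Fin n) (Fin n) F) := by
    have ha : ((a⁻¹ : GL (Fin 2) F) : Matrix (Fin 2) (Fin 2) F) * (a : Matrix (Fin 2) (Fin 2) F) = 1 :=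
      Units.inv_mul a
    have e1 : ((a : Matrix (Fin 2) (Fin 2) F) ⊗ₖ (b : Matrix (Fin k) (Fin k) F)).submatrix e e *
        (x ⊗ₖ (1 : Matrix (Fin k) (Fin k) F)).submatrix e e =
        (((a : Matrix (Fin 2) (Fin 2) F) * x) ⊗ₖ (b : Matrix (Fin k) (Fin k) F)).submatrix e e := by
      rw [Matrix.submatrix_mul_equiv, ← Matrix.mul_kronecker_mul, mul_one]
    have e2 : (((a : Matrix (Fin 2) (Fin 2) F) * x *
        ((a⁻¹ : GL (Fin 2) F) : Matrix (Fin 2) (Fin 2) F)) ⊗ₖ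
          (1 : Matrix (Fin k) (Fin k) F)).submatrix e e *
        ((a : Matrix (Fin 2) (Fin 2) F) ⊗ₖ (b : Matrix (Fin k) (Fin k) F)).submatrix e e =
        (((a : Matrix (Fin 2) (Fin 2) F) * x) ⊗ₖ (b : Matrix (Fin k) (Fin k) F)).submatrix e e := by
      rw [Matrix.submatrix_mul_equiv, ← Matrix.mul_kronecker_mul, one_mul, Matrix.mul_assoc,
        Matrix.mul_assoc, ha, Matrix.mul_one]
    rw [hgm]
    unfold Phi
    calc _ = (P : Matrix (Fin n) (Fin n) F) *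
          (((a : Matrix (Fin 2) (Fin 2) F) ⊗ₖ (b : Matrix (Fin k) (Fin k) F)).submatrix e e *
            (((P⁻¹ : GL (Fin n) F) : Matrix (Fin n) (Fin n) F) * (P : Matrix (Fin n) (Fin n) F)) *
            (x ⊗ₖ (1 : Matrix (Fin k) (Fin k) F)).submatrix e e) *
          ((P⁻¹ : GL (Fin n) F) : Matrix (Fin n) (Fin n) F) := by
          simp only [Matrix.mul_assoc]
      _ = (P : Matrix (Fin n) (Fin n) F) *
          ((((a : Matrix (Fin 2) (Fin 2) F) * x *
            ((a⁻¹ : GL (Fin 2) F) : Matrix (Fin 2) (Fin 2) F)) ⊗ₖ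
              (1 : Matrix (Fin k) (Fin k) F)).submatrix e e *
            (((P⁻¹ : GL (Fin n) F) : Matrix (Fin n) (Fin n) F) * (P : Matrix (Fin n) (Fin n) F)) *
            ((a : Matrix (Fin 2) (Fin 2) F) ⊗ₖ (b : Matrix (Fin k) (Fin k) F)).submatrix e e) *
          ((P⁻¹ : GL (Fin n) F) : Matrix (Fin n) (Fin n) F) := by
          rw [hP, Matrix.mul_one, Matrix.mul_one, e1, e2]
      _ = _ := by simp only [Matrix.mul_assoc]
  rw [hrel, Matrix.mul_assoc, ← Units.val_mul, mul_inv_cancel, Units.val_one, Matrix.mul_one]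

end Phi

section Final

variable {F : Type*} [Field F] [Fintype F] {n : ℕ}

omit [Fintype F] in
theorem Phi_zero {k : ℕ} (e : Fin n ≃ Fin 2 × Fin k) (P : GL (Fin n) F) : Phi e P 0 = 0 := by
  have := Phi_smul e P (0 : F) (0 : Matrix (Fin 2) (Fin 2) F)
  rwa [zero_smul, zero_smul] at this

/-- the subalgebra `P (F[ω] ⊗ 1) P⁻¹`. -/
def KX5 {k : ℕ} (e : Fin n ≃ Fin 2 × Fin k) (P : GL (Fin n) F) :
    Subalgebra F (Matrix (Fin n) (Fin n) F) where
  carrier := {M | ∃ c₀ c₁ : F, M = Phi e P (kap c₀ c₁)}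
  mul_mem' := by
    rintro _ _ ⟨c₀, c₁, rfl⟩ ⟨d₀, d₁, rfl⟩
    exact ⟨_, _, by rw [← Phi_mul, kap_mul]⟩
  one_mem' := ⟨1, 0, by rw [kap_one, Phi_one]⟩
  add_mem' := by
    rintro _ _ ⟨c₀, c₁, rfl⟩ ⟨d₀, d₁, rfl⟩
    exact ⟨_, _, by rw [← Phi_add, kap_add]⟩
  zero_mem' := ⟨0, 0, by rw [kap_zero, Phi_zero]⟩
  algebraMap_mem' := fun c => ⟨c, 0, by
    rw [Algebra.algebraMap_eq_smul_one, ← Phi_one e P, ← Phi_smul, ← kap_one, kap_smul]
    simp⟩

omit [Fintype F] in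
theorem mem_KX5 {k : ℕ} (e : Fin n ≃ Fin 2 × Fin k) (P : GL (Fin n) F)
    (M : Matrix (Fin n) (Fin n) F) : M ∈ KX5 e P ↔ ∃ c₀ c₁ : F, M = Phi e P (kap c₀ c₁) := Iff.rfl

/-- K-SLMax-X5. -/
theorem tensorProductSubgroup_two_le_of_card_two (hq : Fintype.card F = 2) {k : ℕ} (hk : 1 ≤ k)
    (e : Fin n ≃ Fin 2 × Fin k) (P : GL (Fin n) F) :
    ∃ K : Subalgebra F (Matrix (Fin n) (Fin n) F), IsFieldSubalgebra 2 K ∧
      tensorProductSubgroup 2 k e P ≤ subalgebraNormalizer K := by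
  classical
  have h01 : ∀ x : F, x = 0 ∨ x = 1 := by
    intro x
    by_cases hx : x = 0
    · exact Or.inl hx
    · right
      have hcu : Fintype.card Fˣ = 1 := by rw [Fintype.card_units, hq]
      have hss : Subsingleton Fˣ := Fintype.card_le_one_iff_subsingleton.1 hcu.le
      have := Subsingleton.elim (Units.mk0 x hx) 1
      exact congrArg Units.val this
  have h2 : (1 : F) + 1 = 0 := by
    rcases h01 (1 + 1) with h | h
    · exact h
    · exfalso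
      have : (1 : F) = 0 := by linear_combination h
      exact one_ne_zero this
  refine ⟨KX5 e P, ⟨?_, ?_, ?_⟩, ?_⟩
  · -- commutative
    rintro _ ⟨c₀, c₁, rfl⟩ _ ⟨d₀, d₁, rfl⟩
    rw [← Phi_mul, ← Phi_mul, kap_mul, kap_mul]
    congr 2 <;> ring
  · -- inverses
    rintro _ ⟨c₀, c₁, rfl⟩ hne
    have hmk : ∀ d₀ d₁ : F, kap c₀ c₁ * kap d₀ d₁ = 1 →
        ∃ y ∈ KX5 e P, Phi e P (kap c₀ c₁) * y = 1 := by
      intro d₀ d₁ h
      exact ⟨Phi e P (kap d₀ d₁), ⟨d₀, d₁, rfl⟩, by rw [← Phi_mul, h, Phi_one]⟩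
    rcases h01 c₀ with rfl | rfl <;> rcases h01 c₁ with rfl | rfl
    · exfalso; apply hne; rw [kap_zero, Phi_zero]
    · apply hmk 1 1
      rw [kap_mul, ← kap_one]
      congr 1 <;> simp [h2]
    · apply hmk 1 0
      rw [kap_mul, ← kap_one]
      congr 1 <;> simp
    · apply hmk 0 1
      rw [kap_mul, ← kap_one]
      congr 1 <;> simp [h2]
  · -- dimension
    have hspan : Subalgebra.toSubmodule (KX5 e P) =
        Submodule.span F (Set.range ![(1 : Matrix (Fin n) (Fin n) F), Phi e P (kap 0 1)]) := by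
      have hr : Set.range ![(1 : Matrix (Fin n) (Fin n) F), Phi e P (kap 0 1)] =
          {1, Phi e P (kap 0 1)} := by
        ext M
        simp only [Matrix.range_cons, Matrix.range_empty, Set.union_empty, Set.mem_union,
          Set.mem_singleton_iff, Set.mem_insert_iff]
      rw [hr]
      ext M
      rw [Subalgebra.mem_toSubmodule, mem_KX5, Submodule.mem_span_pair]
      constructor
      · rintro ⟨c₀, c₁, rfl⟩
        refine ⟨c₀, c₁, ?_⟩
        rw [← Phi_one e P, ← Phi_smul, ← Phi_smul, ← Phi_add, ← kap_eq]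
      · rintro ⟨c₀, c₁, rfl⟩
        refine ⟨c₀, c₁, ?_⟩
        rw [← Phi_one e P, ← Phi_smul, ← Phi_smul, ← Phi_add, ← kap_eq]
    have hli : LinearIndependent F ![(1 : Matrix (Fin n) (Fin n) F), Phi e P (kap 0 1)] := by
      rw [LinearIndependent.pair_iff]
      intro s t hst
      rw [← Phi_one e P, ← Phi_smul, ← Phi_smul, ← Phi_add, ← kap_eq] at hst
      have h0 := Phi_inj hk e P _ hst
      rw [← kap_zero] at h0
      exact kap_inj h0
    rw [← Subalgebra.finrank_toSubmodule, hspan, finrank_span_eq_card hli]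
    simp
  · -- normalizer
    have claimA : ∀ g ∈ tensorProductSubgroup 2 k e P, ∀ M ∈ KX5 e P,
        (g : Matrix (Fin n) (Fin n) F) * M * ((g⁻¹ : GL (Fin n) F) : Matrix (Fin n) (Fin n) F) ∈
          KX5 e P := by
      rintro g ⟨_, ⟨g₀, ⟨a, b, hg₀⟩, rfl⟩, rfl⟩ M ⟨c₀, c₁, rfl⟩
      have := Phi_conj e P a b g₀ hg₀ (kap c₀ c₁)
      simp only [MulEquiv.coe_toMonoidHom]
      rw [this]
      have hexp : (a : Matrix (Fin 2) (Fin 2) F) * kap c₀ c₁ *
          ((a⁻¹ : GL (Fin 2) F) : Matrix (Fin 2) (Fin 2) F) =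
          c₀ • (1 : Matrix (Fin 2) (Fin 2) F) + c₁ • ((a : Matrix (Fin 2) (Fin 2) F) * kap 0 1 *
            ((a⁻¹ : GL (Fin 2) F) : Matrix (Fin 2) (Fin 2) F)) := by
        rw [kap_eq c₀ c₁, Matrix.mul_add, Matrix.add_mul, Matrix.mul_smul, Matrix.smul_mul,
          Matrix.mul_one, Units.mul_inv, Matrix.mul_smul, Matrix.smul_mul]
      rw [hexp]
      rcases conj_omega h01 h2 a with h | h
      · rw [h, ← kap_eq]
        exact ⟨c₀, c₁, rfl⟩
      · rw [h]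
        refine ⟨c₀ + c₁, c₁, ?_⟩
        congr 1
        rw [← kap_one, kap_smul, kap_smul, kap_add]
        simp
    intro g hg M
    constructor
    · exact claimA g hg M
    · intro h
      have h1 := claimA g⁻¹ (Subgroup.inv_mem _ hg) _ h
      rw [inv_inv] at h1
      have hgg : ((g⁻¹ : GL (Fin n) F) : Matrix (Fin n) (Fin n) F) *
          (g : Matrix (Fin n) (Fin n) F) = 1 := Units.inv_mul g
      have e1 : ((g⁻¹ : GL (Fin n) F) : Matrix (Fin n) (Fin n) F) *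
          ((g : Matrix (Fin n) (Fin n) F) * M *
            ((g⁻¹ : GL (Fin n) F) : Matrix (Fin n) (Fin n) F)) * (g : Matrix (Fin n) (Fin n) F) =
          M := by
        calc _ = (((g⁻¹ : GL (Fin n) F) : Matrix (Fin n) (Fin n) F) *
              (g : Matrix (Fin n) (Fin n) F)) * M *
              (((g⁻¹ : GL (Fin n) F) : Matrix (Fin n) (Fin n) F) *
                (g : Matrix (Fin n) (Fin n) F)) := by simp only [Matrix.mul_assoc]
          _ = M := by rw [hgg, Matrix.one_mul, Matrix.mul_one]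
      rwa [e1] at h1

end Final

end Cfsg.Agent.Lib.Helper18.SLMax
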