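import Mathlib
import Cfsg.Agent.Lib.Helper11.Syl22Defs

/-!
# S4346 pack, K-A2 (keystone 434603): `T ⊓ T' = P ⊓ R`
-/

set_option autoImplicit false
set_option linter.style.haveILetI false

namespace Cfsg.Agent.Lib.Helper18.Syl22

open Cfsg.Agent.Lib.Helper11.Syl22

/-- K-A2 (434603). -/
theorem inf_eq_of_le {G : Type*} [Group G] [Finite G] {P R T T' : Sylow 3 G} (h : Adj P R)
    (hT : (P : Subgroup G) ⊓ (R : Subgroup G) ≤ (T : Subgroup G))
    (hT' : (P : Subgroup G) ⊓ (R : Subgroup G) ≤ (T' : Subgroup G)) (hne : T ≠ T') :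
    (T : Subgroup G) ⊓ (T' : Subgroup G) = (P : Subgroup G) ⊓ (R : Subgroup G) ∧ Adj T T' := by
  haveI : Fact (Nat.Prime 3) := ⟨by norm_num⟩
  have hcT : Nat.card (T : Subgroup G) = Nat.card (P : Subgroup G) := by
    rw [Sylow.card_eq_multiplicity, Sylow.card_eq_multiplicity]
  have hcT' : Nat.card (T' : Subgroup G) = Nat.card (P : Subgroup G) := by
    rw [Sylow.card_eq_multiplicity, Sylow.card_eq_multiplicity]
  have hD : 3 * Nat.card ↥((P : Subgroup G) ⊓ (R : Subgroup G)) = Nat.card ↥(P : Subgroup G) := h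
  have hDI : (P : Subgroup G) ⊓ (R : Subgroup G) ≤ (T : Subgroup G) ⊓ (T' : Subgroup G) :=
    le_inf hT hT'
  have hIT : (T : Subgroup G) ⊓ (T' : Subgroup G) ≠ (T : Subgroup G) := by
    intro hI
    have hle : (T : Subgroup G) ≤ (T' : Subgroup G) := by
      rw [← hI]; exact inf_le_right
    have heq : (T : Subgroup G) = (T' : Subgroup G) :=
      Subgroup.eq_of_le_of_card_ge hle (by rw [hcT, hcT'])
    exact hne (Sylow.ext heq)
  have h1 : Nat.card ↥((P : Subgroup G) ⊓ (R : Subgroup G)) ∣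
      Nat.card ↥((T : Subgroup G) ⊓ (T' : Subgroup G)) := Subgroup.card_dvd_of_le hDI
  have h2 : Nat.card ↥((T : Subgroup G) ⊓ (T' : Subgroup G)) ∣ Nat.card ↥(T : Subgroup G) :=
    Subgroup.card_dvd_of_le inf_le_left
  obtain ⟨k, hk⟩ := h1
  have hDpos : 0 < Nat.card ↥((P : Subgroup G) ⊓ (R : Subgroup G)) := Nat.card_pos
  have hk3 : k ∣ 3 := by
    rw [hcT, ← hD, hk, mul_comm 3] at h2
    exact (Nat.mul_dvd_mul_iff_left hDpos).mp h2
  have hk1 : k = 1 := by
    rcases (Nat.dvd_prime (by norm_num : Nat.Prime 3)).mp hk3 with h1 | h3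
    · exact h1
    · exfalso
      apply hIT
      apply Subgroup.eq_of_le_of_card_ge inf_le_left
      rw [hk, h3, hcT, ← hD, mul_comm]
  rw [hk1, mul_one] at hk
  have hEq : (P : Subgroup G) ⊓ (R : Subgroup G) = (T : Subgroup G) ⊓ (T' : Subgroup G) :=
    Subgroup.eq_of_le_of_card_ge hDI hk.le
  refine ⟨hEq.symm, ?_⟩
  show 3 * Nat.card ↥((T : Subgroup G) ⊓ (T' : Subgroup G)) = Nat.card ↥(T : Subgroup G)
  rw [← hEq, hD, hcT]

end Cfsg.Agent.Lib.Helper18.Syl22
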