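import Mathlib
import Cfsg.Prelude
import Cfsg.Agent.Lib.Helper70.CycSylLocal
import Cfsg.Agent.Lib.Helper01.SZRel

/-!
# S4016, second layer of keystones: K-G1, K-G3, K-G4, K-H (for helper70)
-/

set_option autoImplicit false
set_option linter.unusedSectionVars false

namespace Cfsg.Agent.Lib.Helper18.CycSyl

open Subgroup
open scoped Pointwise
open Cfsg.Agent.Lib.Helper70.CycSyl

universe u

variable {G : Type u} [Group G] [Finite G] {p : ℕ} [hp : Fact p.Prime]

/-- a complement `Y` of `P` in `N_G(P)`: abelian `p'`-group with `N_G(P) = Y P` elementwise -/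
theorem exists_complement (h : SCtx p G) (P : Sylow p G) :
    ∃ Y : Subgroup G, Y ≤ normalizer ((P : Subgroup G) : Set G) ∧ ¬ p ∣ Nat.card Y ∧
      (∀ a ∈ Y, ∀ b ∈ Y, a * b = b * a) ∧
      ∀ m ∈ normalizer ((P : Subgroup G) : Set G), ∃ y ∈ Y, ∃ u ∈ (P : Subgroup G), m = y * u := by
  classical
  set M : Subgroup G := normalizer ((P : Subgroup G) : Set G) with hM
  have hPM : (P : Subgroup G) ≤ M := le_normalizer
  obtain ⟨m, hm⟩ : Nat.card (P : Subgroup G) ∣ Nat.card M := Subgroup.card_dvd_of_le hPM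
  have hmdvd : m ∣ (P : Subgroup G).index := by
    have h1 : Nat.card M ∣ Nat.card G := Subgroup.card_subgroup_dvd_card M
    rw [hm, ← Subgroup.card_mul_index (P : Subgroup G)] at h1
    exact (Nat.mul_dvd_mul_iff_left Nat.card_pos).mp h1
  have hcop : (Nat.card (P : Subgroup G)).Coprime m :=
    Nat.Coprime.coprime_dvd_right hmdvd P.card_coprime_index
  have hpm : ¬ p ∣ m := fun hd => P.not_dvd_index (hd.trans hmdvd)
  obtain ⟨Y, hYM, hYcard⟩ := Cfsg.Agent.Lib.Helper01.sz_exists_in M (P : Subgroup G) hPM le_rfl m hm hcop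
  have hpY : ¬ p ∣ Nat.card Y := by rw [hYcard]; exact hpm
  have hYab : ∀ a ∈ Y, ∀ b ∈ Y, a * b = b * a := by
    intro a ha b hb
    have := (h.hyp.2 Y hpY).is_comm.comm (⟨a, ha⟩ : Y) ⟨b, hb⟩
    exact congrArg Subtype.val this
  refine ⟨Y, hYM, hpY, hYab, ?_⟩
  -- `M = Y ⊔ P`
  have hinf : (P : Subgroup G) ⊓ Y = ⊥ := by
    apply (Subgroup.disjoint_of_coprime_natCard _).eq_bot
    rw [hYcard]; exact hcop
  have hcard := Cfsg.Agent.Lib.Helper01.card_sup_mul_card_inf_of_le_normalizer
    (P : Subgroup G) Y hYM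
  rw [hinf, Subgroup.card_bot, mul_one, hYcard, ← hm] at hcard
  have hsup : Y ⊔ (P : Subgroup G) = M := by
    apply Subgroup.eq_of_le_of_card_ge (sup_le hYM hPM)
    rw [hcard]
  intro g hg
  have hg' : g ∈ Y ⊔ (P : Subgroup G) := by rw [hsup]; exact hg
  exact Cfsg.Agent.Lib.Helper01.exists_mul_of_mem_sup hYM hg'

/-- a commuting product of a `p'`-element `y` of a `p'`-group `Y` and an element `u` of `P`, which is itself a
`p'`-element, has `u = 1` -/
theorem eq_one_of_mul_coprime (P : Sylow p G) (Y : Subgroup G) (hpY : ¬ p ∣ Nat.card Y) {y u : G}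
    (hy : y ∈ Y) (hu : u ∈ (P : Subgroup G)) (hc : y * u = u * y)
    (hcop : (orderOf (y * u)).Coprime p) : u = 1 := by
  have hpp : p.Prime := hp.out
  set m := Nat.card Y with hm
  have hym : y ^ m = 1 := by
    have h1 : (⟨y, hy⟩ : Y) ^ Nat.card Y = 1 := pow_card_eq_one'
    have h2 := congrArg Subtype.val h1
    rw [Subgroup.coe_pow, Subgroup.coe_one] at h2
    exact h2
  have hpow : (y * u) ^ m = u ^ m := by
    rw [(show Commute y u from hc).mul_pow, hym, one_mul]
  -- the order of `u ^ m` divides a power of `p` and the order of `y * u`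
  obtain ⟨k, hk⟩ : ∃ k, orderOf u = p ^ k := by
    obtain ⟨k, hk⟩ := IsPGroup.iff_orderOf.mp P.isPGroup' ⟨u, hu⟩
    exact ⟨k, by rw [← hk]; exact (Subgroup.orderOf_mk u hu).symm⟩
  have h1 : orderOf (u ^ m) ∣ p ^ k := by
    rw [← hk]; exact orderOf_pow_dvd m
  have h2 : orderOf (u ^ m) ∣ orderOf (y * u) := by
    rw [← hpow]; exact orderOf_pow_dvd m
  have h3 : orderOf (u ^ m) = 1 := by
    have hc2 : (orderOf (y * u)).Coprime (p ^ k) := Nat.Coprime.pow_right k hcop
    exact (Nat.Coprime.coprime_dvd_left h2 hc2).eq_one_of_dvd h1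
  have h4 : u ^ m = 1 := orderOf_eq_one_iff.mp h3
  have h5 : p ^ k ∣ m := by rw [← hk]; exact orderOf_dvd_of_pow_eq_one h4
  have hk0 : k = 0 := by
    by_contra hk0
    exact hpY ((dvd_pow_self p hk0).trans h5)
  rw [hk0, pow_zero] at hk
  exact orderOf_eq_one_iff.mp hk

/-- K-G1 -/
theorem centralizer_eq_normalizer (h : SCtx p G) (P : Sylow p G) {x : G}
    (hxC : x ∈ centralizer ((P : Subgroup G) : Set G)) (hx1 : x ≠ 1) (hcop : (orderOf x).Coprime p) :
    centralizer ({x} : Set G) = normalizer ((P : Subgroup G) : Set G) := by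
  obtain ⟨Y, hYM, hpY, hYab, hdec⟩ := exists_complement h P
  have hxN : x ∈ normalizer ((P : Subgroup G) : Set G) := Subgroup.centralizer_le_normalizer _ hxC
  -- `x ∈ Y`
  obtain ⟨y, hy, u, hu, hxyu⟩ := hdec x hxN
  have hPab := h.sylow_comm P
  have huC : u ∈ centralizer ((P : Subgroup G) : Set G) := by
    rw [mem_centralizer_iff]
    intro v hv
    exact hPab v hv u hu
  have hyC : y ∈ centralizer ((P : Subgroup G) : Set G) := by
    have : y = x * u⁻¹ := by rw [hxyu]; group
    rw [this]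
    exact mul_mem hxC (inv_mem huC)
  have hyu : y * u = u * y := ((mem_centralizer_iff.mp hyC) u hu).symm
  have hu1 : u = 1 := by
    apply eq_one_of_mul_coprime P Y hpY hy hu hyu
    rw [← hxyu]; exact hcop
  have hxY : x ∈ Y := by rw [hxyu, hu1, mul_one]; exact hy
  -- `N(P) ≤ C(x)`
  have hge : normalizer ((P : Subgroup G) : Set G) ≤ centralizer ({x} : Set G) := by
    intro g hg
    obtain ⟨y', hy', u', hu', rfl⟩ := hdec g hg
    rw [mem_centralizer_singleton_iff]
    have h1 : y' * x = x * y' := hYab y' hy' x hxY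
    have h2 : u' * x = x * u' := (mem_centralizer_iff.mp hxC) u' hu'
    calc y' * u' * x = y' * (u' * x) := by group
      _ = y' * (x * u') := by rw [h2]
      _ = (y' * x) * u' := by group
      _ = (x * y') * u' := by rw [h1]
      _ = x * (y' * u') := by group
  apply le_antisymm
  · apply h.le_normalizer_of_normalizer_le P _ _ hge
    intro htop
    have hxZ : x ∈ center G := by
      rw [mem_center_iff]
      intro g
      have hg : g ∈ centralizer ({x} : Set G) := by rw [htop]; trivial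
      exact (mem_centralizer_singleton_iff.mp hg)
    rw [h.center_eq_bot, mem_bot] at hxZ
    exact hx1 hxZ
  · exact hge

/-- K-G3 -/
theorem sylow_eq_of_mem_centralizer (h : SCtx p G) (P Q : Sylow p G) {x : G}
    (hxP : x ∈ centralizer ((P : Subgroup G) : Set G)) (hxQ : x ∈ centralizer ((Q : Subgroup G) : Set G))
    (hx1 : x ≠ 1) (hcop : (orderOf x).Coprime p) : Q = P := by
  have h1 := centralizer_eq_normalizer h P hxP hx1 hcop
  have h2 := centralizer_eq_normalizer h Q hxQ hx1 hcop
  have hQN : (Q : Subgroup G) ≤ normalizer ((P : Subgroup G) : Set G) := by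
    rw [← h1, h2]; exact le_normalizer
  have hQP : (Q : Subgroup G) ≤ (P : Subgroup G) := le_sylow_of_le_normalizer P Q.isPGroup' hQN
  have := Q.is_maximal' P.isPGroup' hQP
  exact Sylow.ext this.symm

/-- elements of an `r`-group, `r ≠ p`, have order prime to `p` -/
theorem coprime_orderOf_of_mem_sylow {r : ℕ} [Fact r.Prime] (hrp : r ≠ p) (R : Sylow r G) {z : G}
    (hz : z ∈ (R : Subgroup G)) : (orderOf z).Coprime p := by
  obtain ⟨k, hk⟩ := IsPGroup.iff_orderOf.mp R.isPGroup' ⟨z, hz⟩
  have : orderOf z = r ^ k := by rw [← hk]; exact (Subgroup.orderOf_mk z hz).symm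
  rw [this]
  apply Nat.Coprime.pow_left
  exact (Nat.coprime_primes (Fact.out : r.Prime) hp.out).mpr hrp

/-- K-G4 -/
theorem not_sylow_le_centralizer (h : SCtx p G) (Q : Sylow p G) {r : ℕ} [Fact r.Prime] (hrp : r ≠ p)
    (R : Sylow r G) (hR : (R : Subgroup G) ≠ ⊥) :
    ¬ (R : Subgroup G) ≤ centralizer ((Q : Subgroup G) : Set G) := by
  intro hRC
  have hrr : r.Prime := Fact.out
  -- `R` is a `p'`-group, hence abelian
  have hpR : ¬ p ∣ Nat.card (R : Subgroup G) := by
    obtain ⟨n, hn⟩ := IsPGroup.iff_card.mp R.isPGroup'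
    rw [hn]
    intro hd
    have := (Nat.prime_dvd_prime_iff_eq hp.out hrr).mp (hp.out.dvd_of_dvd_pow hd)
    exact hrp this.symm
  have hRab : ∀ a ∈ (R : Subgroup G), ∀ b ∈ (R : Subgroup G), a * b = b * a := by
    intro a ha b hb
    have := (h.hyp.2 (R : Subgroup G) hpR).is_comm.comm (⟨a, ha⟩ : (R : Subgroup G)) ⟨b, hb⟩
    exact congrArg Subtype.val this
  -- centralizers of the nontrivial elements of `R`
  have hCz : ∀ z ∈ (R : Subgroup G), z ≠ 1 →
      centralizer ({z} : Set G) = normalizer ((Q : Subgroup G) : Set G) := fun z hz hz1 =>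
    centralizer_eq_normalizer h Q (hRC hz) hz1 (coprime_orderOf_of_mem_sylow hrp R hz)
  obtain ⟨z, hz1⟩ := (Subgroup.ne_bot_iff_exists_ne_one.mp hR)
  have hzR' : (z : G) ∈ (R : Subgroup G) := z.2
  have hz1' : (z : G) ≠ 1 := fun h0 => hz1 (Subtype.ext h0)
  apply h.burnside R hRab hR
  intro m hm
  -- `m ∈ N(Q)`
  have hmQ : m ∈ normalizer ((Q : Subgroup G) : Set G) := by
    refine Sylow.smul_eq_iff_mem_normalizer.mp ?_
    have hz' : m⁻¹ * (z : G) * m ∈ (R : Subgroup G) := by
      have := (mem_normalizer_iff.mp (inv_mem hm) (z : G)).mp hzR'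
      simpa using this
    have hz'1 : m⁻¹ * (z : G) * m ≠ 1 := by
      intro h0
      apply hz1'
      have : (z : G) = m * (m⁻¹ * (z : G) * m) * m⁻¹ := by group
      rw [this, h0]; group
    have hle : ((m • Q : Sylow p G) : Subgroup G) ≤ normalizer ((Q : Subgroup G) : Set G) := by
      intro g hg
      rw [Sylow.coe_subgroup_smul] at hg
      obtain ⟨q, hq, rfl⟩ := Subgroup.mem_smul_pointwise_iff_exists _ _ _ |>.mp hg
      have hq' : q ∈ centralizer ({m⁻¹ * (z : G) * m} : Set G) := by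
        rw [hCz _ hz' hz'1]; exact le_normalizer hq
      rw [← hCz _ hzR' hz1', mem_centralizer_singleton_iff]
      have hc : q * (m⁻¹ * (z : G) * m) = (m⁻¹ * (z : G) * m) * q := mem_centralizer_singleton_iff.mp hq'
      show (MulAut.conj m • q) * (z : G) = (z : G) * (MulAut.conj m • q)
      rw [MulAut.smul_def, MulAut.conj_apply]
      calc m * q * m⁻¹ * (z : G) = m * (q * (m⁻¹ * (z : G) * m)) * m⁻¹ := by group
        _ = m * ((m⁻¹ * (z : G) * m) * q) * m⁻¹ := by rw [hc]
        _ = (z : G) * (m * q * m⁻¹) := by group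
    have hle2 : ((m • Q : Sylow p G) : Subgroup G) ≤ (Q : Subgroup G) :=
      le_sylow_of_le_normalizer Q (m • Q : Sylow p G).isPGroup' hle
    have := (m • Q : Sylow p G).is_maximal' Q.isPGroup' hle2
    exact Sylow.ext this.symm
  -- `N(Q) ≤ C(R)`
  rw [mem_centralizer_iff]
  intro z' hz'
  by_cases hz'1 : z' = 1
  · rw [hz'1]; group
  · have : m ∈ centralizer ({z'} : Set G) := by rw [hCz z' hz' hz'1]; exact hmQ
    exact (mem_centralizer_singleton_iff.mp this).symm

/-- the normalizer of a subgroup normalizes its centralizer -/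
theorem normalizer_le_normalizer_centralizer (R : Subgroup G) :
    normalizer (R : Set G) ≤ normalizer ((centralizer (R : Set G) : Subgroup G) : Set G) := by
  have key : ∀ n ∈ normalizer (R : Set G), ∀ c ∈ centralizer (R : Set G),
      n * c * n⁻¹ ∈ centralizer (R : Set G) := by
    intro n hn c hc
    rw [mem_centralizer_iff]
    intro t ht
    have ht' : n⁻¹ * t * n ∈ R := by
      have := (mem_normalizer_iff.mp (inv_mem hn) t).mp ht
      simpa using this
    have hct : (n⁻¹ * t * n) * c = c * (n⁻¹ * t * n) := (mem_centralizer_iff.mp hc) _ ht'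
    calc t * (n * c * n⁻¹) = n * ((n⁻¹ * t * n) * c) * n⁻¹ := by group
      _ = n * (c * (n⁻¹ * t * n)) * n⁻¹ := by rw [hct]
      _ = n * c * n⁻¹ * t := by group
  intro n hn
  rw [mem_normalizer_iff]
  intro c
  constructor
  · intro hc
    exact key n hn c hc
  · intro hc
    have := key n⁻¹ (inv_mem hn) _ hc
    have h2 : n⁻¹ * (n * c * n⁻¹) * n⁻¹⁻¹ = c := by group
    rw [h2] at this
    exact this

/-- K-H -/
theorem exists_fpf_pelement (h : SCtx p G) (P : Sylow p G) {x : G}
    (hxC : x ∈ centralizer ((P : Subgroup G) : Set G)) {r : ℕ} [Fact r.Prime] (hxr : orderOf x = r)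
    (hrp : r ≠ p) :
    ∃ (R : Sylow r G) (g : G), x ∈ (R : Subgroup G) ∧
      ¬ p ∣ Nat.card (centralizer ((R : Subgroup G) : Set G)) ∧ orderOf g = p ∧
      g ∈ normalizer ((centralizer ((R : Subgroup G) : Set G) : Subgroup G) : Set G) ∧
      ∀ y ∈ centralizer ((R : Subgroup G) : Set G), g * y = y * g → y = 1 := by
  classical
  have hrr : r.Prime := Fact.out
  have hpp : p.Prime := hp.out
  -- a Sylow `r`-subgroup containing `x`
  have hxz : IsPGroup r (zpowers x) := by
    apply IsPGroup.of_card (n := 1)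
    rw [Nat.card_zpowers, hxr, pow_one]
  obtain ⟨R, hRx⟩ := hxz.exists_le_sylow
  have hxR : x ∈ (R : Subgroup G) := hRx (mem_zpowers x)
  have hx1 : x ≠ 1 := by
    intro h0
    rw [h0, orderOf_one] at hxr
    exact hrr.one_lt.ne hxr
  have hxcop : (orderOf x).Coprime p := coprime_orderOf_of_mem_sylow hrp R hxR
  have hCx := centralizer_eq_normalizer h P hxC hx1 hxcop
  have hRne : (R : Subgroup G) ≠ ⊥ := by
    intro hb
    have : x ∈ (⊥ : Subgroup G) := hb ▸ hxR
    exact hx1 (mem_bot.mp this)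
  -- `R` is an abelian `p'`-group
  have hpR : ¬ p ∣ Nat.card (R : Subgroup G) := by
    obtain ⟨n, hn⟩ := IsPGroup.iff_card.mp R.isPGroup'
    rw [hn]
    intro hd
    have := (Nat.prime_dvd_prime_iff_eq hpp hrr).mp (hpp.dvd_of_dvd_pow hd)
    exact hrp this.symm
  have hRab : ∀ a ∈ (R : Subgroup G), ∀ b ∈ (R : Subgroup G), a * b = b * a := by
    intro a ha b hb
    have := (h.hyp.2 (R : Subgroup G) hpR).is_comm.comm (⟨a, ha⟩ : (R : Subgroup G)) ⟨b, hb⟩
    exact congrArg Subtype.val this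
  have hRN : (R : Subgroup G) ≤ normalizer ((P : Subgroup G) : Set G) := by
    rw [← hCx]
    intro t ht
    rw [mem_centralizer_singleton_iff]
    exact hRab t ht x hxR
  -- an element of `R` outside `C(P)`
  have hnot := not_sylow_le_centralizer h P hrp R hRne
  obtain ⟨y₀, hy₀R, hy₀C⟩ := SetLike.not_le_iff_exists.mp hnot
  have hy₀cop : (orderOf y₀).Coprime p := coprime_orderOf_of_mem_sylow hrp R hy₀R
  -- `A = C(R)`
  set A : Subgroup G := centralizer ((R : Subgroup G) : Set G) with hA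
  have hRA : (R : Subgroup G) ≤ A := by
    intro t ht
    rw [hA, mem_centralizer_iff]
    intro s hs
    exact hRab s hs t ht
  have hAN : A ≤ normalizer ((P : Subgroup G) : Set G) := by
    rw [← hCx]
    intro c hc
    rw [mem_centralizer_singleton_iff]
    exact ((mem_centralizer_iff.mp hc) x hxR).symm
  have hpA : ¬ p ∣ Nat.card A := by
    intro hd
    obtain ⟨a, ha⟩ := exists_prime_orderOf_dvd_card' (G := A) p hd
    have ha' : orderOf (a : G) = p ^ 1 := by rw [pow_one, ← ha]; exact Subgroup.orderOf_coe a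
    have haP : (a : G) ∈ (P : Subgroup G) := mem_sylow_of_mem_normalizer P (hAN a.2) ha'
    have hcomm : y₀ * (a : G) = (a : G) * y₀ := ((mem_centralizer_iff.mp a.2) y₀ hy₀R)
    have h1 := h.eq_one_of_commute P (hRN hy₀R) hy₀cop hy₀C haP hcomm
    rw [h1, orderOf_one, pow_one] at ha'
    exact hpp.one_lt.ne ha'
  have hAab : ∀ a ∈ A, ∀ b ∈ A, a * b = b * a := by
    intro a ha b hb
    have := (h.hyp.2 A hpA).is_comm.comm (⟨a, ha⟩ : A) ⟨b, hb⟩
    exact congrArg Subtype.val this
  have hAcop : ∀ y ∈ A, (orderOf y).Coprime p := by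
    intro y hy
    have h1 : orderOf y ∣ Nat.card A := by
      have := orderOf_dvd_natCard (⟨y, hy⟩ : A)
      rwa [Subgroup.orderOf_mk] at this
    have h2 : (Nat.card A).Coprime p := ((Nat.Prime.coprime_iff_not_dvd hpp).mpr hpA).symm
    exact Nat.Coprime.coprime_dvd_left h1 h2
  have hNRNA : normalizer ((R : Subgroup G) : Set G) ≤ normalizer ((A : Subgroup G) : Set G) :=
    normalizer_le_normalizer_centralizer (R : Subgroup G)
  -- Burnside: an element of `N(R)` outside `C(R)`
  obtain ⟨m, hmN, hmC⟩ := SetLike.not_le_iff_exists.mp (h.burnside R hRab hRne)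
  obtain ⟨a, b, hab', ha, hb, ⟨k, hk⟩, hbcop⟩ := Cfsg.Agent.Lib.Helper09.SqF.primary_dec m p hpp
  have hzm : zpowers m ≤ normalizer ((R : Subgroup G) : Set G) := by rw [zpowers_le]; exact hmN
  -- `b ∈ C(R)`
  have hbA : b ∈ A := by
    have hzb : zpowers b ≤ normalizer ((A : Subgroup G) : Set G) := by
      rw [zpowers_le]; exact hNRNA (hzm hb)
    have hcard := Cfsg.Agent.Lib.Helper01.card_sup_mul_card_inf_of_le_normalizer A (zpowers b) hzb
    have hpS : ¬ p ∣ Nat.card (zpowers b ⊔ A : Subgroup G) := by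
      intro hd
      have h1 : p ∣ Nat.card A * Nat.card (zpowers b) := by
        rw [← hcard]; exact Dvd.dvd.mul_right hd _
      rcases (Nat.Prime.dvd_mul hpp).mp h1 with h2 | h2
      · exact hpA h2
      · rw [Nat.card_zpowers] at h2
        exact (Nat.Prime.coprime_iff_not_dvd hpp).mp hbcop.symm h2
    have hSab := h.hyp.2 (zpowers b ⊔ A) hpS
    rw [hA, mem_centralizer_iff]
    intro t ht
    have hbS : b ∈ zpowers b ⊔ A := (le_sup_left : zpowers b ≤ zpowers b ⊔ A) (mem_zpowers b)
    have htS : t ∈ zpowers b ⊔ A := (le_sup_right : A ≤ zpowers b ⊔ A) (hRA ht)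
    have := hSab.is_comm.comm (⟨t, htS⟩ : (zpowers b ⊔ A : Subgroup G)) ⟨b, hbS⟩
    exact congrArg Subtype.val this
  have haA : a ∉ A := by
    intro haA
    apply hmC
    rw [← hab']
    exact mul_mem haA hbA
  have hk1 : 1 ≤ k := by
    by_contra hk0
    have : k = 0 := by omega
    rw [this, pow_zero] at hk
    apply haA
    rw [orderOf_eq_one_iff.mp hk]
    exact one_mem A
  -- the element of order `p`
  set g := a ^ p ^ (k - 1) with hg
  have hgord : orderOf g = p := by
    rw [hg, orderOf_pow, hk, Nat.gcd_eq_right (pow_dvd_pow p (Nat.sub_le k 1)),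
      Nat.pow_div (Nat.sub_le k 1) hpp.pos]
    have : k - (k - 1) = 1 := by omega
    rw [this, pow_one]
  have hgNR : g ∈ normalizer ((R : Subgroup G) : Set G) := by
    apply hzm
    exact (zpowers_le.mpr ha) (pow_mem (mem_zpowers a) _)
  have hgNA : g ∈ normalizer ((A : Subgroup G) : Set G) := hNRNA hgNR
  have hg1 : g ≠ 1 := by
    intro h0
    rw [h0, orderOf_one] at hgord
    exact hpp.one_lt.ne hgord
  refine ⟨R, g, hxR, hpA, hgord, hgNA, ?_⟩
  intro y hyA hgy
  by_contra hy1
  obtain ⟨Q, hgQ⟩ := h.exists_sylow_of_orderOf (g := g) (k := 1) (by rw [pow_one]; exact hgord)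
  have hyCQ : y ∈ centralizer ((Q : Subgroup G) : Set G) := by
    apply h.centralizer_le Q hgQ hg1
    rw [mem_centralizer_singleton_iff]
    exact hgy.symm
  have hCy := centralizer_eq_normalizer h Q hyCQ hy1 (hAcop y hyA)
  have hANQ : A ≤ normalizer ((Q : Subgroup G) : Set G) := by
    rw [← hCy]
    intro c hc
    rw [mem_centralizer_singleton_iff]
    exact hAab c hc y hyA
  -- `g` centralizes `A`
  have hgcent : ∀ a' ∈ A, a' * g = g * a' := by
    intro a' ha'
    have h1 : a' * g * a'⁻¹ ∈ (Q : Subgroup G) := (mem_normalizer_iff.mp (hANQ ha') g).mp hgQ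
    have h2 : a' * g * a'⁻¹ * g⁻¹ ∈ (Q : Subgroup G) := mul_mem h1 (inv_mem hgQ)
    have h3 : g * a'⁻¹ * g⁻¹ ∈ A := (mem_normalizer_iff.mp hgNA a'⁻¹).mp (inv_mem ha')
    have h4 : a' * g * a'⁻¹ * g⁻¹ ∈ A := by
      have : a' * g * a'⁻¹ * g⁻¹ = a' * (g * a'⁻¹ * g⁻¹) := by group
      rw [this]; exact mul_mem ha' h3
    -- an element of `Q ∩ A` is trivial
    have h5 : a' * g * a'⁻¹ * g⁻¹ = 1 := by
      obtain ⟨j, hj⟩ := IsPGroup.iff_orderOf.mp Q.isPGroup' ⟨_, h2⟩
      have hj' : orderOf (a' * g * a'⁻¹ * g⁻¹) = p ^ j := by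
        rw [← hj]; exact (Subgroup.orderOf_mk _ h2).symm
      have hc := hAcop _ h4
      rw [hj'] at hc
      have hj0 : j = 0 := by
        by_contra hj0
        have : p ∣ p ^ j := dvd_pow_self p hj0
        have h6 := Nat.Coprime.coprime_dvd_left this hc
        rw [Nat.coprime_self] at h6
        exact hpp.one_lt.ne h6.symm
      rw [hj0, pow_zero] at hj'
      exact orderOf_eq_one_iff.mp hj'
    calc a' * g = (a' * g * a'⁻¹ * g⁻¹) * g * a' := by group
      _ = g * a' := by rw [h5, one_mul]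
  -- contradiction with K-G4
  apply not_sylow_le_centralizer h Q hrp R hRne
  intro t ht
  apply h.centralizer_le Q hgQ hg1
  rw [mem_centralizer_singleton_iff]
  exact hgcent t (hRA ht)

end Cfsg.Agent.Lib.Helper18.CycSyl
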