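import Mathlib
import Cfsg.Agent.S0252

/-!
# K-A4O-L8g (406812, S4068): `SL₂(F₄) ≅ A₅`
-/

set_option autoImplicit false

namespace Cfsg.Agent.Lib.Helper18.A4O

open Matrix

theorem l8g_center_eq_bot {F : Type} [Field F] (h2 : (2 : F) = 0) :
    Subgroup.center (SpecialLinearGroup (Fin 2) F) = ⊥ := by
  rw [Subgroup.eq_bot_iff_forall]
  intro A hA
  obtain ⟨r, hr, hrA⟩ := Matrix.SpecialLinearGroup.mem_center_iff.1 hA
  have hr1 : r = 1 := by
    rw [Fintype.card_fin] at hr
    have h0 : (r - 1) * (r - 1) = 0 := by linear_combination hr - r * h2 + h2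
    have h1 : r - 1 = 0 := by
      rcases mul_eq_zero.1 h0 with h | h <;> exact h
    linear_combination h1
  ext i j
  rw [← hrA, hr1]
  simp

theorem sl2_four_equiv_a5 {F : Type} [Field F] [Fintype F] (hF : Fintype.card F = 4) :
    Nonempty (Matrix.SpecialLinearGroup (Fin 2) F ≃* alternatingGroup (Fin 5)) := by
  have h4 : (4 : F) = 0 := by
    have := Nat.cast_card_eq_zero F
    rw [hF] at this
    exact_mod_cast this
  have h2 : (2 : F) = 0 := by
    have h22 : (2 : F) * 2 = 0 := by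
      rw [← h4]; norm_num
    rcases mul_eq_zero.1 h22 with h | h <;> exact h
  have hc := l8g_center_eq_bot h2
  obtain ⟨e⟩ := Cfsg.Agent.S0252.result hF
  have e1 : Matrix.SpecialLinearGroup (Fin 2) F ≃*
      Matrix.SpecialLinearGroup (Fin 2) F ⧸ (⊥ : Subgroup (Matrix.SpecialLinearGroup (Fin 2) F)) :=
    QuotientGroup.quotientBot.symm
  have e2 : Matrix.SpecialLinearGroup (Fin 2) F ⧸ (⊥ : Subgroup (Matrix.SpecialLinearGroup (Fin 2) F))
      ≃* Matrix.SpecialLinearGroup (Fin 2) F ⧸ Subgroup.center (Matrix.SpecialLinearGroup (Fin 2) F) :=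
    QuotientGroup.quotientMulEquivOfEq hc.symm
  exact ⟨(e1.trans e2).trans e⟩

end Cfsg.Agent.Lib.Helper18.A4O
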