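import Mathlib
import Cfsg.Agent.Lib.Helper70.AGDefs
import Cfsg.Agent.Lib.Helper06.NormalFour
import Cfsg.Agent.Lib.Helper59.CSCTop
import Cfsg.Agent.Lib.Helper42.Meta2
import Cfsg.Agent.Lib.Helper03.PGroupFrattini
import Cfsg.Agent.Lib.Helper20.UniqueInvolution

set_option autoImplicit false
set_option linter.unusedVariables false
set_option linter.unusedSectionVars false
set_option linter.style.longLine false
set_option linter.style.haveILetI false

/-!
# K-4188 leaf A8 (S4188): 2-groups without a normal four-group have Frattini index at most 4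
-/

namespace Cfsg.Agent.Lib.Helper18.AG

section

variable {X : Type*} [Group X] [Finite X]

/-- the elements of order at most 2 of an abelian subgroup -/
def omegaA8 (A : Subgroup X) (hAc : ∀ a ∈ A, ∀ b ∈ A, a * b = b * a) : Subgroup X where
  carrier := {a | a ∈ A ∧ a ^ 2 = 1}
  one_mem' := ⟨A.one_mem, one_pow 2⟩
  mul_mem' := by
    rintro a b ⟨ha, ha2⟩ ⟨hb, hb2⟩
    refine ⟨A.mul_mem ha hb, ?_⟩
    have hc : Commute a b := hAc a ha b hb
    rw [hc.mul_pow, ha2, hb2, one_mul]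
  inv_mem' := by
    rintro a ⟨ha, ha2⟩
    exact ⟨A.inv_mem ha, by rw [inv_pow, ha2, inv_one]⟩

theorem omegaA8_normal (A : Subgroup X) (hAn : A.Normal)
    (hAc : ∀ a ∈ A, ∀ b ∈ A, a * b = b * a) : (omegaA8 A hAc).Normal := by
  constructor
  rintro a ⟨ha, ha2⟩ g
  refine ⟨hAn.conj_mem a ha g, ?_⟩
  rw [conj_pow, ha2, mul_one, mul_inv_cancel]

/-- without a normal four-group every normal abelian subgroup is cyclic -/
theorem isCyclic_of_normal_abelianA8 (hX : IsPGroup 2 X)
    (h : ¬ ∃ z u : X, z ≠ 1 ∧ z ^ 2 = 1 ∧ z ∈ Subgroup.center X ∧ u ≠ 1 ∧ u ^ 2 = 1 ∧ u ≠ z ∧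
      ∀ s : X, s * u * s⁻¹ = u ∨ s * u * s⁻¹ = u * z)
    (A : Subgroup X) (hAn : A.Normal) (hAc : ∀ a ∈ A, ∀ b ∈ A, a * b = b * a) : IsCyclic A := by
  by_contra hnc
  have hAne : A ≠ ⊥ := by
    rintro rfl
    exact hnc inferInstance
  haveI := hAn
  obtain ⟨z, hzA, hz1, hz2, hzc⟩ :=
    Cfsg.Agent.Lib.Helper06.exists_central_invol_mem_normal hX A hAne
  have hApg : IsPGroup 2 A := hX.to_subgroup A
  have hnu : ¬ ∀ g k : A, orderOf g = 2 → orderOf k = 2 → g = k := fun hu =>
    hnc (Cfsg.Agent.Lib.Helper20.isCyclic_of_unique_involution'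
      (fun x y => Subtype.ext (hAc x x.2 y y.2)) hApg hu)
  push Not at hnu
  obtain ⟨g, k, hg, hk, hgk⟩ := hnu
  -- an involution of `A` different from `z`
  obtain ⟨w, hwA, hw1, hw2, hwz⟩ : ∃ w : X, w ∈ A ∧ w ≠ 1 ∧ w ^ 2 = 1 ∧ w ≠ z := by
    have key : ∀ t : A, orderOf t = 2 → (t : X) ≠ 1 ∧ (t : X) ^ 2 = 1 := by
      intro t ht
      refine ⟨?_, ?_⟩
      · intro h1
        have : t = 1 := Subtype.ext h1
        rw [this, orderOf_one] at ht
        omega
      · have := pow_orderOf_eq_one t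
        rw [ht] at this
        exact congrArg Subtype.val this
    by_cases hgz : (g : X) = z
    · refine ⟨k, k.2, (key k hk).1, (key k hk).2, ?_⟩
      intro hkz
      exact hgk (Subtype.ext (hgz.trans hkz.symm))
    · exact ⟨g, g.2, (key g hg).1, (key g hg).2, hgz⟩
  haveI := omegaA8_normal A hAn hAc
  obtain ⟨u, huΩ, hu1, huz, hconj⟩ :=
    Cfsg.Agent.Lib.Helper06.normal_four_of_elemAb hX (omegaA8 A hAc) z w hz1 hz2 hzc
      ⟨hwA, hw2⟩ hw1 hwz
  exact h ⟨z, u, hz1, hz2, hzc, hu1, huΩ.2, huz, hconj⟩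

/-- existence of a maximal normal abelian subgroup (copy of `Helper06.NF.exists_max_normal_abelian`) -/
theorem exists_max_normal_abelianA8 :
    ∃ A : Subgroup X, A.Normal ∧ (∀ a ∈ A, ∀ b ∈ A, a * b = b * a) ∧
      ∀ B : Subgroup X, B.Normal → (∀ a ∈ B, ∀ b ∈ B, a * b = b * a) → A ≤ B → B = A := by
  have hfin : (Set.univ : Set (Subgroup X)).Finite := Set.finite_univ
  obtain ⟨A, hA⟩ := Set.Finite.exists_maximal
    (s := {A : Subgroup X | A.Normal ∧ ∀ a ∈ A, ∀ b ∈ A, a * b = b * a})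
    (hfin.subset (Set.subset_univ _))
    ⟨⊥, inferInstance, by
      intro a ha b hb
      rw [Subgroup.mem_bot] at ha hb
      rw [ha, hb]⟩
  refine ⟨A, hA.prop.1, hA.prop.2, ?_⟩
  intro B hBn hBc hAB
  exact le_antisymm (hA.le_of_ge ⟨hBn, hBc⟩ hAB) hAB

/-- a cyclic 2-group has Frattini index at most 2 -/
theorem frattini_index_le_two_of_genA8 (hX : IsPGroup 2 X) (g : X)
    (hg : ∀ x : X, x ∈ Subgroup.zpowers g) : (frattini X).index ≤ 2 := by
  haveI : Fact (Nat.Prime 2) := ⟨Nat.prime_two⟩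
  rw [Subgroup.index_eq_card]
  have hg2 : (QuotientGroup.mk g : X ⧸ frattini X) ^ 2 = 1 := by
    rw [← QuotientGroup.mk_pow, QuotientGroup.eq_one_iff]
    exact Cfsg.Agent.Lib.Helper03.pow_mem_frattini_of_isPGroup hX g
  let f : Fin 2 → X ⧸ frattini X := fun i => if i = 0 then 1 else QuotientGroup.mk g
  have hf : Function.Surjective f := by
    intro y
    obtain ⟨x, rfl⟩ := QuotientGroup.mk_surjective y
    have hx : (QuotientGroup.mk x : X ⧸ frattini X) ∈
        Subgroup.zpowers (QuotientGroup.mk g : X ⧸ frattini X) := by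
      obtain ⟨i, hi⟩ := Subgroup.mem_zpowers_iff.mp (hg x)
      rw [Subgroup.mem_zpowers_iff]
      exact ⟨i, by rw [← hi, QuotientGroup.mk_zpow]⟩
    rcases Cfsg.Agent.Lib.Helper06.mem_zpowers_of_sq_one hg2 hx with h1 | h1
    · exact ⟨0, by simp [f, h1]⟩
    · exact ⟨1, by simp [f, h1]⟩
  have := Nat.card_le_card_of_surjective f hf
  rwa [Nat.card_fin] at this

end

theorem caseC {X : Type*} [Group X] [Finite X] (hX : IsPGroup 2 X)
    (h : ¬ ∃ z u : X, z ≠ 1 ∧ z ^ 2 = 1 ∧ z ∈ Subgroup.center X ∧ u ≠ 1 ∧ u ^ 2 = 1 ∧ u ≠ z ∧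
      ∀ s : X, s * u * s⁻¹ = u ∨ s * u * s⁻¹ = u * z) :
    (frattini X).index ≤ 4 ∧ ((∀ a b : X, a * b = b * a) → (frattini X).index ≤ 2) := by
  haveI : Fact (Nat.Prime 2) := ⟨Nat.prime_two⟩
  have habel : (∀ a b : X, a * b = b * a) → (frattini X).index ≤ 2 := by
    intro hc
    have hcyc : IsCyclic (⊤ : Subgroup X) :=
      isCyclic_of_normal_abelianA8 hX h ⊤ inferInstance (fun a _ b _ => hc a b)
    obtain ⟨⟨g, hgt⟩, hg⟩ := hcyc.exists_generator
    apply frattini_index_le_two_of_genA8 hX g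
    intro x
    obtain ⟨i, hi⟩ := Subgroup.mem_zpowers_iff.mp (hg ⟨x, Subgroup.mem_top x⟩)
    exact Subgroup.mem_zpowers_iff.mpr ⟨i, by simpa using congrArg Subtype.val hi⟩
  refine ⟨?_, habel⟩
  by_cases hc : ∀ a b : X, a * b = b * a
  · exact (habel hc).trans (by norm_num)
  -- the non-abelian case
  obtain ⟨A, hAn, hAc, hmax⟩ := exists_max_normal_abelianA8 (X := X)
  have hAcyc := isCyclic_of_normal_abelianA8 hX h A hAn hAc
  have hAc' : IsMulCommutative A := ⟨⟨fun x y => Subtype.ext (hAc x x.2 y y.2)⟩⟩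
  have hCA : Subgroup.centralizer (A : Set X) ≤ A :=
    Cfsg.Agent.Lib.Helper06.centralizer_le_of_max_normal_abelian hX A hAn hAc'
      (fun B hBn hBc hAB => hmax B hBn
        (fun a ha b hb => Cfsg.Agent.Lib.Helper06.comm_of_mem_isMulCommutative hBc ha hb) hAB)
  have hC : Subgroup.centralizer (A : Set X) = A :=
    le_antisymm hCA (fun a ha => Subgroup.mem_centralizer_iff.mpr (fun b hb => hAc b hb a ha))
  obtain ⟨n, hn⟩ := IsPGroup.iff_card.mp (hX.to_subgroup A)
  have hna : ¬ IsMulCommutative X := fun hcomm => hc (fun a b => mul_comm' a b)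
  haveI := hAn
  rcases Cfsg.Agent.Lib.Helper59.csc_main hX hna A hAcyc n hn hC with
    ⟨-, hcard, -⟩ | ⟨-, hE, hEcard, hEchar⟩
  · -- `A` has index two, so `X` is generated by two elements
    have hidx : A.index = 2 := by
      have h1 := A.card_mul_index
      rw [hn, hcard, pow_succ] at h1
      exact Nat.eq_of_mul_eq_mul_left (by positivity) h1
    obtain ⟨⟨a, haA⟩, hagen⟩ := hAcyc.exists_generator
    have hAle : A ≤ Subgroup.zpowers a := by
      intro y hy
      obtain ⟨i, hi⟩ := Subgroup.mem_zpowers_iff.mp (hagen ⟨y, hy⟩)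
      exact Subgroup.mem_zpowers_iff.mpr ⟨i, by simpa using congrArg Subtype.val hi⟩
    obtain ⟨x, hx⟩ : ∃ x : X, x ∉ A := by
      by_contra hall
      push Not at hall
      have : A = ⊤ := eq_top_iff.mpr (fun y _ => hall y)
      rw [this, Subgroup.index_top] at hidx
      omega
    have hgen : Subgroup.zpowers a ⊔ Subgroup.zpowers x = ⊤ := by
      rw [eq_top_iff]
      intro y _
      by_cases hy : y ∈ A
      · exact (le_sup_left : Subgroup.zpowers a ≤ _) (hAle hy)
      · have hxi : x⁻¹ ∉ A := fun hh => hx (by simpa using A.inv_mem hh)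
        have hyx : y * x⁻¹ ∈ A := by
          rw [Subgroup.mul_mem_iff_of_index_two hidx]
          exact ⟨fun hh => absurd hh hy, fun hh => absurd hh hxi⟩
        have : y = (y * x⁻¹) * x := by group
        rw [this]
        exact Subgroup.mul_mem _ ((le_sup_left : Subgroup.zpowers a ≤ _) (hAle hyx))
          ((le_sup_right : Subgroup.zpowers x ≤ _) (Subgroup.mem_zpowers x))
    rw [Subgroup.index_eq_card]
    exact Cfsg.Agent.Lib.Helper42.Meta2.card_frattini_quotient_le hX a x hgen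
  · -- a characteristic four-group: impossible
    exfalso
    obtain ⟨E, hEdef⟩ : ∃ E : Subgroup X, E = Cfsg.omegaOne 2
        (Subgroup.centralizer (Cfsg.powerClosure 2 1 A : Set X)) := ⟨_, rfl⟩
    rw [← hEdef] at hE hEcard hEchar
    haveI := hEchar
    have hEn : E.Normal := Subgroup.normal_of_characteristic E
    have hEcyc := isCyclic_of_normal_abelianA8 hX h E hEn
      (fun a ha b hb => Cfsg.Agent.Lib.Helper06.comm_of_mem_isMulCommutative hE.1 ha hb)
    obtain ⟨g, hg⟩ := hEcyc.exists_generator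
    have h1 : orderOf g = Nat.card E := orderOf_eq_card_of_forall_mem_zpowers hg
    have h2 : g ^ 2 = 1 := Subtype.ext (by simpa using hE.2 g g.2)
    have h3 := orderOf_dvd_of_pow_eq_one h2
    rw [h1, hEcard] at h3
    have := Nat.le_of_dvd (by norm_num) h3
    omega

end Cfsg.Agent.Lib.Helper18.AG
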