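import Mathlib
import Cfsg.Agent.Lib.Helper44.Decomp
import Cfsg.Agent.Lib.Helper44.NilpSymExt

/-!
# K-S2221-B: a Sylow 2-subgroup of `S_N`, `N` not a power of two, is decomposable
-/

set_option autoImplicit false

namespace Cfsg.Agent.Lib.Helper18.AltDec

open Cfsg.Agent.Lib.Helper44.Dec Equiv
open Cfsg.Agent.Lib.Helper44

/-- no carries: `C(2^K + b, b)` is odd for `b < 2^K` -/
theorem padicValNat_choose_two_pow_add (K b : ℕ) (hb : b < 2 ^ K) :
    padicValNat 2 (Nat.choose (2 ^ K + b) b) = 0 := by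
  rw [padicValNat_choose' (p := 2) (n := 2 ^ K) (k := b) (b := Nat.log 2 (2 ^ K + b) + 1)
    (Nat.lt_succ_self _)]
  rw [Finset.card_eq_zero, Finset.filter_eq_empty_iff]
  intro i hi
  rw [not_le]
  have hi1 : 1 ≤ i := (Finset.mem_Ico.mp hi).1
  have hpos : 0 < 2 ^ i := by positivity
  rcases le_or_gt i K with hiK | hKi
  · have h1 : 2 ^ K % 2 ^ i = 0 := Nat.mod_eq_zero_of_dvd (pow_dvd_pow 2 hiK)
    rw [h1, add_zero]
    exact Nat.mod_lt _ hpos
  · have h2 : 2 ^ (K + 1) ≤ 2 ^ i := Nat.pow_le_pow_right (by norm_num) hKi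
    have h3 : 2 ^ K < 2 ^ i := by
      have : 2 ^ K < 2 ^ (K + 1) := Nat.pow_lt_pow_right (by norm_num) (Nat.lt_succ_self K)
      omega
    rw [Nat.mod_eq_of_lt h3, Nat.mod_eq_of_lt (hb.trans h3)]
    have : 2 ^ (K + 1) = 2 ^ K + 2 ^ K := by rw [pow_succ]; ring
    omega

theorem F2_two_pow_add (K b : ℕ) (hb : b < 2 ^ K) : F2 (2 ^ K + b) = F2 (2 ^ K) * F2 b := by
  unfold F2
  rw [← pow_add]
  congr 1
  have h := Nat.add_choose_mul_factorial_mul_factorial (2 ^ K) b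
  rw [← h]
  have hc : Nat.choose (2 ^ K + b) b ≠ 0 := Nat.choose_ne_zero (Nat.le_add_left b (2 ^ K))
  rw [padicValNat.mul (mul_ne_zero hc (Nat.factorial_ne_zero _)) (Nat.factorial_ne_zero _),
    padicValNat.mul hc (Nat.factorial_ne_zero _), padicValNat_choose_two_pow_add K b hb, zero_add]

theorem one_lt_F2 (n : ℕ) (hn : 2 ≤ n) : 1 < F2 n := by
  unfold F2
  apply Nat.one_lt_pow
  · have h2 : 2 ∣ n.factorial := Nat.dvd_factorial (by norm_num) hn
    have := one_le_padicValNat_of_dvd (p := 2) (Nat.factorial_ne_zero n) h2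
    omega
  · norm_num

theorem sylow_perm_decomp_add (a b : ℕ) (K : ℕ) (ha : a = 2 ^ K) (hb : b < a) (ha2 : 2 ≤ a)
    (hb2 : 2 ≤ b) (T : Sylow 2 (Perm (Fin (a + b)))) :
    Decomp ↥(T : Subgroup (Perm (Fin (a + b)))) := by
  classical
  obtain ⟨A⟩ : Nonempty (Sylow 2 (Perm (Fin a))) := inferInstance
  obtain ⟨B⟩ : Nonempty (Sylow 2 (Perm (Fin b))) := inferInstance
  have hA : Nat.card ↥(A : Subgroup (Perm (Fin a))) = F2 a := card_sylow_perm a A
  have hB : Nat.card ↥(B : Subgroup (Perm (Fin b))) = F2 b := card_sylow_perm b B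
  have hT : Nat.card ↥(T : Subgroup (Perm (Fin (a + b)))) = F2 (a + b) := card_sylow_perm (a + b) T
  have : Nontrivial ↥(A : Subgroup (Perm (Fin a))) := by
    rw [← Finite.one_lt_card_iff_nontrivial, hA]; exact one_lt_F2 a ha2
  have : Nontrivial ↥(B : Subgroup (Perm (Fin b))) := by
    rw [← Finite.one_lt_card_iff_nontrivial, hB]; exact one_lt_F2 b hb2
  let f1 : ↥(A : Subgroup (Perm (Fin a))) × ↥(B : Subgroup (Perm (Fin b))) →*
      Perm (Fin a) × Perm (Fin b) :=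
    MonoidHom.prodMap (A : Subgroup (Perm (Fin a))).subtype (B : Subgroup (Perm (Fin b))).subtype
  let f2 : Perm (Fin a) × Perm (Fin b) →* Perm (Fin a ⊕ Fin b) := Equiv.Perm.sumCongrHom (Fin a) (Fin b)
  let f3 : Perm (Fin a ⊕ Fin b) ≃* Perm (Fin (a + b)) := (finSumFinEquiv (m := a) (n := b)).permCongrHom
  let f : ↥(A : Subgroup (Perm (Fin a))) × ↥(B : Subgroup (Perm (Fin b))) →* Perm (Fin (a + b)) :=
    f3.toMonoidHom.comp (f2.comp f1)
  have hf : Function.Injective f := by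
    have h1 : Function.Injective f1 :=
      Prod.map_injective.mpr ⟨Subtype.val_injective, Subtype.val_injective⟩
    have h2 : Function.Injective f2 := Equiv.Perm.sumCongrHom_injective
    exact f3.injective.comp (h2.comp h1)
  have hcard : Nat.card (↥(A : Subgroup (Perm (Fin a))) × ↥(B : Subgroup (Perm (Fin b))))
      = Nat.card ↥(T : Subgroup (Perm (Fin (a + b)))) := by
    rw [Nat.card_prod, hA, hB, hT]
    subst ha
    exact (F2_two_pow_add K b hb).symm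
  obtain ⟨e⟩ := sylow_equiv_of_injective 2 T f hf hcard
  exact (decomp_prod _ _).of_equiv e

/-- K-S2221-B -/
theorem sylow_perm_decomp (N : ℕ) (h4 : 4 ∣ N) (hN : ∀ r : ℕ, N ≠ 2 ^ r) (hN0 : N ≠ 0)
    (T : Sylow 2 (Perm (Fin N))) : Decomp ↥(T : Subgroup (Perm (Fin N))) := by
  obtain ⟨K, h1, h2⟩ : ∃ K, 2 ^ K ≤ N ∧ N < 2 ^ (K + 1) :=
    ⟨Nat.log 2 N, Nat.pow_log_le_self 2 hN0, Nat.lt_pow_succ_log_self (by norm_num) N⟩
  have h3 : 2 ^ K ≠ N := fun h => hN K h.symm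
  have hN4 : 4 ≤ N := Nat.le_of_dvd (Nat.pos_of_ne_zero hN0) h4
  have hK2 : 2 ≤ K := by
    by_contra hlt
    have : K + 1 ≤ 2 := by omega
    have : 2 ^ (K + 1) ≤ 2 ^ 2 := Nat.pow_le_pow_right (by norm_num) this
    omega
  have h4a : 4 ∣ 2 ^ K := by
    have : (4 : ℕ) = 2 ^ 2 := by norm_num
    rw [this]; exact pow_dvd_pow 2 hK2
  have hpow : 2 ^ (K + 1) = 2 ^ K + 2 ^ K := by rw [pow_succ]; ring
  obtain ⟨b, hb⟩ : ∃ b, N = 2 ^ K + b := ⟨N - 2 ^ K, by omega⟩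
  have hb0 : 0 < b := by omega
  have h4b : 4 ∣ b := by
    have : 4 ∣ 2 ^ K + b := hb ▸ h4
    exact (Nat.dvd_add_right h4a).mp this
  have hb4 : 4 ≤ b := Nat.le_of_dvd hb0 h4b
  have ha4 : 4 ≤ 2 ^ K := Nat.le_of_dvd (by positivity) h4a
  subst hb
  exact sylow_perm_decomp_add (2 ^ K) b K rfl (by omega) (by omega) (by omega) T

end Cfsg.Agent.Lib.Helper18.AltDec
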