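import Cfsg.Agent.Lib.Helper45.AltFreeBasic

/-!
# K-S2276-BASED: dispatcher for elements of order 3
-/

set_option autoImplicit false

namespace Cfsg.Agent.Lib.Helper18.AltFree

open Equiv Equiv.Perm Cfsg.Agent.Lib.Helper45.AltFree

variable {α : Type*} [Fintype α] [DecidableEq α]
variable {β : Type*} [Fintype β] [DecidableEq β]

omit [Fintype β] [DecidableEq β] in
/-- an element of order 3 is a 3-cycle or has two moved points in different cycles. -/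
theorem three_dichotomy (x : Perm α) (hx : x ≠ 1) (hx3 : x ^ 3 = 1) :
    x.IsThreeCycle ∨ ∃ a₁ a₂ : α, x a₁ ≠ a₁ ∧ x a₂ ≠ a₂ ∧ ¬ x.SameCycle a₁ a₂ := by
  by_cases h : ∃ a₁ a₂ : α, x a₁ ≠ a₁ ∧ x a₂ ≠ a₂ ∧ ¬ x.SameCycle a₁ a₂
  · exact Or.inr h
  · left
    push Not at h
    obtain ⟨a, ha⟩ : ∃ a, x a ≠ a := by
      by_contra hcon
      push Not at hcon
      exact hx (Equiv.ext hcon)
    have hcyc : x.IsCycle := ⟨a, ha, fun b hb => h a b ha hb⟩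
    have h3 : orderOf x = 3 := by
      have : Fact (Nat.Prime 3) := ⟨Nat.prime_three⟩
      exact orderOf_eq_prime hx3 hx
    rw [← card_support_eq_three_iff, ← hcyc.orderOf, h3]

omit [Fintype β] [DecidableEq β] in
/-- K-BASED. -/
theorem base_all (h5 : 5 ≤ Fintype.card α) (u w : Perm α) (hu : u ≠ 1) (hw : w ≠ 1)
    (hu3 : u ^ 3 = 1) (hw3 : w ^ 3 = 1)
    (HA : ∀ u w : Perm α, u.IsThreeCycle → w.IsThreeCycle →
      ∃ g ∈ alternatingGroup α, Good 3 u (g * w * g⁻¹))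
    (HB : ∀ u w : Perm α, u ^ 3 = 1 → w ^ 3 = 1 → ∀ a₁ a₂ b₁ b₂ : α, u a₁ ≠ a₁ → u a₂ ≠ a₂ →
      ¬ u.SameCycle a₁ a₂ → w b₁ ≠ b₁ → w b₂ ≠ b₂ → ¬ w.SameCycle b₁ b₂ →
      ∃ g ∈ alternatingGroup α, Good 3 u (g * w * g⁻¹))
    (HC : ∀ u w : Perm α, u ^ 3 = 1 → ∀ a₁ a₂ : α, u a₁ ≠ a₁ → u a₂ ≠ a₂ → ¬ u.SameCycle a₁ a₂ →
      w.IsThreeCycle → ∃ g ∈ alternatingGroup α, Good 3 u (g * w * g⁻¹)) :
    ∃ g ∈ alternatingGroup α, Good 3 u (g * w * g⁻¹) := by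
  have _h5 := h5
  rcases three_dichotomy u hu hu3 with hu' | ⟨a₁, a₂, ha₁, ha₂, ha⟩
  · rcases three_dichotomy w hw hw3 with hw' | ⟨b₁, b₂, hb₁, hb₂, hb⟩
    · exact HA u w hu' hw'
    · obtain ⟨g, hg, hgood⟩ := HC w u hw3 b₁ b₂ hb₁ hb₂ hb hu'
      exact ⟨g⁻¹, Subgroup.inv_mem _ hg, good_symm 3 w u g hgood⟩
  · rcases three_dichotomy w hw hw3 with hw' | ⟨b₁, b₂, hb₁, hb₂, hb⟩
    · exact HC u w hu3 a₁ a₂ ha₁ ha₂ ha hw'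
    · exact HB u w hu3 hw3 a₁ a₂ b₁ b₂ ha₁ ha₂ ha hb₁ hb₂ hb

end Cfsg.Agent.Lib.Helper18.AltFree
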