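import Cfsg.Agent.Lib.Helper45.AltFreeDefs

/-!
# K-S2276-R: restriction / model principle
-/

set_option autoImplicit false

namespace Cfsg.Agent.Lib.Helper18.AltFree

open Equiv Equiv.Perm Cfsg.Agent.Lib.Helper45.AltFree

variable {α : Type*} [Fintype α] [DecidableEq α]
variable {β : Type*} [Fintype β] [DecidableEq β]

/-- the permutations of `α` acting on the image of `v` like a permutation of `β`. -/
def modelSub (v : β → α) : Subgroup (Perm α) where
  carrier := {σ | ∃ τ : Perm β, ∀ i, σ (v i) = v (τ i)}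
  one_mem' := ⟨1, fun _ => rfl⟩
  mul_mem' := by
    rintro a b ⟨τa, ha⟩ ⟨τb, hb⟩
    exact ⟨τa * τb, fun i => by rw [Perm.mul_apply, hb, ha, Perm.mul_apply]⟩
  inv_mem' := by
    rintro a ⟨τ, ha⟩
    refine ⟨τ⁻¹, fun i => ?_⟩
    rw [Perm.inv_eq_iff_eq, ha]
    simp

omit [Fintype α] [DecidableEq α] [Fintype β] [DecidableEq β] in
theorem model_unique {v : β → α} (hv : Function.Injective v) {σ : Perm α} {τ τ' : Perm β}
    (h : ∀ i, σ (v i) = v (τ i)) (h' : ∀ i, σ (v i) = v (τ' i)) : τ = τ' :=
  Equiv.ext fun i => hv ((h i).symm.trans (h' i))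

/-- the induced permutation of `β`. -/
noncomputable def modelHom (v : β → α) (hv : Function.Injective v) : modelSub v →* Perm β where
  toFun σ := Classical.choose σ.2
  map_one' := model_unique hv (Classical.choose_spec (1 : modelSub v).2) (fun _ => rfl)
  map_mul' a b := model_unique hv (Classical.choose_spec (a * b).2) (fun i => by
    have ha := Classical.choose_spec a.2
    have hb := Classical.choose_spec b.2
    show (a.1 * b.1) (v i) = _
    rw [Perm.mul_apply, hb, ha, Perm.mul_apply])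

theorem modelHom_spec (v : β → α) (hv : Function.Injective v) (σ : modelSub v) (i : β) :
    σ.1 (v i) = v (modelHom v hv σ i) := Classical.choose_spec σ.2 i

theorem modelHom_eq (v : β → α) (hv : Function.Injective v) (σ : modelSub v) (τ : Perm β)
    (h : ∀ i, σ.1 (v i) = v (τ i)) : modelHom v hv σ = τ :=
  model_unique hv (modelHom_spec v hv σ) h

/-- K-R. -/
theorem good_of_embedding (p : ℕ) (hp : p.Prime) (x y : Perm α) (c₀ y₀ : Perm β)
    (v : β → α) (hv : Function.Injective v)
    (hx : ∀ i, x (v i) = v (c₀ i)) (hy : ∀ i, y (v i) = v (y₀ i))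
    (h : Good p c₀ y₀) : Good p x y := by
  have hxT : x ∈ modelSub v := ⟨c₀, hx⟩
  have hyT : y ∈ modelSub v := ⟨y₀, hy⟩
  have hφx : modelHom v hv ⟨x, hxT⟩ = c₀ := modelHom_eq v hv ⟨x, hxT⟩ c₀ hx
  have hφy : modelHom v hv ⟨y, hyT⟩ = y₀ := modelHom_eq v hv ⟨y, hyT⟩ y₀ hy
  refine ⟨?_, ?_⟩
  · rintro ⟨k, hk⟩
    apply h.1
    have h1 : ((⟨x, hxT⟩ * ⟨y, hyT⟩ : modelSub v)) ^ (p ^ k) = 1 := by
      apply Subtype.ext
      rw [Subgroup.coe_pow, Subgroup.coe_mul, Subgroup.coe_one, ← hk]
      exact pow_orderOf_eq_one _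
    have h2 := congrArg (modelHom v hv) h1
    rw [map_pow, map_mul, hφx, hφy, map_one] at h2
    exact (Nat.dvd_prime_pow hp).1 (orderOf_dvd_of_pow_eq_one h2) |>.imp fun j hj => hj.2
  · intro hsol
    apply h.2
    have hK : Subgroup.closure ({x, y} : Set (Perm α)) ≤ modelSub v := by
      rw [Subgroup.closure_le]
      rintro g (rfl | rfl)
      · exact hxT
      · exact hyT
    let ψ : Subgroup.closure ({x, y} : Set (Perm α)) →* Perm β :=
      (modelHom v hv).comp (Subgroup.inclusion hK)
    have hsol' : Group.IsSolvable ψ.range := Group.isSolvable_of_surjective ψ.rangeRestrict_surjective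
    have hle : Subgroup.closure ({c₀, y₀} : Set (Perm β)) ≤ ψ.range := by
      rw [Subgroup.closure_le]
      rintro g (rfl | rfl)
      · refine ⟨⟨x, Subgroup.subset_closure (by simp)⟩, ?_⟩
        exact hφx
      · refine ⟨⟨y, Subgroup.subset_closure (by simp)⟩, ?_⟩
        exact hφy
    exact Group.isSolvable_of_isSolvable_injective (Subgroup.inclusion_injective hle)

end Cfsg.Agent.Lib.Helper18.AltFree
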