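import Cfsg.Agent.Lib.Helper45.AltFreeDefs
import Cfsg.Agent.Lib.Helper18.AltFreeR

/-!
# K-S2276-RES5: degree 5, two full cycles with an even conjugator
-/

set_option autoImplicit false

namespace Cfsg.Agent.Lib.Helper18.AltFree

open Equiv Equiv.Perm Cfsg.Agent.Lib.Helper45.AltFree

/-- own copy of the perfect-generators certificate. -/
theorem not_solvable_closure_of_comm {G : Type*} [Group G] (a b a₁ a₂ b₁ b₂ : G)
    (ha₁ : a₁ ∈ Subgroup.closure ({a, b} : Set G)) (ha₂ : a₂ ∈ Subgroup.closure ({a, b} : Set G))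
    (hb₁ : b₁ ∈ Subgroup.closure ({a, b} : Set G)) (hb₂ : b₂ ∈ Subgroup.closure ({a, b} : Set G))
    (hab : a = a₁ * a₂ * a₁⁻¹ * a₂⁻¹) (hbb : b = b₁ * b₂ * b₁⁻¹ * b₂⁻¹) (hne : a ≠ 1) :
    ¬ Group.IsSolvable (Subgroup.closure ({a, b} : Set G)) := by
  intro hsol
  set K := Subgroup.closure ({a, b} : Set G) with hK
  have hle : K ≤ ⁅K, K⁆ := by
    rw [hK, Subgroup.closure_le]
    rintro g (rfl | rfl)
    · have := Subgroup.commutator_mem_commutator ha₁ ha₂
      rw [commutatorElement_def, ← hab] at this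
      exact this
    · have := Subgroup.commutator_mem_commutator hb₁ hb₂
      rw [commutatorElement_def, ← hbb] at this
      exact this
  have hle' : ⁅K, K⁆ ≤ K := by
    rw [Subgroup.commutator_le]
    intro g₁ h₁ g₂ h₂
    rw [commutatorElement_def]
    exact K.mul_mem (K.mul_mem (K.mul_mem h₁ h₂) (K.inv_mem h₁)) (K.inv_mem h₂)
  have heq : ⁅K, K⁆ = K := le_antisymm hle' hle
  have htop : commutator K = ⊤ := by
    apply Subgroup.map_injective K.subtype_injective
    rw [Subgroup.map_subtype_commutator, heq, ← MonoidHom.range_eq_map, Subgroup.range_subtype]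
  have hnt : Nontrivial K := by
    refine ⟨⟨⟨a, Subgroup.subset_closure (by simp)⟩, 1, ?_⟩⟩
    intro h
    exact hne (congrArg Subtype.val h)
  have := Group.IsSolvable.commutator_lt_top_of_nontrivial K
  rw [htop] at this
  exact lt_irrefl _ this

/-- the standard 5-cycle. -/
def c5 : Perm (Fin 5) :=
  ⟨![1, 2, 3, 4, 0], ![4, 0, 1, 2, 3], by intro x; fin_cases x <;> rfl, by intro x; fin_cases x <;> rfl⟩

/-- the 3-cycle `2 ↦ 3 ↦ 4 ↦ 2`. -/
def t5 : Perm (Fin 5) :=
  ⟨![0, 1, 3, 4, 2], ![0, 1, 4, 2, 3], by intro x; fin_cases x <;> rfl, by intro x; fin_cases x <;> rfl⟩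

/-- the conjugate `t5 * c5⁻¹ * t5⁻¹`. -/
def y5 : Perm (Fin 5) := t5 * c5⁻¹ * t5⁻¹

theorem sign_t5 : Perm.sign t5 = 1 := by decide

theorem good_model : Good 5 c5 y5 := by
  refine ⟨?_, ?_⟩
  · rintro ⟨k, hk⟩
    have h3 : orderOf (c5 * y5) = 3 := by
      have : Fact (Nat.Prime 3) := ⟨Nat.prime_three⟩
      apply orderOf_eq_prime
      · decide
      · decide
    rw [h3] at hk
    rcases k with _ | k
    · norm_num at hk
    · have : 5 ∣ 3 := by rw [hk]; exact Dvd.intro_left _ rfl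
      omega
  · apply not_solvable_closure_of_comm c5 y5 y5 (y5 * c5⁻¹) c5 (c5 * y5⁻¹)
    · exact Subgroup.subset_closure (by simp)
    · exact Subgroup.mul_mem _ (Subgroup.subset_closure (by simp))
        (Subgroup.inv_mem _ (Subgroup.subset_closure (by simp)))
    · exact Subgroup.subset_closure (by simp)
    · exact Subgroup.mul_mem _ (Subgroup.subset_closure (by simp))
        (Subgroup.inv_mem _ (Subgroup.subset_closure (by simp)))
    · decide
    · decide
    · decide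

variable {β : Type*} [Fintype β] [DecidableEq β]

/-- K-RES5. -/
theorem res_five (c : Perm β) (hc : c.IsCycle) (hcs : c.support = Finset.univ)
    (h5 : Fintype.card β = 5) : ∃ τ : Perm β, Perm.sign τ = 1 ∧ Good 5 c (τ * c⁻¹ * τ⁻¹) := by
  have hne : Nonempty β := by
    rw [← Fintype.card_pos_iff, h5]; norm_num
  obtain ⟨r⟩ := hne
  let v : Fin 5 → β := fun i => (c ^ (i : ℕ)) r
  have hv : Function.Injective v := by
    intro i j hij
    by_contra hne
    have hne' : (i : ℕ) ≠ (j : ℕ) := fun h => hne (Fin.ext h)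
    exact pow_apply_ne c hc hcs r (by rw [h5]; exact i.2) (by rw [h5]; exact j.2) hne' hij
  have hcv : ∀ i, c (v i) = v (c5 i) := by
    intro i
    have h0 : (c ^ 5) r = r := by
      have := pow_card_eq_one c hc hcs
      rw [h5] at this
      rw [this]; rfl
    fin_cases i
    · show c ((c ^ 0) r) = (c ^ 1) r
      simp
    · show c ((c ^ 1) r) = (c ^ 2) r
      rw [← Perm.mul_apply, ← pow_succ']
    · show c ((c ^ 2) r) = (c ^ 3) r
      rw [← Perm.mul_apply, ← pow_succ']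
    · show c ((c ^ 3) r) = (c ^ 4) r
      rw [← Perm.mul_apply, ← pow_succ']
    · show c ((c ^ 4) r) = (c ^ 0) r
      rw [← Perm.mul_apply, ← pow_succ', h0]; rfl
  have hbij : Function.Bijective v := by
    rw [Fintype.bijective_iff_injective_and_card]
    exact ⟨hv, by rw [h5, Fintype.card_fin]⟩
  let E : Fin 5 ≃ β := Equiv.ofBijective v hbij
  let τ : Perm β := E.permCongr t5
  have hτv : ∀ i, τ (v i) = v (t5 i) := by
    intro i
    show (E.permCongr t5) (E i) = E (t5 i)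
    rw [Equiv.permCongr_apply, Equiv.symm_apply_apply]
  refine ⟨τ, ?_, ?_⟩
  · show Perm.sign (E.permCongr t5) = 1
    rw [Equiv.Perm.sign_permCongr, sign_t5]
  · have hcT : c ∈ modelSub v := ⟨c5, hcv⟩
    have hτT : τ ∈ modelSub v := ⟨t5, hτv⟩
    have hφc : modelHom v hv ⟨c, hcT⟩ = c5 := modelHom_eq v hv ⟨c, hcT⟩ c5 hcv
    have hφτ : modelHom v hv ⟨τ, hτT⟩ = t5 := modelHom_eq v hv ⟨τ, hτT⟩ t5 hτv
    have hyT : τ * c⁻¹ * τ⁻¹ ∈ modelSub v :=
      Subgroup.mul_mem _ (Subgroup.mul_mem _ hτT (Subgroup.inv_mem _ hcT)) (Subgroup.inv_mem _ hτT)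
    have hφy : modelHom v hv ⟨τ * c⁻¹ * τ⁻¹, hyT⟩ = y5 := by
      have : (⟨τ * c⁻¹ * τ⁻¹, hyT⟩ : modelSub v) = ⟨τ, hτT⟩ * ⟨c, hcT⟩⁻¹ * ⟨τ, hτT⟩⁻¹ := rfl
      rw [this, map_mul, map_mul, map_inv, map_inv, hφc, hφτ]
      rfl
    refine good_of_embedding 5 (by norm_num) c (τ * c⁻¹ * τ⁻¹) c5 y5 v hv hcv ?_ good_model
    intro i
    have := modelHom_spec v hv ⟨τ * c⁻¹ * τ⁻¹, hyT⟩ i
    rw [hφy] at this
    exact this

end Cfsg.Agent.Lib.Helper18.AltFree
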