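import Mathlib
import Cfsg.Prelude.Def_GeometricClasses
import Cfsg.Agent.Lib.Helper61.AschDefs
import Cfsg.Agent.Lib.Helper61.AschUDefs
import Cfsg.Agent.Lib.Helper19.Unitary

/-!
Keystone K-S5663-R: a reducible subgroup of the similarity group of the standard unitary form lies in a
member of class 1 or class 2 of the unitary case.

Toolkit: `hperp hF W` (the orthogonal complement `{v | ∀ w ∈ W, 𝔥 w v = 0}` as a submodule),
`finrank_hperp` (its dimension is `n - dim W`), `Inv K X` (invariance of a subspace), `Inv.hperp`,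
`Inv.le_stab`, `Inv.map_eq`.
-/

set_option autoImplicit false
set_option linter.unusedSectionVars false

namespace Cfsg.Agent.Lib.Helper18.AschU

open Cfsg Cfsg.Geo Cfsg.Agent.Lib.Helper61.Asch Cfsg.Agent.Lib.Helper61.AschU Cfsg.Agent.Lib.Helper19
open scoped Matrix Kronecker MatrixGroups

variable {F : Type*} [Field F] [Fintype F] {n q : ℕ}

/-- `𝔥 w 0 = 0`. -/
theorem hermForm_zero_right (hF : Fintype.card F = q ^ 2) (w : Fin n → F) :
    hermForm n F q w 0 = 0 := by
  unfold hermForm
  apply Finset.sum_eq_zero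
  intro i _
  rw [Pi.zero_apply, zero_pow (q_pos hF).ne', mul_zero]

/-- `𝔥 u v = 0 ↔ 𝔥 v u = 0`. -/
theorem hermForm_eq_zero_comm (hF : Fintype.card F = q ^ 2) (u v : Fin n → F) :
    hermForm n F q u v = 0 ↔ hermForm n F q v u = 0 := by
  constructor
  · intro h
    rw [← hermForm_conj hF, h, zero_pow (q_pos hF).ne']
  · intro h
    rw [← hermForm_conj hF, h, zero_pow (q_pos hF).ne']

/-- the standard unitary form is non-degenerate. -/
theorem hermForm_nondeg_right (v : Fin n → F) (hv : v ≠ 0) : ∃ y : Fin n → F, hermForm n F q y v ≠ 0 := by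
  have : ∃ i, v i ≠ 0 := by
    by_contra hcon
    push Not at hcon
    exact hv (funext hcon)
  obtain ⟨i, hi⟩ := this
  refine ⟨Pi.single i 1, ?_⟩
  unfold hermForm
  rw [Finset.sum_eq_single i]
  · rw [Pi.single_eq_same, one_mul]
    exact pow_ne_zero _ hi
  · intro j _ hj
    rw [Pi.single_eq_of_ne hj, zero_mul]
  · intro h
    exact absurd (Finset.mem_univ i) h

/-- the orthogonal complement of a subspace for the standard unitary form. -/
def hperp (hF : Fintype.card F = q ^ 2) (W : Submodule F (Fin n → F)) : Submodule F (Fin n → F) where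
  carrier := {v | ∀ w ∈ W, hermForm n F q w v = 0}
  add_mem' := by
    intro a b ha hb w hw
    rw [hermForm_add_right hF, ha w hw, hb w hw, add_zero]
  zero_mem' := by
    intro w _
    exact hermForm_zero_right hF w
  smul_mem' := by
    intro c v hv w hw
    rw [hermForm_smul_right, hv w hw, mul_zero]

theorem mem_hperp (hF : Fintype.card F = q ^ 2) (W : Submodule F (Fin n → F)) (v : Fin n → F) :
    v ∈ hperp hF W ↔ ∀ w ∈ W, hermForm n F q w v = 0 := Iff.rfl

/-- the dot product as a bilinear form. -/
noncomputable def dotB (n : ℕ) (F : Type*) [Field F] : LinearMap.BilinForm F (Fin n → F) :=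
  Matrix.toBilin' (1 : Matrix (Fin n) (Fin n) F)

theorem dotB_apply (u v : Fin n → F) : dotB n F u v = ∑ i, u i * v i := by
  unfold dotB
  rw [Matrix.toBilin'_apply', Matrix.one_mulVec]
  rfl

theorem dotB_nondeg : (dotB n F).Nondegenerate := by
  unfold dotB
  apply LinearMap.BilinForm.nondegenerate_toBilin'_of_det_ne_zero'
  rw [Matrix.det_one]
  exact one_ne_zero

/-- the componentwise `q`-th power on vectors, as a permutation. -/
def frobVec (hF : Fintype.card F = q ^ 2) : Equiv.Perm (Fin n → F) where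
  toFun v := fun i => v i ^ q
  invFun v := fun i => v i ^ q
  left_inv v := by
    funext i
    exact pow_q_pow_q hF (v i)
  right_inv v := by
    funext i
    exact pow_q_pow_q hF (v i)

theorem mem_hperp_iff_frob (hF : Fintype.card F = q ^ 2) (W : Submodule F (Fin n → F)) (v : Fin n → F) :
    v ∈ hperp hF W ↔ frobVec hF v ∈ (dotB n F).orthogonal W := by
  rw [mem_hperp, LinearMap.BilinForm.mem_orthogonal_iff]
  constructor
  · intro h w hw
    show dotB n F w (frobVec hF v) = 0
    rw [dotB_apply]
    exact h w hw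
  · intro h w hw
    have := h w hw
    change dotB n F w (frobVec hF v) = 0 at this
    rw [dotB_apply] at this
    exact this

/-- `dim W^⊥ = n - dim W`. -/
theorem finrank_hperp (hF : Fintype.card F = q ^ 2) (W : Submodule F (Fin n → F)) :
    Module.finrank F (hperp hF W) = n - Module.finrank F W := by
  have h1 : Nat.card (hperp hF W) = Nat.card ((dotB n F).orthogonal W) :=
    Nat.card_congr (Equiv.subtypeEquiv (frobVec hF) (fun v => mem_hperp_iff_frob hF W v))
  rw [Module.natCard_eq_pow_finrank (K := F) (V := hperp hF W),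
    Module.natCard_eq_pow_finrank (K := F) (V := (dotB n F).orthogonal W)] at h1
  have hcard : 1 < Nat.card F := by
    rw [Nat.card_eq_fintype_card]
    exact Fintype.one_lt_card
  have h2 := Nat.pow_right_injective hcard h1
  rw [h2, LinearMap.BilinForm.finrank_orthogonal dotB_nondeg, Module.finrank_fin_fun]

/-- invariance of a subspace under a group of matrices. -/
def Inv (K : Subgroup (GL (Fin n) F)) (X : Submodule F (Fin n → F)) : Prop :=
  ∀ g ∈ K, ∀ v ∈ X, ((g : GL (Fin n) F) : Matrix (Fin n) (Fin n) F) *ᵥ v ∈ X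

theorem inv_mulVec_mulVec (g : GL (Fin n) F) (v : Fin n → F) :
    ((g⁻¹ : GL (Fin n) F) : Matrix (Fin n) (Fin n) F) *ᵥ ((g : Matrix (Fin n) (Fin n) F) *ᵥ v) = v := by
  rw [Matrix.mulVec_mulVec, ← Units.val_mul, inv_mul_cancel, Units.val_one, Matrix.one_mulVec]

theorem mulVec_inv_mulVec (g : GL (Fin n) F) (v : Fin n → F) :
    (g : Matrix (Fin n) (Fin n) F) *ᵥ (((g⁻¹ : GL (Fin n) F) : Matrix (Fin n) (Fin n) F) *ᵥ v) = v := by
  rw [Matrix.mulVec_mulVec, ← Units.val_mul, mul_inv_cancel, Units.val_one, Matrix.one_mulVec]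

theorem Inv.le_stab {K : Subgroup (GL (Fin n) F)} {X : Submodule F (Fin n → F)} (h : Inv K X) :
    K ≤ subspaceStabilizer X := by
  intro g hg v
  constructor
  · intro hv
    exact h g hg v hv
  · intro hv
    have := h g⁻¹ (K.inv_mem hg) _ hv
    change ((g⁻¹ : GL (Fin n) F) : Matrix (Fin n) (Fin n) F) *ᵥ ((g : Matrix (Fin n) (Fin n) F) *ᵥ v) ∈ X at this
    rw [inv_mulVec_mulVec] at this
    exact this

theorem Inv.map_eq {K : Subgroup (GL (Fin n) F)} {X : Submodule F (Fin n → F)} (h : Inv K X)
    {g : GL (Fin n) F} (hg : g ∈ K) :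
    X.map (Matrix.toLin' (g : Matrix (Fin n) (Fin n) F)) = X := by
  apply le_antisymm
  · rintro _ ⟨v, hv, rfl⟩
    rw [Matrix.toLin'_apply]
    exact h g hg v hv
  · intro v hv
    refine ⟨((g⁻¹ : GL (Fin n) F) : Matrix (Fin n) (Fin n) F) *ᵥ v, h g⁻¹ (K.inv_mem hg) v hv, ?_⟩
    rw [Matrix.toLin'_apply, mulVec_inv_mulVec]

theorem Inv.inf {K : Subgroup (GL (Fin n) F)} {X Y : Submodule F (Fin n → F)} (hX : Inv K X)
    (hY : Inv K Y) : Inv K (X ⊓ Y) := by
  intro g hg v hv
  exact ⟨hX g hg v hv.1, hY g hg v hv.2⟩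

theorem Inv.hperp (hF : Fintype.card F = q ^ 2) {K : Subgroup (GL (Fin n) F)}
    (hKΔ : K ≤ similarityGroup (hermForm n F q)) {W : Submodule F (Fin n → F)} (hW : Inv K W) :
    Inv K (hperp hF W) := by
  intro g hg v hv w hw
  obtain ⟨c, hc⟩ := hKΔ hg
  have h1 := hc (((g⁻¹ : GL (Fin n) F) : Matrix (Fin n) (Fin n) F) *ᵥ w) v
  rw [mulVec_inv_mulVec] at h1
  rw [h1, hv _ (hW g⁻¹ (K.inv_mem hg) w hw), mul_zero]

theorem inv_of_not_irreducible (K : Subgroup (GL (Fin n) F)) (W : Submodule F (Fin n → F))
    (h : ∀ s ∈ matrixSet K, W.map (Matrix.toLin' s) ≤ W) : Inv K W := by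
  intro g hg v hv
  have := h _ ⟨g, hg, rfl⟩ (Submodule.mem_map_of_mem (f := Matrix.toLin' (g : Matrix (Fin n) (Fin n) F)) hv)
  rw [Matrix.toLin'_apply] at this
  exact this

/-- K-S5663-R. -/
theorem ugeom_of_reducible (hF : Fintype.card F = q ^ 2) (K : Subgroup (GL (Fin n) F))
    (hKΔ : K ≤ similarityGroup (hermForm n F q))
    (hK : ¬ ActsIrreducibly (matrixSet K)) : UGeom n q K := by
  unfold ActsIrreducibly at hK
  push Not at hK
  obtain ⟨W, hWinv, hW0, hW1⟩ := hK
  have hW : Inv K W := inv_of_not_irreducible K W hWinv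
  have hP : Inv K (hperp hF W) := hW.hperp hF hKΔ
  have hdP := finrank_hperp hF W
  have hdW : Module.finrank F W < n := by
    have := Submodule.finrank_lt hW1
    rwa [Module.finrank_fin_fun] at this
  have hdW0 : 0 < Module.finrank F W := by
    rw [Module.finrank_pos_iff, Submodule.nontrivial_iff_ne_bot]
    exact hW0
  by_cases hR : W ⊓ hperp hF W = ⊥
  · -- nondegenerate case
    have hndW : IsNondegenerateOn (hermForm n F q) W := by
      intro w hw hw0
      have hnot : w ∉ hperp hF W := by
        intro hwp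
        have : w ∈ W ⊓ hperp hF W := ⟨hw, hwp⟩
        rw [hR] at this
        exact hw0 ((Submodule.mem_bot F).mp this)
      rw [mem_hperp] at hnot
      push Not at hnot
      obtain ⟨x, hx, hxw⟩ := hnot
      exact ⟨⟨x, hx, hxw⟩, ⟨x, hx, fun h0 => hxw ((hermForm_eq_zero_comm hF _ _).mp h0)⟩⟩
    have hsup : W ⊔ hperp hF W = ⊤ := by
      apply Submodule.eq_top_of_finrank_eq
      have h := Submodule.finrank_sup_add_finrank_inf_eq W (hperp hF W)
      rw [hR, finrank_bot, add_zero, hdP] at h
      rw [h, Module.finrank_fin_fun]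
      omega
    have hndP : IsNondegenerateOn (hermForm n F q) (hperp hF W) := by
      intro v hv hv0
      obtain ⟨y, hy⟩ := hermForm_nondeg_right (q := q) v hv0
      have hytop : y ∈ W ⊔ hperp hF W := by rw [hsup]; exact Submodule.mem_top
      obtain ⟨w, hw, x, hx, rfl⟩ := Submodule.mem_sup.mp hytop
      rw [hermForm_add_left, hv w hw, zero_add] at hy
      exact ⟨⟨x, hx, hy⟩, ⟨x, hx, fun h0 => hy ((hermForm_eq_zero_comm hF _ _).mp h0)⟩⟩
    rcases lt_trichotomy (2 * Module.finrank F W) n with hlt | heq | hgt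
    · refine ⟨subspaceStabilizer W ⊓ GU n F q, ?_, inf_le_inf_right _ hW.le_stab⟩
      unfold InUnitaryClass InUnitaryPartialClass
      exact Or.inl (Or.inr (Or.inl ⟨W, hW0, hndW, hlt, rfl⟩))
    · -- decomposition
      let D : Fin 2 → Submodule F (Fin n → F) := ![W, hperp hF W]
      have hD : IsNondegenerateMDecomposition (hermForm n F q) (Module.finrank F W) D := by
        refine ⟨⟨le_refl 2, hdW0, ?_, ?_, ?_⟩, ?_, ?_⟩
        · intro i
          fin_cases i
          · rfl
          · show Module.finrank F (hperp hF W) = _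
            rw [hdP]
            omega
        · rw [iSupIndep_pair (i := (0 : Fin 2)) (j := 1) (by decide) (by decide)]
          show Disjoint W (hperp hF W)
          rw [disjoint_iff]
          exact hR
        · apply le_antisymm le_top
          rw [← hsup]
          exact sup_le (le_iSup D 0) (le_iSup D 1)
        · intro i
          fin_cases i
          · exact hndW
          · exact hndP
        · intro i j hij
          fin_cases i <;> fin_cases j
          · exact absurd rfl hij
          · intro u hu v hv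
            exact hv u hu
          · intro u hu v hv
            exact (hermForm_eq_zero_comm hF _ _).mp (hu v hv)
          · exact absurd rfl hij
      have hle : K ≤ decompositionStabilizer D := by
        intro g hg
        refine ⟨1, fun i => ?_⟩
        fin_cases i
        · exact hW.map_eq hg
        · exact hP.map_eq hg
      refine ⟨decompositionStabilizer D ⊓ GU n F q, ?_, inf_le_inf_right _ hle⟩
      unfold InUnitaryClass InUnitaryPartialClass
      exact Or.inl (Or.inr (Or.inr (Or.inl ⟨2, Module.finrank F W, D, hD, rfl⟩)))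
    · have hP0 : hperp hF W ≠ ⊥ := by
        intro h0
        rw [h0, finrank_bot] at hdP
        omega
      refine ⟨subspaceStabilizer (hperp hF W) ⊓ GU n F q, ?_, inf_le_inf_right _ hP.le_stab⟩
      unfold InUnitaryClass InUnitaryPartialClass
      exact Or.inl (Or.inr (Or.inl ⟨hperp hF W, hP0, hndP, by omega, rfl⟩))
  · -- totally singular radical
    have hRinv : Inv K (W ⊓ hperp hF W) := hW.inf hP
    have hts : IsTotallySingularFor (hermForm n F q) (W ⊓ hperp hF W) := by
      intro u hu v hv
      exact hv.2 u hu.1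
    refine ⟨subspaceStabilizer (W ⊓ hperp hF W) ⊓ GU n F q, ?_, inf_le_inf_right _ hRinv.le_stab⟩
    unfold InUnitaryClass InUnitaryPartialClass
    exact Or.inl (Or.inl ⟨W ⊓ hperp hF W, hR, hts, rfl⟩)

end Cfsg.Agent.Lib.Helper18.AschU
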