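import Mathlib
import Cfsg.Agent.S1350
import Cfsg.Agent.S1417
import Cfsg.Agent.S1418
import Cfsg.Agent.Lib.Helper78.BG128
import Cfsg.Agent.Lib.Helper03.FrobSub
import Cfsg.Agent.Lib.Helper55.Uniq2
import Cfsg.Agent.Lib.Helper55.Uniq3
import Cfsg.Agent.Lib.Helper13.BG12B
import Cfsg.Agent.Lib.Helper71.BG11a
import Cfsg.Agent.Lib.Helper71.BG11c

/-!
# K-S1421-F (keystone 142104, architect helper83): the Frobenius argument of BG 12.11

Abelian Sylow case: an element `e` of a complement `E` of `M_σ`, of prime order `≠ p`, that is fixed-point-free on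
`M_σ` centralizes the elementary abelian `A ≤ E` of order `p²` (`p ∈ τ₂(M)`).
`B = [A, e]` (`commSub`) is `N_G(S)`-invariant, so `C_{M_σ}(B) = 1`; Wielandt's formula for the Frobenius group
`B⟨e⟩` acting on the solvable group `M_σ` gives `M_σ = 1`, a contradiction.
-/

set_option autoImplicit false
set_option linter.unusedSectionVars false
set_option linter.style.haveILetI false

namespace Cfsg.Agent.Lib.Helper18.BG1211

open Cfsg Cfsg.Agent.Lib.Helper55
open scoped commutatorElement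

variable {G : Type*} [Group G]

/-- the commutator subgroup `[A, e]` of an abelian subgroup `A` normalized by `e`, as the set of
`e w e⁻¹ w⁻¹`, `w ∈ A`. -/
def commSub (A : Subgroup G) (e : G) (hcomm : ∀ a ∈ A, ∀ b ∈ A, a * b = b * a)
    (hnorm : ∀ a ∈ A, e * a * e⁻¹ ∈ A) : Subgroup G where
  carrier := {x | ∃ w ∈ A, x = e * w * e⁻¹ * w⁻¹}
  one_mem' := ⟨1, A.one_mem, by group⟩
  mul_mem' := by
    rintro _ _ ⟨w, hw, rfl⟩ ⟨v, hv, rfl⟩
    refine ⟨w * v, A.mul_mem hw hv, ?_⟩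
    have h1 : w⁻¹ * (e * v * e⁻¹ * v⁻¹) = (e * v * e⁻¹ * v⁻¹) * w⁻¹ :=
      hcomm _ (A.inv_mem hw) _ (A.mul_mem (hnorm v hv) (A.inv_mem hv))
    calc e * w * e⁻¹ * w⁻¹ * (e * v * e⁻¹ * v⁻¹)
        = e * w * e⁻¹ * (w⁻¹ * (e * v * e⁻¹ * v⁻¹)) := by group
      _ = e * w * e⁻¹ * ((e * v * e⁻¹ * v⁻¹) * w⁻¹) := by rw [h1]
      _ = e * (w * v) * e⁻¹ * (w * v)⁻¹ := by group
  inv_mem' := by
    rintro _ ⟨w, hw, rfl⟩
    refine ⟨w⁻¹, A.inv_mem hw, ?_⟩
    have h1 : w * (e * w⁻¹ * e⁻¹) = (e * w⁻¹ * e⁻¹) * w :=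
      hcomm _ hw _ (hnorm _ (A.inv_mem hw))
    calc (e * w * e⁻¹ * w⁻¹)⁻¹ = w * (e * w⁻¹ * e⁻¹) := by group
      _ = (e * w⁻¹ * e⁻¹) * w := h1
      _ = e * w⁻¹ * e⁻¹ * w⁻¹⁻¹ := by group

theorem mem_commSub {A : Subgroup G} {e : G} {hcomm : ∀ a ∈ A, ∀ b ∈ A, a * b = b * a}
    {hnorm : ∀ a ∈ A, e * a * e⁻¹ ∈ A} {x : G} :
    x ∈ commSub A e hcomm hnorm ↔ ∃ w ∈ A, x = e * w * e⁻¹ * w⁻¹ := Iff.rfl

theorem commSub_le {A : Subgroup G} {e : G} (hcomm : ∀ a ∈ A, ∀ b ∈ A, a * b = b * a)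
    (hnorm : ∀ a ∈ A, e * a * e⁻¹ ∈ A) : commSub A e hcomm hnorm ≤ A := by
  rintro _ ⟨w, hw, rfl⟩
  exact A.mul_mem (hnorm w hw) (A.inv_mem hw)

/-- if `[A, e] = 1` then `e` centralizes `A`. -/
theorem mem_centralizer_of_commSub_eq_bot {A : Subgroup G} {e : G} (hcomm : ∀ a ∈ A, ∀ b ∈ A, a * b = b * a)
    (hnorm : ∀ a ∈ A, e * a * e⁻¹ ∈ A) (h : commSub A e hcomm hnorm = ⊥) :
    e ∈ Subgroup.centralizer (A : Set G) := by
  rw [Subgroup.mem_centralizer_iff]
  intro a ha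
  have h1 : e * a * e⁻¹ * a⁻¹ ∈ commSub A e hcomm hnorm := ⟨a, ha, rfl⟩
  rw [h, Subgroup.mem_bot] at h1
  have : a * e = (e * a * e⁻¹ * a⁻¹)⁻¹ * (e * a) := by group
  rw [this, h1, inv_one, one_mul]

/-- `e` acts without fixed points on `[A, e]` when the orders are coprime. -/
theorem commSub_fpf {A : Subgroup G} {e : G} (hcomm : ∀ a ∈ A, ∀ b ∈ A, a * b = b * a)
    (hnorm : ∀ a ∈ A, e * a * e⁻¹ ∈ A) {p r : ℕ} (hexp : ∀ a ∈ A, a ^ p = 1) (her : e ^ r = 1)
    (hcop : Nat.Coprime r p) {b : G} (hb : b ∈ commSub A e hcomm hnorm) (hbe : e * b = b * e) : b = 1 := by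
  obtain ⟨w, hw, rfl⟩ := hb
  set b := e * w * e⁻¹ * w⁻¹ with hbdef
  have hbA : b ∈ A := A.mul_mem (hnorm w hw) (A.inv_mem hw)
  have hstep : ∀ i : ℕ, e ^ i * w * (e ^ i)⁻¹ = b ^ i * w := by
    intro i
    induction i with
    | zero => simp
    | succ i ih =>
      have hbi : e * b ^ i = b ^ i * e := by
        have : Commute e b := hbe
        exact (this.pow_right i)
      calc e ^ (i + 1) * w * (e ^ (i + 1))⁻¹ = e * (e ^ i * w * (e ^ i)⁻¹) * e⁻¹ := by
            rw [pow_succ']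
            group
        _ = e * (b ^ i * w) * e⁻¹ := by rw [ih]
        _ = (e * b ^ i) * (w * e⁻¹) := by group
        _ = (b ^ i * e) * (w * e⁻¹) := by rw [hbi]
        _ = b ^ i * (e * w * e⁻¹ * w⁻¹) * w := by group
        _ = b ^ (i + 1) * w := by rw [← hbdef, pow_succ]
  have hr1 : b ^ r = 1 := by
    have := hstep r
    rw [her, one_mul, inv_one, mul_one] at this
    have h2 : b ^ r * w = 1 * w := by rw [one_mul]; exact this.symm
    exact mul_right_cancel h2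
  have hp1 : b ^ p = 1 := hexp b hbA
  have hord : orderOf b ∣ Nat.gcd r p := Nat.dvd_gcd (orderOf_dvd_of_pow_eq_one hr1) (orderOf_dvd_of_pow_eq_one hp1)
  rw [hcop] at hord
  exact orderOf_eq_one_iff.mp (Nat.dvd_one.mp hord)

/-- invariance of `[A, e]` under elements normalizing `A` and conjugating `e` to an element acting like `e`. -/
theorem commSub_conj_mem {A : Subgroup G} {e : G} (hcomm : ∀ a ∈ A, ∀ b ∈ A, a * b = b * a)
    (hnorm : ∀ a ∈ A, e * a * e⁻¹ ∈ A) {n : G} (hnA : ∀ a ∈ A, n * a * n⁻¹ ∈ A)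
    (hne : ∀ a ∈ A, (n * e * n⁻¹) * a * (n * e * n⁻¹)⁻¹ = e * a * e⁻¹) {b : G}
    (hb : b ∈ commSub A e hcomm hnorm) : n * b * n⁻¹ ∈ commSub A e hcomm hnorm := by
  obtain ⟨w, hw, rfl⟩ := hb
  refine ⟨n * w * n⁻¹, hnA w hw, ?_⟩
  rw [← hne _ (hnA w hw)]
  group


/-- **(F)** -/
theorem prime_order_centralizes [Finite G] (hG : IsMinSimpleOddOrder G) {M : Subgroup G} (hM : IsCoatom M)
    {E : Subgroup G} (hE : IsComplIn E (sigmaCore M) M)
    {p : ℕ} [Fact p.Prime] (hp : p ∈ tau2 M) {A : Subgroup G}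
    (hA : A ≤ E ∧ IsElementaryAbelian p A ∧ Nat.card A = p ^ 2)
    (hab : ∀ S : Sylow p G, ∀ a ∈ (S : Subgroup G), ∀ b ∈ (S : Subgroup G), a * b = b * a)
    {e : G} (heE : e ∈ E) (hr : (orderOf e).Prime) (hrp : orderOf e ≠ p)
    (hfix : sigmaCore M ⊓ Subgroup.centralizer ({e} : Set G) = ⊥) :
    e ∈ Subgroup.centralizer (A : Set G) := by
  classical
  by_contra hcon
  have hpp : p.Prime := Fact.out
  obtain ⟨hAE, hAe, hA2⟩ := hA
  have hEM : E ≤ M := hE.1
  have hAM : A ≤ M := hAE.trans hEM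
  have hAcomm : ∀ a ∈ A, ∀ b ∈ A, a * b = b * a := by
    intro a ha b hb
    have := hAe.1.is_comm.comm (⟨a, ha⟩ : A) ⟨b, hb⟩
    exact congrArg Subtype.val this
  have hAexp : ∀ a ∈ A, a ^ p = 1 := hAe.2
  -- a Sylow subgroup containing A
  have hAp : IsPGroup p A := IsPGroup.of_card hA2
  obtain ⟨S, hAS⟩ := hAp.exists_le_sylow
  obtain ⟨hSE, hESn, -, hNS', -⟩ := Cfsg.Agent.Lib.Helper78.BG128.sylow_abelian_structure hG hM hE hp
    ⟨hAE, hAe, hA2⟩ S hAS (hab S)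
  obtain ⟨⟨hEA, -⟩, -, h18c⟩ := Cfsg.Agent.S1418.result hG M hM E hE p hp A ⟨hAE, hAe, hA2⟩
  obtain ⟨-, h17b, -, h17d, -, -⟩ := Cfsg.Agent.S1417.result hG M hM p hp A ⟨hAM, hAe, hA2⟩
  have hSM : (S : Subgroup G) ≤ M := hSE.trans hEM
  obtain ⟨-, h17b'⟩ := h17b (S.subtype hSM)
  have hPmap : ((S.subtype hSM : Sylow p M) : Subgroup M).map M.subtype = (S : Subgroup G) := by
    rw [Sylow.coe_subtype]
    exact Subgroup.map_subgroupOf_eq_of_le hSM
  rw [hPmap] at h17b'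
  obtain ⟨hΩ, hNSM⟩ := h17b' hAS
  -- e normalizes A
  have heA : ∀ a ∈ A, e * a * e⁻¹ ∈ A := fun a ha => (Subgroup.mem_normalizer_iff.mp (hEA heE) a).mp ha
  set B := commSub A e hAcomm heA with hBdef
  have hBA : B ≤ A := commSub_le hAcomm heA
  have hB1 : B ≠ ⊥ := fun h => hcon (mem_centralizer_of_commSub_eq_bot hAcomm heA h)
  have her : e ^ orderOf e = 1 := pow_orderOf_eq_one e
  have hcop : Nat.Coprime (orderOf e) p := (Nat.coprime_primes hr hpp).mpr hrp
  have hBfpf : ∀ b ∈ B, e * b = b * e → b = 1 :=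
    fun b hb hbe => commSub_fpf hAcomm heA hAexp her hcop hb hbe
  -- N(S)-invariance
  have hNSA : ∀ n ∈ Subgroup.normalizer ((S : Subgroup G) : Set G), ∀ a ∈ A, n * a * n⁻¹ ∈ A := by
    intro n hn a ha
    have h1 : n * a * n⁻¹ ∈ (S : Subgroup G) := (Subgroup.mem_normalizer_iff.mp hn a).mp (hAS ha)
    rw [← hΩ _ h1, conj_pow, hAexp a ha]
    group
  have heNS : e ∈ Subgroup.normalizer ((S : Subgroup G) : Set G) := hESn heE
  have hNSB : ∀ n ∈ Subgroup.normalizer ((S : Subgroup G) : Set G), ∀ b ∈ B, n * b * n⁻¹ ∈ B := by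
    intro n hn b hb
    refine commSub_conj_mem hAcomm heA (hNSA n hn) ?_ hb
    intro a ha
    have hc : n * e * n⁻¹ * e⁻¹ ∈ Subgroup.centralizer ((S : Subgroup G) : Set G) := by
      have := hNS' (Subgroup.commutator_mem_commutator hn heNS)
      rwa [commutatorElement_def] at this
    have hea : e * a * e⁻¹ ∈ (S : Subgroup G) := hAS (heA a ha)
    have hcomm' := (Subgroup.mem_centralizer_iff.mp hc) _ hea
    calc n * e * n⁻¹ * a * (n * e * n⁻¹)⁻¹
        = (n * e * n⁻¹ * e⁻¹) * (e * a * e⁻¹) * (n * e * n⁻¹ * e⁻¹)⁻¹ := by group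
      _ = (e * a * e⁻¹) * (n * e * n⁻¹ * e⁻¹) * (n * e * n⁻¹ * e⁻¹)⁻¹ := by rw [← hcomm']
      _ = e * a * e⁻¹ := by group
  -- the order of B
  have hBcard : Nat.card B = p ∨ B = A := by
    have hdvd : Nat.card B ∣ p ^ 2 := by
      rw [← hA2]
      exact Subgroup.card_dvd_of_le hBA
    obtain ⟨k, hk, hBk⟩ := (Nat.dvd_prime_pow hpp).mp hdvd
    interval_cases k
    · exfalso
      apply hB1
      apply Subgroup.eq_bot_of_card_eq
      rw [hBk, pow_zero]
    · left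
      rw [hBk, pow_one]
    · right
      exact Subgroup.eq_of_le_of_card_ge hBA (by rw [hBk, hA2])
  have hM1 : M ≠ ⊥ := by
    intro h0
    apply hB1
    rw [eq_bot_iff]
    exact (hBA.trans hAM).trans (le_of_eq h0)
  -- C_{M_σ}(B) = 1
  have hCB : sigmaCore M ⊓ Subgroup.centralizer (B : Set G) = ⊥ := by
    rcases hBcard with hBp | hBA'
    · by_contra hne
      obtain ⟨hCM, huniq⟩ := h18c B hBA hBp hne
      obtain ⟨n, hnS, hnM⟩ := SetLike.not_le_iff_exists.mp hNSM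
      have hCle : Subgroup.centralizer (B : Set G) ≤ cj n M := by
        intro x hx
        rw [mem_cj]
        apply hCM
        rw [Subgroup.mem_centralizer_iff]
        intro b hb
        have h1 := (Subgroup.mem_centralizer_iff.mp hx) (n * b * n⁻¹) (hNSB n hnS b hb)
        calc b * (n⁻¹ * x * n) = n⁻¹ * ((n * b * n⁻¹) * x) * n := by group
          _ = n⁻¹ * (x * (n * b * n⁻¹)) * n := by rw [h1]
          _ = n⁻¹ * x * n * b := by group
      have hcjM : cj n M = M := huniq (cj n M) (isCoatom_cj n hM) hCle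
      have hnN : n ∈ Subgroup.normalizer (M : Set G) := cj_eq_self_iff.mp hcjM
      rw [ms_normalizer_eq hG hM hM1 le_rfl Subgroup.le_normalizer] at hnN
      exact hnM hnN
    · rw [hBA']
      exact h17d
  -- Wielandt
  have hzE : Subgroup.zpowers e ≤ E := by
    rw [Subgroup.zpowers_le]
    exact heE
  have hUn : ∀ x ∈ Subgroup.zpowers e, ∀ u ∈ B, x * u * x⁻¹ ∈ B := by
    intro x hx u hu
    refine commSub_conj_mem hAcomm heA ?_ ?_ hu
    · intro a ha
      exact (Subgroup.mem_normalizer_iff.mp (hEA (hzE hx)) a).mp ha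
    · intro a ha
      obtain ⟨k, rfl⟩ := Subgroup.mem_zpowers_iff.mp hx
      have : e ^ k * e * (e ^ k)⁻¹ = e := by group
      rw [this]
  have hzcard : Nat.card (Subgroup.zpowers e) = orderOf e := Nat.card_zpowers e
  have hfpf : ∀ x ∈ Subgroup.zpowers e, x ≠ 1 → ∀ u ∈ B, x * u = u * x → u = 1 := by
    intro x hx hx1 u hu hxu
    apply hBfpf u hu
    set K : Subgroup G := Subgroup.zpowers e ⊓ Subgroup.centralizer ({u} : Set G) with hK
    have hKle : K ≤ Subgroup.zpowers e := inf_le_left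
    have hxK : x ∈ K := by
      refine Subgroup.mem_inf.mpr ⟨hx, ?_⟩
      rw [Subgroup.mem_centralizer_iff]
      intro y hy
      rw [Set.mem_singleton_iff] at hy
      rw [hy]
      exact hxu.symm
    have hdvd : Nat.card K ∣ orderOf e := by
      rw [← hzcard]
      exact Subgroup.card_dvd_of_le hKle
    rcases (Nat.dvd_prime hr).mp hdvd with h1 | h1
    · exfalso
      apply hx1
      have := Subgroup.eq_bot_of_card_eq K h1
      rw [this, Subgroup.mem_bot] at hxK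
      exact hxK
    · have hKeq : K = Subgroup.zpowers e :=
        Subgroup.eq_of_le_of_card_ge hKle (by rw [h1, hzcard])
      have heK : e ∈ K := by
        rw [hKeq]
        exact Subgroup.mem_zpowers e
      have := (Subgroup.mem_centralizer_iff.mp heK.2) u (Set.mem_singleton u)
      exact this.symm
  have hnil : Group.IsNilpotent B := (hAp.to_le hBA).isNilpotent
  have hBzM : B ⊔ Subgroup.zpowers e ≤ M := sup_le (hBA.trans hAM) (hzE.trans hEM)
  have hHn : ∀ x ∈ B ⊔ Subgroup.zpowers e, ∀ h ∈ sigmaCore M, x * h * x⁻¹ ∈ sigmaCore M := by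
    intro x hx h hh
    exact (Subgroup.mem_normalizer_iff.mp (Cfsg.Agent.Lib.Helper71.BG11.le_normalizer_sigmaCore M (hBzM hx)) h).mp hh
  have hσle : sigmaCore M ≤ M := by
    unfold sigmaCore
    intro x hx
    obtain ⟨y, _, rfl⟩ := hx
    exact y.2
  have hσtop : sigmaCore M ≠ ⊤ := by
    intro h
    exact hM.1 (top_le_iff.mp (h ▸ hσle))
  have hsolv : Group.IsSolvable (sigmaCore M) := ms_solvable hG hσtop
  have hHall := (Cfsg.Agent.S1350.result hG M hM).1
  have hcopσ : Nat.Coprime (Nat.card (sigmaCore M)) (Nat.card ↥(B ⊔ Subgroup.zpowers e)) := by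
    apply Nat.coprime_of_dvd
    intro k hk hk1 hk2
    have h1 : k ∈ sigma M := hHall.2.1 k hk hk1
    have h2 : k ∣ Nat.card E := dvd_trans hk2 (Subgroup.card_dvd_of_le (sup_le (hBA.trans hAE) hzE))
    exact Cfsg.Agent.Lib.Helper13.BG12.complIn_prime_not_mem_sigma hHall hE k hk h2 h1
  have key := Cfsg.Agent.Lib.Helper03.FrobSub.wielandt_sub B (Subgroup.zpowers e) (sigmaCore M) hUn hfpf hnil hHn
    hsolv hcopσ
  have hCe : sigmaCore M ⊓ Subgroup.centralizer ((Subgroup.zpowers e : Subgroup G) : Set G) = ⊥ := by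
    rw [eq_bot_iff, ← hfix]
    apply inf_le_inf_left
    apply Subgroup.centralizer_le
    intro y hy
    rw [Set.mem_singleton_iff] at hy
    rw [hy]
    exact Subgroup.mem_zpowers e
  rw [hCe, hCB, Subgroup.card_bot, one_pow, one_mul] at key
  have hσ1 : Nat.card (sigmaCore M) = 1 := (mul_eq_one.mp key).2
  exact Cfsg.Agent.Lib.Helper71.BG11.sigmaCore_ne_bot hG hM hM1 (Subgroup.eq_bot_of_card_eq _ hσ1)

end Cfsg.Agent.Lib.Helper18.BG1211
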