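import Mathlib
import Cfsg.Agent.Lib.Helper31.BG134Defs2
import Cfsg.Agent.Lib.Helper31.BG12a
import Cfsg.Agent.Lib.Helper55.SylowIn
import Cfsg.Agent.Lib.Helper55.Uniq
import Cfsg.Agent.Lib.Helper55.Uniq3
import Cfsg.Agent.Lib.Helper71.BG11a
import Cfsg.Agent.Lib.Helper12.CNMaxSub
import Cfsg.Agent.Lib.Helper13.BG12B
import Cfsg.Agent.Lib.Helper65.BG134G1
import Cfsg.Agent.Lib.Helper11.BG134P2
import Cfsg.Agent.Lib.Helper18.BG134Fr
import Cfsg.Agent.S1350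
import Cfsg.Agent.S1417
import Cfsg.Agent.S1425

/-!
# Keystone 142819 (K-S1428-D5b): `p ∈ β(H)` in the 13.4 context

`p_mem_beta_of` takes the pack leaves D5a (142818), P1 (142808), CJ (142812) and the `τ₂`-part of
G8 (142807) as hypotheses.
-/

set_option autoImplicit false
set_option linter.unusedSectionVars false
set_option linter.unusedVariables false
set_option linter.style.haveILetI false

namespace Cfsg.Agent.Lib.Helper18.BG134

open Cfsg Cfsg.Agent.Lib.Helper55 Cfsg.Agent.Lib.Helper31.BG134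

variable {G : Type*} [Group G] [Finite G]

/-- for `p ∈ σ(H)` the `p`-rank of `G` is that of `H` -/
theorem pRankLE_of_mem_sigma {H : Subgroup G} {p : ℕ} [Fact p.Prime] (hpσ : p ∈ sigma H) {k : ℕ}
    (h : PRankLE p k ↥H) : PRankLE p k G := by
  obtain ⟨T, hT, -⟩ := exists_isSylowIn_ge (p := p) (K := H) (Z := ⊥) bot_le IsPGroup.of_bot
  have hidx := Helper71.BG10.sigma_not_dvd_index hpσ hT
  have hTtop := Helper71.BG11.isSylowIn_top_of_not_dvd_index hT.2.1 hidx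
  have hrT : PRankLE p k ↥T := by
    rw [pRankLE_sub_iff] at h ⊢
    intro E hET
    exact h E (hET.trans hT.1)
  have htop : PRankLE p k ↥(⊤ : Subgroup G) := pRankLE_of_isSylowIn hTtop hrT
  intro A hAc hAp
  exact (pRankLE_sub_iff.mp htop) A le_top
    (fun a ha b hb => congrArg Subtype.val (hAc.is_comm.comm ⟨a, ha⟩ ⟨b, hb⟩)) hAp

/-- a nilpotent subgroup has only one Sylow `p`-subgroup -/
theorem isSylowIn_unique_of_nilpotent {p : ℕ} [Fact p.Prime] {K T T' : Subgroup G}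
    (hnil : Group.IsNilpotent ↥K) (h : IsSylowIn p K T) (h' : IsSylowIn p K T') : T = T' := by
  obtain ⟨k, hk, hkT⟩ := h.exists_conj h'
  rw [← hkT]
  symm
  haveI := hnil
  have hn : ((h.toSylow : Sylow p K) : Subgroup K).Normal := inferInstance
  apply Subgroup.eq_of_le_of_card_ge
  · intro x hx
    rw [mem_cj] at hx
    have hxK : k⁻¹ * x * k ∈ K := h.1 hx
    have h1 : (⟨k⁻¹ * x * k, hxK⟩ : K) ∈ ((h.toSylow : Sylow p K) : Subgroup K) := by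
      rw [h.coe_toSylow, Subgroup.mem_subgroupOf]; exact hx
    have h2 := hn.conj_mem _ h1 ⟨k, hk⟩
    rw [h.coe_toSylow, Subgroup.mem_subgroupOf] at h2
    simpa [mul_assoc] using h2
  · rw [card_cj]

/-- a nontrivial `p`-group has order divisible by `p` -/
theorem dvd_card_of_isPGroup_ne_bot {p : ℕ} [Fact p.Prime] {T : Subgroup G} (hT : IsPGroup p T) (hT1 : T ≠ ⊥) :
    p ∣ Nat.card T := by
  obtain ⟨n, hn⟩ := hT.exists_card_eq
  rw [hn]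
  apply dvd_pow_self
  intro hn0
  rw [hn0, pow_zero] at hn
  exact hT1 (Subgroup.eq_bot_of_card_eq _ hn)

/-- the prime divisors of the order of a `p`-group -/
theorem eq_of_prime_dvd_card_isPGroup {p s : ℕ} [Fact p.Prime] (hp : p.Prime) {T : Subgroup G} (hT : IsPGroup p T)
    (hs : s.Prime) (hsd : s ∣ Nat.card T) : s = p := by
  obtain ⟨n, hn⟩ := hT.exists_card_eq
  rw [hn] at hsd
  exact (Nat.prime_dvd_prime_iff_eq hs hp).mp (hs.dvd_of_dvd_pow hsd)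

/-- **K-S1428-D5b** with the pack leaves D5a, P1, CJ, G8 (`τ₂` part) as hypotheses. -/
theorem p_mem_beta_of
    (hD5a : ∀ {M Ms : Subgroup G}, IsCoatom M → IsCoatom Ms → ∀ {p : ℕ}, p ∈ tau1 M →
      ¬ IsIdealPrime p G → ∀ {q : ℕ} [Fact q.Prime], q ∈ sigma M → ∀ {Y : Subgroup G},
      IsPGroup q Y → Y ≠ ⊥ → Y ≤ M → Subgroup.normalizer (Y : Set G) ≤ Ms →
      (q ∈ sigma Ms ∨ p ∉ sigma Ms) → ¬ p ∣ Nat.card ↥⁅Ms, Ms⁆)
    (hP1 : ∀ (L N D T : Subgroup G), N ≤ L → D ≤ L → L ≤ Subgroup.normalizer (N : Set G) →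
      (∀ l ∈ L, ∃ b ∈ N, ∃ d ∈ D, l = b * d) → ∀ {t : ℕ} [Fact t.Prime], ¬ t ∣ Nat.card N →
      T ≤ L → IsPGroup t T → ∃ l ∈ L, cj l T ≤ D)
    (hCJ : ∀ {M : Subgroup G} {p : ℕ}, p ∈ tau2 M → ∀ g : G, p ∈ tau2 (cj g M))
    (hG8 : ∀ {M L : Subgroup G}, IsCoatom M → IsCoatom L → L ≠ M → ∀ {q : ℕ} [Fact q.Prime],
      q ∈ sigma M → q ∉ sigma L → ∀ {X : Subgroup G}, IsPGroup q X → X ≠ ⊥ → X ≤ M →
      Subgroup.normalizer (X : Set G) ≤ L → q ∈ tau2 L)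
    {M P R H : Subgroup G} {p r : ℕ} (c : Ctx M P R H p r)
    (hnc : ∀ g : G, cj g M ≠ H) (hpσ : p ∈ sigma H) (hC : sigmaCore M ⊓ H = CP M P)
    (hq2 : ∀ q : ℕ, q.Prime → q ∣ Nat.card ↥(CP M P) → q ∉ tau2 H) : p ∈ beta H := by
  have hG := c.hG
  have hM := c.hM
  have hH := c.hH
  have hpp : p.Prime := c.hp.1
  haveI : Fact p.Prime := ⟨hpp⟩
  by_contra hpβ
  -- Step 1: `p` is not ideal
  have hid : ¬ IsIdealPrime p G := by
    intro hid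
    apply hpβ
    refine ⟨⟨hpp, ?_⟩, hid⟩
    intro h2
    exact hid.2.1 (pRankLE_of_mem_sigma hpσ h2)
  -- Step 2: a subgroup `Q₁ ≤ C ∩ H'` of prime order `q`
  have hcentN : Subgroup.centralizer (P : Set G) ≤ H :=
    (Subgroup.centralizer_le_normalizer _).trans c.hNH
  have hCH : CP M P ≤ H := inf_le_right.trans hcentN
  have hRH : R ≤ H := c.hRP.trans hcentN
  have hCM : CP M P ≤ sigmaCore M := inf_le_left
  obtain ⟨x, hxC, y, hyR, hxy⟩ : ∃ x ∈ CP M P, ∃ y ∈ R, y * x ≠ x * y := by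
    by_contra hcon
    push Not at hcon
    apply c.hnc
    intro x hx
    rw [Subgroup.mem_centralizer_iff]
    intro y hy
    exact hcon x hx y hy
  obtain ⟨z, hzdef⟩ : ∃ z : G, z = x * y * x⁻¹ * y⁻¹ := ⟨_, rfl⟩
  have hz1 : z ≠ 1 := by
    intro h
    apply hxy
    rw [hzdef, mul_inv_eq_one, mul_inv_eq_iff_eq_mul] at h
    exact h.symm
  have hzH' : z ∈ ⁅H, H⁆ := by
    have := Subgroup.commutator_mem_commutator (hCH hxC) (hRH hyR)
    rwa [commutatorElement_def, ← hzdef] at this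
  have hzC : z ∈ CP M P := by
    have h1 : y * x⁻¹ * y⁻¹ ∈ CP M P := by
      refine ⟨?_, ?_⟩
      · exact (Subgroup.mem_normalizer_iff.mp
          (Helper71.BG11.le_normalizer_sigmaCore M (c.hRM hyR)) x⁻¹).mp
          (Subgroup.inv_mem _ hxC.1)
      · exact Subgroup.mul_mem _ (Subgroup.mul_mem _ (c.hRP hyR) (Subgroup.inv_mem _ hxC.2))
          (Subgroup.inv_mem _ (c.hRP hyR))
    have h2 : z = x * (y * x⁻¹ * y⁻¹) := by rw [hzdef]; group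
    rw [h2]
    exact Subgroup.mul_mem _ hxC h1
  have hord : orderOf z ≠ 1 := by rwa [Ne, orderOf_eq_one_iff]
  obtain ⟨q, hq, hqd⟩ := Nat.exists_prime_and_dvd hord
  haveI : Fact q.Prime := ⟨hq⟩
  obtain ⟨w, hwdef⟩ : ∃ w : G, w = z ^ (orderOf z / q) := ⟨_, rfl⟩
  have hw : orderOf w = q := by
    rw [hwdef]; exact orderOf_pow_orderOf_div (orderOf_pos z).ne' hqd
  have hQ₁card : Nat.card (Subgroup.zpowers w) = q := by rw [Nat.card_zpowers, hw]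
  have hQ₁C : Subgroup.zpowers w ≤ CP M P := by
    rw [Subgroup.zpowers_le, hwdef]; exact Subgroup.pow_mem _ hzC _
  have hQ₁H' : Subgroup.zpowers w ≤ ⁅H, H⁆ := by
    rw [Subgroup.zpowers_le, hwdef]; exact Subgroup.pow_mem _ hzH' _
  have hQ₁p : IsPGroup q (Subgroup.zpowers w) :=
    IsPGroup.of_card (n := 1) (by rw [hQ₁card, pow_one])
  have hqC : q ∣ Nat.card ↥(CP M P) := by
    rw [← hQ₁card]; exact Subgroup.card_dvd_of_le hQ₁C
  have hqσM : q ∈ sigma M :=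
    (Cfsg.Agent.S1350.result hG M hM).1.2.1 q hq (hqC.trans (Subgroup.card_dvd_of_le hCM))
  -- Step 3: a Sylow `q`-subgroup of `H'` over `Q₁`, conjugated into `M_σ`
  obtain ⟨Ys, hYs, hQ₁Ys⟩ := exists_isSylowIn_ge hQ₁H' hQ₁p
  have hYs1 : Ys ≠ ⊥ := by
    intro h
    rw [h] at hQ₁Ys
    have h0 : Subgroup.zpowers w = ⊥ := le_bot_iff.mp hQ₁Ys
    rw [h0, Subgroup.card_bot] at hQ₁card
    exact hq.one_lt.ne hQ₁card
  have hYsσ : ∀ s : ℕ, s.Prime → s ∣ Nat.card Ys → s ∈ sigma M := by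
    intro s hs hsd
    rw [eq_of_prime_dvd_card_isPGroup hq hYs.2.1 hs hsd]; exact hqσM
  obtain ⟨g, hg⟩ := Cfsg.Agent.S1425.result hG M hM Ys hYs1 hYsσ
  obtain ⟨Y₁, hY₁def⟩ : ∃ Y₁ : Subgroup G, Y₁ = cj g Ys := ⟨_, rfl⟩
  obtain ⟨H₁, hH₁def⟩ : ∃ H₁ : Subgroup G, H₁ = cj g H := ⟨_, rfl⟩
  have hY₁σ : Y₁ ≤ sigmaCore M := by rw [hY₁def]; exact hg
  have hH₁ : IsCoatom H₁ := by rw [hH₁def]; exact isCoatom_cj g hH
  have hpσ₁ : p ∈ sigma H₁ := by rw [hH₁def]; exact Helper31.BG12.mem_sigma_cj hpσ g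
  have hnc₁ : ∀ k : G, cj k H₁ ≠ M := by
    intro k hk
    apply hnc ((k * g)⁻¹)
    rw [← hk, hH₁def, ← cj_mul k g, cj_inv_cj]
  have hqα₁ : q ∉ alpha H₁ := fun h =>
    Helper31.BG12.alpha_sigma_disjoint hG hH₁ hM hnc₁ h hqσM
  have hqβ₁ : q ∉ beta H₁ := fun h => hqα₁ h.1
  have hpβ₁ : p ∉ beta H₁ := fun h => hid h.2
  have hY₁ : IsSylowIn q ⁅H₁, H₁⁆ Y₁ := by
    have h1 := isSylowIn_cj hYs g
    have h2 : cj g ⁅H, H⁆ = ⁅cj g H, cj g H⁆ := Subgroup.map_commutator _ _ _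
    rw [h2, ← hH₁def, ← hY₁def] at h1
    exact h1
  have hfac := frattini_beta hG hH₁ hqβ₁ hY₁
  have hY₁1 : Y₁ ≠ ⊥ := by rw [hY₁def]; exact cj_ne_bot hYs1
  have hY₁M : Y₁ ≤ M := hY₁σ.trans (Helper71.BG11.sigmaCore_le M)
  have hY₁top : Y₁ ≠ ⊤ := by
    intro h
    rw [h] at hY₁M
    exact hM.1 (top_le_iff.mp hY₁M)
  obtain ⟨Ms, hMs, hNMs⟩ := Helper12.CNMaxSub.exists_coatom_normalizer_le hG hY₁1 hY₁top
  have hY₁q : IsPGroup q Y₁ := hY₁.2.1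
  obtain ⟨D, hDdef⟩ : ∃ D : Subgroup G, D = H₁ ⊓ Subgroup.normalizer (Y₁ : Set G) := ⟨_, rfl⟩
  have hDH₁ : D ≤ H₁ := by rw [hDdef]; exact inf_le_left
  have hDMs : D ≤ Ms := by rw [hDdef]; exact inf_le_right.trans hNMs
  have hfacD : ∀ l ∈ H₁, ∃ b ∈ piCoreOf (beta H₁) H₁, ∃ d ∈ D, l = b * d := by
    rw [hDdef]; exact hfac
  have hHallβ := (Cfsg.Agent.S1414.result hG H₁ hH₁).1
  have hpHβ : ¬ p ∣ Nat.card ↥(piCoreOf (beta H₁) H₁) := fun h => hpβ₁ (hHallβ.2.1 p hpp h)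
  have hLN : H₁ ≤ Subgroup.normalizer (piCoreOf (beta H₁) H₁ : Set G) :=
    le_normalizer_piCoreOf_self _ _
  -- a Sylow `p`-subgroup `T` of `H₁` lies in `H₁'`
  obtain ⟨T, hT, -⟩ := exists_isSylowIn_ge (p := p) (K := H₁) (Z := ⊥) bot_le IsPGroup.of_bot
  have hT1 : T ≠ ⊥ := Helper71.BG10.sylow_ne_bot (Helper71.BG10.sigma_dvd_card hpσ₁) hT
  have hTH' : T ≤ ⁅H₁, H₁⁆ :=
    Helper65.BG134.le_commutator_of_mem_sigma hG hH₁ hpσ₁ hT.1 hT.2.1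
  have hpH' : p ∣ Nat.card ↥⁅H₁, H₁⁆ :=
    (dvd_card_of_isPGroup_ne_bot hT.2.1 hT1).trans (Subgroup.card_dvd_of_le hTH')
  by_cases hcase : q ∈ sigma Ms ∨ p ∉ sigma Ms
  · -- case (i)
    have h1 : ¬ p ∣ Nat.card ↥⁅Ms, Ms⁆ :=
      hD5a hM hMs c.hp hid hqσM hY₁q hY₁1 hY₁M hNMs hcase
    have h2 : ¬ p ∣ Nat.card ↥⁅D, D⁆ := fun h =>
      h1 (h.trans (Subgroup.card_dvd_of_le (Subgroup.commutator_mono hDMs hDMs)))
    exact Helper11.BG134.not_dvd_card_commutator_of_factor H₁ _ D hHallβ.1 hDH₁ hLN hfacD hpp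
      hpHβ h2 hpH'
  · -- case (ii)
    push Not at hcase
    obtain ⟨hqMs, hpMs⟩ := hcase
    have hne : Ms ≠ M := by
      intro h
      rw [h] at hqMs
      exact hqMs hqσM
    have hq2Ms : q ∈ tau2 Ms := hG8 hM hMs hne hqσM hqMs hY₁q hY₁1 hY₁M hNMs
    obtain ⟨A, hA⟩ := Helper13.BG12.exists_elemAb_sq_of_tau2 hq2Ms
    have hnil : Group.IsNilpotent (sigmaCore Ms) :=
      (Cfsg.Agent.S1417.result hG Ms hMs q hq2Ms A hA).1
    obtain ⟨l, hl, hlT⟩ := hP1 H₁ _ D T hHallβ.1 hDH₁ hLN hfacD hpHβ hT.1 hT.2.1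
    have hT₁' : IsSylowIn p H₁ (cj l T) := by
      have := isSylowIn_cj hT l
      rwa [cj_eq_self_of_mem hl] at this
    obtain ⟨T₁, hT₁def⟩ : ∃ T₁ : Subgroup G, T₁ = cj l T := ⟨_, rfl⟩
    rw [← hT₁def] at hT₁' hlT
    have hT₁Ms : T₁ ≤ Ms := hlT.trans hDMs
    have hT₁G : IsSylowIn p ⊤ T₁ :=
      Helper71.BG11.isSylowIn_top_of_not_dvd_index hT₁'.2.1
        (Helper71.BG10.sigma_not_dvd_index hpσ₁ hT₁')
    have hHallσ := (Cfsg.Agent.S1350.result hG Ms hMs).1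
    have hT₁σ : T₁ ≤ sigmaCore Ms :=
      Helper71.BG10.le_of_isPiHallOf_normal hHallσ (Helper71.BG11.le_normalizer_sigmaCore Ms)
        hT₁Ms (by
          intro s hs hsd
          rw [eq_of_prime_dvd_card_isPGroup hpp hT₁'.2.1 hs hsd]; exact hpMs)
    have hT₁S : IsSylowIn p (sigmaCore Ms) T₁ :=
      ⟨hT₁σ, hT₁'.2.1, fun T' _ hT'p hle => hT₁G.2.2 T' le_top hT'p hle⟩
    have hMsT₁ : Ms ≤ Subgroup.normalizer (T₁ : Set G) := by
      intro m hm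
      rw [← cj_eq_self_iff]
      have h1 : IsSylowIn p (sigmaCore Ms) (cj m T₁) := by
        have := isSylowIn_cj hT₁S m
        rwa [cj_eq_self_iff.mpr (Helper71.BG11.le_normalizer_sigmaCore Ms hm)] at this
      exact isSylowIn_unique_of_nilpotent hnil h1 hT₁S
    have hMsH₁ : Ms ≤ H₁ := hMsT₁.trans (Helper71.BG10.sigma_normalizer_le hpσ₁ hT₁')
    have hEq : H₁ = Ms := by
      rcases hMs.le_iff.mp hMsH₁ with h | h
      · exact absurd h hH₁.1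
      · exact h
    rw [← hEq] at hq2Ms
    have h3 := hCJ hq2Ms g⁻¹
    rw [hH₁def, cj_inv_cj] at h3
    exact hq2 q hq hqC h3

end Cfsg.Agent.Lib.Helper18.BG134
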