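import Mathlib
import Cfsg.Agent.S1448
import Cfsg.Agent.Lib.Helper74.BGFrobF1
import Cfsg.Agent.Lib.Helper27.BG147P

/-!
# K-1383-D (keystone 138304, pack K-1383 of helper78 for S1383): a nonabelian `p`-group `P` of rank at most two with a
coprime odd operator group `K`, `[P, K] = P`, `C_P(K)` of order `p` inside `[P, P]`, has order `p ^ 3`.
-/

set_option autoImplicit false
set_option linter.unusedVariables false
set_option linter.unusedSectionVars false
set_option linter.style.longLine false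

namespace Cfsg.Agent.Lib.Helper18.BG1383

open Cfsg
open scoped commutatorElement

variable {G : Type*} [Group G]

theorem card_le_of_rank_d {p k : ℕ} (M X : Subgroup G) (hXM : X ≤ M)
    (h : PRankLE p k ↥M) (hXc : ∀ a ∈ X, ∀ b ∈ X, a * b = b * a) (hXp : ∀ a ∈ X, a ^ p = 1) :
    Nat.card X ≤ p ^ k := by
  have h1 : IsMulCommutative (X.subgroupOf M) := by
    refine ⟨⟨fun a b => Subtype.ext (Subtype.ext ?_)⟩⟩
    exact hXc _ (Subgroup.mem_subgroupOf.1 a.2) _ (Subgroup.mem_subgroupOf.1 b.2)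
  have h2 : ∀ a ∈ X.subgroupOf M, a ^ p = 1 := by
    intro a ha
    apply Subtype.ext
    have := hXp _ (Subgroup.mem_subgroupOf.1 ha)
    simpa using this
  have h3 := h (X.subgroupOf M) h1 h2
  rwa [Nat.card_congr (Subgroup.subgroupOfEquivOfLe hXM).toEquiv] at h3

theorem comm_of_isCyclic_d {H : Type*} [Group H] [IsCyclic H] (a b : H) : a * b = b * a := by
  obtain ⟨g, hg⟩ := IsCyclic.exists_generator (α := H)
  obtain ⟨m, rfl⟩ := Subgroup.mem_zpowers_iff.mp (hg a)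
  obtain ⟨n, rfl⟩ := Subgroup.mem_zpowers_iff.mp (hg b)
  exact zpow_mul_comm g m n

theorem comm_mul_left_d (a b h : G) (hbh : b * h = h * b) : ⁅a * b, h⁆ = ⁅a, h⁆ := by
  rw [commutatorElement_def, commutatorElement_def]
  have e : a * b * h * (a * b)⁻¹ * h⁻¹ = a * (b * h * b⁻¹) * a⁻¹ * h⁻¹ := by group
  have e2 : b * h * b⁻¹ = h := by rw [hbh, mul_inv_cancel_right]
  rw [e, e2]

theorem comm_mul_right_d (a a' b' : G) (hb : b' * a = a * b') : ⁅a, a' * b'⁆ = ⁅a, a'⁆ := by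
  rw [commutatorElement_def, commutatorElement_def]
  have e : a * (a' * b') * a⁻¹ * (a' * b')⁻¹ = a * a' * (b' * a⁻¹ * b'⁻¹) * a'⁻¹ := by group
  have e2 : b' * a⁻¹ * b'⁻¹ = a⁻¹ := by
    have : a⁻¹ * b' = b' * a⁻¹ := by
      calc a⁻¹ * b' = a⁻¹ * (b' * a) * a⁻¹ := by group
        _ = a⁻¹ * (a * b') * a⁻¹ := by rw [hb]
        _ = b' * a⁻¹ := by group
    rw [← this, mul_inv_cancel_right]
  rw [e, e2]

/-- an element normalizing `A` and `B` normalizes `A ⊓ B`. -/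
theorem mem_normalizer_inf_d {A B : Subgroup G} {g : G} (hA : g ∈ Subgroup.normalizer (A : Set G))
    (hB : g ∈ Subgroup.normalizer (B : Set G)) :
    g ∈ Subgroup.normalizer ((A ⊓ B : Subgroup G) : Set G) := by
  rw [Subgroup.mem_normalizer_iff] at hA hB ⊢
  intro x
  rw [Subgroup.mem_inf, Subgroup.mem_inf, hA x, hB x]

/-- an element normalizing `S` normalizes its centralizer. -/
theorem mem_normalizer_centralizer_d {S : Subgroup G} {g : G}
    (hg : g ∈ Subgroup.normalizer (S : Set G)) :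
    g ∈ Subgroup.normalizer ((Subgroup.centralizer (S : Set G) : Subgroup G) : Set G) := by
  have key : ∀ g ∈ Subgroup.normalizer (S : Set G), ∀ z ∈ Subgroup.centralizer (S : Set G),
      g * z * g⁻¹ ∈ Subgroup.centralizer (S : Set G) := by
    intro g hg z hz
    rw [Subgroup.mem_centralizer_iff] at hz ⊢
    intro h hh
    have h1 : g⁻¹ * h * g ∈ S := by
      have := (Subgroup.mem_normalizer_iff.mp (inv_mem hg) h).mp hh
      simpa using this
    have h2 := hz _ h1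
    calc h * (g * z * g⁻¹) = g * ((g⁻¹ * h * g) * z) * g⁻¹ := by group
      _ = g * (z * (g⁻¹ * h * g)) * g⁻¹ := by rw [h2]
      _ = g * z * g⁻¹ * h := by group
  rw [Subgroup.mem_normalizer_iff]
  intro z
  refine ⟨key g hg z, fun hz => ?_⟩
  have := key g⁻¹ (inv_mem hg) _ hz
  simpa [mul_assoc] using this

/-- a subgroup generated by two commuting commutative subgroups is commutative -/
theorem comm_sup_d {A B : Subgroup G} (hA : ∀ a ∈ A, ∀ b ∈ A, a * b = b * a)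
    (hB : ∀ a ∈ B, ∀ b ∈ B, a * b = b * a) (hAB : ∀ a ∈ A, ∀ b ∈ B, a * b = b * a) :
    ∀ x ∈ A ⊔ B, ∀ y ∈ A ⊔ B, x * y = y * x := by
  have hS : ∀ s ∈ (A : Set G) ∪ B, ∀ t ∈ (A : Set G) ∪ B, s * t = t * s := by
    rintro s (hs | hs) t (ht | ht)
    · exact hA s hs t ht
    · exact hAB s hs t ht
    · exact (hAB t ht s hs).symm
    · exact hB s hs t ht
  have h1 : A ⊔ B ≤ Subgroup.centralizer ((A : Set G) ∪ B) := by
    rw [Subgroup.sup_eq_closure, Subgroup.closure_le]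
    intro s hs
    rw [SetLike.mem_coe, Subgroup.mem_centralizer_iff]
    intro t ht
    exact hS t ht s hs
  have h2 : A ⊔ B ≤ Subgroup.centralizer ((A ⊔ B : Subgroup G) : Set G) := by
    rw [Subgroup.sup_eq_closure, Subgroup.closure_le]
    intro s hs
    rw [SetLike.mem_coe, Subgroup.mem_centralizer_iff]
    intro t ht
    rw [← Subgroup.sup_eq_closure] at ht
    have := h1 ht
    rw [Subgroup.mem_centralizer_iff] at this
    exact (this s hs).symm
  intro x hx y hy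
  have := h2 hy
  rw [Subgroup.mem_centralizer_iff] at this
  exact this x hx

theorem pow_card_of_mem_d [Finite G] {H : Subgroup G} {x : G} (hx : x ∈ H) : x ^ Nat.card H = 1 := by
  have h := pow_card_eq_one' (G := H) (x := ⟨x, hx⟩)
  exact congrArg Subtype.val h

/-- K-1383-D -/
theorem card_eq_cube_of_pRankLE_two {G : Type*} [Group G] [Finite G] (p : ℕ) [Fact p.Prime] (hp : p ≠ 2)
    (P K : Subgroup G) (hP : IsPGroup p P) (hPna : ¬ IsMulCommutative P) (hr : PRankLE p 2 P)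
    (hKP : K ≤ Subgroup.normalizer (P : Set G)) (hcop : (Nat.card K).Coprime p)
    (hodd : Odd (Nat.card K)) (hPK : ⁅P, K⁆ = P)
    (hZ : Nat.card ↥(P ⊓ Subgroup.centralizer (K : Set G)) = p)
    (hZ' : P ⊓ Subgroup.centralizer (K : Set G) ≤ ⁅P, P⁆) :
    Nat.card P = p ^ 3 := by
  have hpp : p.Prime := Fact.out
  have hP1 : P ≠ ⊥ := by
    intro h
    apply hPna
    refine ⟨⟨fun a b => ?_⟩⟩
    have ha : (a : G) = 1 := Subgroup.mem_bot.mp (h ▸ a.2)
    have hb : (b : G) = 1 := Subgroup.mem_bot.mp (h ▸ b.2)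
    apply Subtype.ext
    show (a : G) * (b : G) = (b : G) * (a : G)
    rw [ha, hb]
  obtain ⟨h3p, hcase⟩ := Cfsg.Agent.S1448.result p hp P K hP hP1 hr hKP hcop hodd hPK
  rcases hcase with hab | ⟨R1, R2, hsup, hcomm12, hR1na, hR1card, hR1exp, hR2cyc, hW⟩
  · exact absurd hab hPna
  have hR1P : R1 ≤ P := hsup ▸ le_sup_left
  have hR2P : R2 ≤ P := hsup ▸ le_sup_right
  have hR2comm : ∀ a ∈ R2, ∀ b ∈ R2, a * b = b * a := by
    intro a ha b hb
    exact congrArg Subtype.val (comm_of_isCyclic_d (⟨a, ha⟩ : R2) ⟨b, hb⟩)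
  -- `R2` is central in `P`
  have hR2Z : R2 ≤ Subgroup.centralizer (P : Set G) := by
    intro b hb
    have hle : P ≤ Subgroup.centralizer ({b} : Set G) := by
      rw [← hsup]
      apply sup_le
      · intro a ha
        rw [Subgroup.mem_centralizer_iff]
        intro t ht
        rw [Set.mem_singleton_iff] at ht
        subst ht
        exact (hcomm12 a ha t hb).symm
      · intro a ha
        rw [Subgroup.mem_centralizer_iff]
        intro t ht
        rw [Set.mem_singleton_iff] at ht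
        subst ht
        exact hR2comm t hb a ha
    rw [Subgroup.mem_centralizer_iff]
    intro h hh
    have := hle hh
    rw [Subgroup.mem_centralizer_iff] at this
    exact (this b rfl).symm
  have hR2cR1 : R2 ≤ Subgroup.centralizer (R1 : Set G) := by
    intro b hb
    rw [Subgroup.mem_centralizer_iff]
    intro a ha
    exact hcomm12 a ha b hb
  have hdec : ∀ g ∈ P, ∃ a ∈ R1, ∃ b ∈ R2, g = a * b := by
    intro g hg
    rw [← hsup] at hg
    exact Cfsg.Agent.Lib.Helper27.BG147.exists_mul_of_mem_sup_of_centralizer hR2cR1 hg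
  have hPP : ⁅P, P⁆ ≤ ⁅R1, R1⁆ := by
    rw [Subgroup.commutator_le]
    intro g hg h hh
    obtain ⟨a, ha, b, hb, rfl⟩ := hdec g hg
    obtain ⟨a', ha', b', hb', rfl⟩ := hdec h hh
    have hb1 : b * (a' * b') = (a' * b') * b :=
      ((Subgroup.mem_centralizer_iff.mp (hR2Z hb)) _ hh).symm
    have hb2 : b' * a = a * b' := (hcomm12 a ha b' hb').symm
    rw [comm_mul_left_d a b (a' * b') hb1, comm_mul_right_d a a' b' hb2]
    exact Subgroup.commutator_mem_commutator ha ha'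
  have hDR2 : ⁅R1, R1⁆ ≤ R2 := by
    rw [← hW, Subgroup.closure_le]
    intro x hx
    exact hx.1
  have hDR1 : ⁅R1, R1⁆ ≤ R1 := by
    rw [Subgroup.commutator_le]
    intro a ha b hb
    rw [commutatorElement_def]
    exact R1.mul_mem (R1.mul_mem (R1.mul_mem ha hb) (R1.inv_mem ha)) (R1.inv_mem hb)
  -- the centre `ZP` of `P`
  obtain ⟨ZP, hZPdef⟩ : ∃ ZP : Subgroup G, ZP = P ⊓ Subgroup.centralizer (P : Set G) := ⟨_, rfl⟩
  have hZPP : ZP ≤ P := hZPdef ▸ inf_le_left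
  have hZPcent : ZP ≤ Subgroup.centralizer (P : Set G) := hZPdef ▸ inf_le_right
  have hZPc : ∀ a ∈ ZP, ∀ b ∈ ZP, a * b = b * a := by
    intro a ha b hb
    exact (Subgroup.mem_centralizer_iff.mp (hZPcent hb)) a (hZPP ha)
  have hZ0ZP : P ⊓ Subgroup.centralizer (K : Set G) ≤ ZP := by
    intro x hx
    rw [hZPdef]
    exact ⟨hx.1, hR2Z (hDR2 (hPP (hZ' hx)))⟩
  have hR2ZP : R2 ≤ ZP := by
    intro b hb
    rw [hZPdef]
    exact ⟨hR2P hb, hR2Z hb⟩
  have hKZP : K ≤ Subgroup.normalizer (ZP : Set G) := by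
    intro k hk
    rw [hZPdef]
    exact mem_normalizer_inf_d (hKP hk) (mem_normalizer_centralizer_d (hKP hk))
  have hZPp : IsPGroup p ZP := hP.to_le hZPP
  -- `Ω₁(ZP)`
  let Ω : Subgroup G :=
    { carrier := {x | x ∈ ZP ∧ x ^ p = 1}
      mul_mem' := by
        rintro a b ⟨ha, hap⟩ ⟨hb, hbp⟩
        refine ⟨ZP.mul_mem ha hb, ?_⟩
        have hc : Commute a b := hZPc a ha b hb
        rw [hc.mul_pow, hap, hbp, one_mul]
      one_mem' := ⟨ZP.one_mem, one_pow p⟩
      inv_mem' := by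
        rintro a ⟨ha, hap⟩
        exact ⟨ZP.inv_mem ha, by rw [inv_pow, hap, inv_one]⟩ }
  have hΩmem : ∀ x, x ∈ Ω ↔ x ∈ ZP ∧ x ^ p = 1 := fun x => Iff.rfl
  have hΩZP : Ω ≤ ZP := fun x hx => ((hΩmem x).mp hx).1
  -- an element `y ∈ R1` outside the centre
  obtain ⟨y, hyR1, hyZ⟩ : ∃ y ∈ R1, y ∉ Subgroup.centralizer (P : Set G) := by
    by_contra hcon
    push Not at hcon
    apply hR1na
    refine ⟨⟨fun a b => Subtype.ext ?_⟩⟩
    show (a : G) * (b : G) = (b : G) * (a : G)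
    exact (Subgroup.mem_centralizer_iff.mp (hcon b b.2)) a (hR1P a.2)
  have hyp : y ^ p = 1 := by
    have h := Monoid.pow_exponent_eq_one (⟨y, hyR1⟩ : R1)
    rw [hR1exp] at h
    exact congrArg Subtype.val h
  have hyP : y ∈ P := hR1P hyR1
  have hyΩ : y ∉ Ω := fun h => hyZ (hZPcent (hΩZP h))
  -- `A = Ω ⊔ ⟨y⟩`
  have hYexp : ∀ t ∈ Subgroup.zpowers y, t ^ p = 1 := by
    intro t ht
    obtain ⟨i, rfl⟩ := Subgroup.mem_zpowers_iff.mp ht
    rw [← zpow_natCast, ← zpow_mul, mul_comm, zpow_mul, zpow_natCast, hyp, one_zpow]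
  have hΩY : ∀ a ∈ Ω, ∀ b ∈ Subgroup.zpowers y, a * b = b * a := by
    intro a ha b hb
    obtain ⟨i, rfl⟩ := Subgroup.mem_zpowers_iff.mp hb
    have h1 : y * a = a * y := (Subgroup.mem_centralizer_iff.mp (hZPcent (hΩZP ha))) y hyP
    have hc : Commute a y := h1.symm
    exact (hc.zpow_right i).eq
  have hAc : ∀ x ∈ Ω ⊔ Subgroup.zpowers y, ∀ z ∈ Ω ⊔ Subgroup.zpowers y, x * z = z * x :=
    comm_sup_d (fun a ha b hb => hZPc a (hΩZP ha) b (hΩZP hb))
      (fun a ha b hb => by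
        obtain ⟨i, rfl⟩ := Subgroup.mem_zpowers_iff.mp ha
        obtain ⟨j, rfl⟩ := Subgroup.mem_zpowers_iff.mp hb
        exact zpow_mul_comm y i j) hΩY
  have hYcΩ : Subgroup.zpowers y ≤ Subgroup.centralizer (Ω : Set G) := by
    intro b hb
    rw [Subgroup.mem_centralizer_iff]
    intro a ha
    exact hΩY a ha b hb
  have hAexp : ∀ x ∈ Ω ⊔ Subgroup.zpowers y, x ^ p = 1 := by
    intro x hx
    obtain ⟨a, ha, b, hb, rfl⟩ :=
      Cfsg.Agent.Lib.Helper27.BG147.exists_mul_of_mem_sup_of_centralizer hYcΩ hx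
    have hc : Commute a b := hΩY a ha b hb
    rw [hc.mul_pow, ((hΩmem a).mp ha).2, hYexp b hb, one_mul]
  have hAP : Ω ⊔ Subgroup.zpowers y ≤ P :=
    sup_le (hΩZP.trans hZPP) ((Subgroup.zpowers_le).mpr hyP)
  have hAcard : Nat.card ↥(Ω ⊔ Subgroup.zpowers y) ≤ p ^ 2 :=
    card_le_of_rank_d P _ hAP hr hAc hAexp
  have hΩlt : Nat.card Ω < Nat.card ↥(Ω ⊔ Subgroup.zpowers y) := by
    by_contra hcon
    push Not at hcon
    have heq : Ω = Ω ⊔ Subgroup.zpowers y := Subgroup.eq_of_le_of_card_ge le_sup_left hcon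
    apply hyΩ
    rw [heq]
    exact (le_sup_right : Subgroup.zpowers y ≤ Ω ⊔ Subgroup.zpowers y) (Subgroup.mem_zpowers y)
  have hΩcard : Nat.card Ω ≤ p := by
    obtain ⟨a, ha⟩ := IsPGroup.iff_card.mp (hP.to_le (hΩZP.trans hZPP))
    obtain ⟨b, hb⟩ := IsPGroup.iff_card.mp (hP.to_le hAP)
    rw [ha, hb] at hΩlt
    rw [hb] at hAcard
    rw [ha]
    have hb2 : b ≤ 2 := (Nat.pow_le_pow_iff_right hpp.one_lt).mp hAcard
    have hab : a < b := (Nat.pow_lt_pow_iff_right hpp.one_lt).mp hΩlt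
    have ha1 : a ≤ 1 := by omega
    calc p ^ a ≤ p ^ 1 := Nat.pow_le_pow_right hpp.pos ha1
      _ = p := pow_one p
  -- `Ω = Z0`
  have hZ0Ω : P ⊓ Subgroup.centralizer (K : Set G) ≤ Ω := by
    intro x hx
    refine (hΩmem x).mpr ⟨hZ0ZP hx, ?_⟩
    have := pow_card_of_mem_d hx
    rwa [hZ] at this
  have hΩeq : P ⊓ Subgroup.centralizer (K : Set G) = Ω :=
    Subgroup.eq_of_le_of_card_ge hZ0Ω (by rw [hZ]; exact hΩcard)
  -- coprime action on `ZP`
  have hfit := Cfsg.Agent.Lib.Helper74.BGFrobF.cent_inf_comm_eq_bot ZP K hZPp hZPc hKZP hcop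
  have hcommZP : ⁅ZP, K⁆ ≤ ZP := by
    rw [Subgroup.commutator_le]
    intro z hz k hk
    rw [commutatorElement_def]
    have h1 : k * z⁻¹ * k⁻¹ ∈ ZP :=
      (Subgroup.mem_normalizer_iff.mp (hKZP hk) z⁻¹).mp (ZP.inv_mem hz)
    have e : z * k * z⁻¹ * k⁻¹ = z * (k * z⁻¹ * k⁻¹) := by group
    rw [e]
    exact ZP.mul_mem hz h1
  have hcomm_bot : ⁅ZP, K⁆ = ⊥ := by
    by_contra hne
    have hpg : IsPGroup p ↥(⁅ZP, K⁆ : Subgroup G) := hZPp.to_le hcommZP
    obtain ⟨n, hn⟩ := IsPGroup.iff_card.mp hpg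
    have hn0 : n ≠ 0 := by
      intro h0
      rw [h0, pow_zero] at hn
      exact hne (Subgroup.card_eq_one.mp hn)
    have hdvd : p ∣ Nat.card ↥(⁅ZP, K⁆ : Subgroup G) := by
      rw [hn]; exact dvd_pow_self p hn0
    obtain ⟨x, hx⟩ := exists_prime_orderOf_dvd_card' p hdvd
    have hx1 : (x : G) ≠ 1 := by
      intro h1
      have : x = 1 := Subtype.ext h1
      rw [this, orderOf_one] at hx
      exact hpp.one_lt.ne hx
    have hxp : (x : G) ^ p = 1 := by
      have := pow_orderOf_eq_one x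
      rw [hx] at this
      exact congrArg Subtype.val this
    have hxΩ : (x : G) ∈ Ω := (hΩmem _).mpr ⟨hcommZP x.2, hxp⟩
    rw [← hΩeq] at hxΩ
    have hxbot : (x : G) ∈ ZP ⊓ Subgroup.centralizer (K : Set G) ⊓ ⁅ZP, K⁆ :=
      ⟨⟨hcommZP x.2, hxΩ.2⟩, x.2⟩
    rw [hfit, Subgroup.mem_bot] at hxbot
    exact hx1 hxbot
  have hZPK : ZP ≤ Subgroup.centralizer (K : Set G) := by
    intro z hz
    rw [Subgroup.mem_centralizer_iff]
    intro k hk
    have h1 : ⁅z, k⁆ ∈ (⁅ZP, K⁆ : Subgroup G) := Subgroup.commutator_mem_commutator hz hk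
    rw [hcomm_bot, Subgroup.mem_bot, commutatorElement_eq_one_iff_mul_comm] at h1
    exact h1.symm
  have hR2R1 : R2 ≤ R1 := by
    intro b hb
    have h1 : b ∈ P ⊓ Subgroup.centralizer (K : Set G) := ⟨hR2P hb, hZPK (hR2ZP hb)⟩
    exact hDR1 (hPP (hZ' h1))
  have hPR1 : P = R1 := by
    rw [← hsup]
    exact sup_eq_left.mpr hR2R1
  rw [hPR1, hR1card]

end Cfsg.Agent.Lib.Helper18.BG1383
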