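import Mathlib
import Cfsg.Agent.Lib.Helper70.BQSDefs

/-!
# K-BQS-B57 (391205, S3912): property B passes to the quotient by a normal subgroup of order two
when all proper 2-subgroups of smaller order than a Sylow 2-subgroup are commutative
-/

set_option autoImplicit false
set_option linter.unusedSectionVars false
set_option linter.unusedVariables false
set_option linter.style.haveILetI false
set_option linter.deprecated false

namespace Cfsg.Agent.Lib.Helper18.BQS

open Cfsg Cfsg.Agent.Lib.Helper70.BQS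
open scoped Pointwise

variable {G : Type*} [Group G] [Finite G]

/-- a normal subgroup of order two is central. -/
theorem b57_central (M : Subgroup G) [M.Normal] (hM2 : Nat.card ↥M = 2) (m : G) (hm : m ∈ M) (g : G) :
    g * m = m * g := by
  by_cases hm1 : m = 1
  · rw [hm1, mul_one, one_mul]
  obtain ⟨y, _, hy⟩ := (Nat.card_eq_two_iff' (1 : M)).1 hM2
  have h1 : (⟨m, hm⟩ : M) = y := hy _ (fun h => hm1 (congrArg Subtype.val h))
  have hc : g * m * g⁻¹ ∈ M := Subgroup.Normal.conj_mem inferInstance m hm g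
  have hc1 : g * m * g⁻¹ ≠ 1 := by
    intro h
    apply hm1
    have : m = g⁻¹ * (g * m * g⁻¹) * g := by group
    rw [this, h]; group
  have h2 : (⟨g * m * g⁻¹, hc⟩ : M) = y := hy _ (fun h => hc1 (congrArg Subtype.val h))
  have h3 : g * m * g⁻¹ = m := congrArg Subtype.val (h2.trans h1.symm)
  calc g * m = g * m * g⁻¹ * g := by group
    _ = m * g := by rw [h3]

theorem b57_sq (M : Subgroup G) (hM2 : Nat.card ↥M = 2) (m : G) (hm : m ∈ M) : m ^ 2 = 1 := by
  have h := pow_card_eq_one' (G := M) (x := ⟨m, hm⟩)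
  rw [hM2] at h
  exact congrArg Subtype.val h

/-- elements of odd order of `H = A.comap mk` commute with all of `H`. -/
theorem b57_odd_central (M : Subgroup G) [M.Normal] (hM2 : Nat.card ↥M = 2)
    (A : Subgroup (G ⧸ M)) (hA : IsMulCommutative ↥A) (x u : G)
    (hx : x ∈ A.comap (QuotientGroup.mk' M)) (hu : u ∈ A.comap (QuotientGroup.mk' M))
    (hodd : Odd (orderOf u)) : u * x = x * u := by
  -- c = x u x⁻¹ u⁻¹ ∈ M
  have hcM : x * u * x⁻¹ * u⁻¹ ∈ M := by
    rw [← QuotientGroup.eq_one_iff]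
    have hcomm : ((x : G ⧸ M)) * (u : G ⧸ M) = (u : G ⧸ M) * (x : G ⧸ M) := by
      have := hA.is_comm.comm (⟨(x : G ⧸ M), hx⟩ : A) ⟨(u : G ⧸ M), hu⟩
      exact congrArg Subtype.val this
    simp only [QuotientGroup.mk_mul, QuotientGroup.mk_inv]
    rw [hcomm]; group
  set c := x * u * x⁻¹ * u⁻¹ with hc
  have hcc : ∀ g : G, g * c = c * g := fun g => b57_central M hM2 c hcM g
  have hc2 : c ^ 2 = 1 := b57_sq M hM2 c hcM
  obtain ⟨k, hk⟩ := hodd
  have hconj : x * u * x⁻¹ = c * u := by rw [hc]; group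
  have h1 : (x * u * x⁻¹) ^ orderOf u = 1 := by
    rw [conj_pow, pow_orderOf_eq_one]; group
  have h2 : (c * u) ^ orderOf u = c ^ orderOf u := by
    rw [(Commute.mul_pow (hcc u).symm), pow_orderOf_eq_one, mul_one]
  have h3 : c ^ orderOf u = 1 := by rw [← h2, ← hconj, h1]
  have h4 : c = 1 := by
    have : c ^ orderOf u = c := by
      rw [hk, pow_succ, pow_mul, hc2, one_pow, one_mul]
    rw [← this, h3]
  have h5 : x * u * x⁻¹ = u := by rw [hconj, h4, one_mul]
  calc u * x = x * u * x⁻¹ * x := by rw [h5]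
    _ = x * u := by group

/-- structure of `H = A.comap mk`: a normal Sylow `2`-subgroup `T` and a central complement `U`. -/
theorem b57_struct (M : Subgroup G) [M.Normal] (hM2 : Nat.card ↥M = 2)
    (A : Subgroup (G ⧸ M)) (hA : IsMulCommutative ↥A) :
    ∃ T U : Subgroup G, T ≤ A.comap (QuotientGroup.mk' M) ∧ U ≤ A.comap (QuotientGroup.mk' M) ∧
      IsPGroup 2 T ∧
      Nat.card T = 2 ^ (Nat.card (A.comap (QuotientGroup.mk' M))).factorization 2 ∧
      Nat.card T * Nat.card U = Nat.card (A.comap (QuotientGroup.mk' M)) ∧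
      (∀ u ∈ U, ∀ x ∈ A.comap (QuotientGroup.mk' M), u * x = x * u) ∧
      (∀ x ∈ A.comap (QuotientGroup.mk' M), ∃ t ∈ T, ∃ u ∈ U, x = t * u) := by
  classical
  obtain ⟨H, hH⟩ : ∃ H : Subgroup G, H = A.comap (QuotientGroup.mk' M) := ⟨_, rfl⟩
  rw [← hH]
  haveI : Fact (Nat.Prime 2) := ⟨Nat.prime_two⟩
  have hmemH : ∀ x : G, x ∈ H → (x : G ⧸ M) ∈ A := by
    intro x hx
    rw [hH] at hx
    exact hx
  -- the hom to A
  let f : ↥H →* ↥A :=
    { toFun := fun x => ⟨((x : G) : G ⧸ M), hmemH x x.2⟩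
      map_one' := by apply Subtype.ext; simp
      map_mul' := by intro x y; apply Subtype.ext; simp }
  have hker : f.ker ≤ Subgroup.center ↥H := by
    intro x hx
    rw [MonoidHom.mem_ker] at hx
    have hxM : (x : G) ∈ M := by
      have h1 := congrArg Subtype.val hx
      simp only [f, MonoidHom.coe_mk, OneHom.coe_mk, Subgroup.coe_one] at h1
      exact (QuotientGroup.eq_one_iff _).1 h1
    rw [Subgroup.mem_center_iff]
    intro y
    apply Subtype.ext
    simp only [Subgroup.coe_mul]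
    exact b57_central M hM2 _ hxM _
  haveI : Group.IsNilpotent ↥A := by
    open scoped IsMulCommutative in exact CommGroup.isNilpotent
  haveI : Group.IsNilpotent ↥H := isNilpotent_of_ker_le_center f hker
  obtain ⟨T'⟩ : Nonempty (Sylow 2 ↥H) := inferInstance
  haveI : (T' : Subgroup ↥H).Normal := inferInstance
  obtain ⟨U', hU'⟩ := Subgroup.exists_right_complement'_of_coprime
    (N := (T' : Subgroup ↥H)) T'.card_coprime_index
  have hoddU : Odd (Nat.card U') := by
    rw [← hU'.symm.index_eq_card]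
    rw [← Nat.not_even_iff_odd, even_iff_two_dvd]
    exact T'.not_dvd_index
  refine ⟨(T' : Subgroup ↥H).map H.subtype, U'.map H.subtype, ?_, ?_, ?_, ?_, ?_, ?_, ?_⟩
  · rintro _ ⟨x, _, rfl⟩
    exact x.2
  · rintro _ ⟨x, _, rfl⟩
    exact x.2
  · exact T'.isPGroup'.map H.subtype
  · rw [Subgroup.card_map_of_injective H.subtype_injective]
    exact T'.card_eq_multiplicity
  · rw [Subgroup.card_map_of_injective H.subtype_injective,
      Subgroup.card_map_of_injective H.subtype_injective]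
    exact hU'.card_mul_card
  · rintro _ ⟨u, hu, rfl⟩ x hx
    have hou : Odd (orderOf ((u : ↥H) : G)) := by
      rw [Subgroup.orderOf_coe]
      have h1 : orderOf (⟨u, hu⟩ : ↥U') ∣ Nat.card U' := orderOf_dvd_natCard _
      rw [← Subgroup.orderOf_coe] at h1
      exact Odd.of_dvd_nat hoddU h1
    have hx' : x ∈ A.comap (QuotientGroup.mk' M) := hH ▸ hx
    have hu' : ((u : ↥H) : G) ∈ A.comap (QuotientGroup.mk' M) := hH ▸ u.2
    exact b57_odd_central M hM2 A hA x _ hx' hu' hou
  · intro x hx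
    obtain ⟨⟨⟨t, ht⟩, ⟨u, hu⟩⟩, hxu, _⟩ :=
      (Subgroup.isComplement'_def.1 hU').existsUnique (⟨x, hx⟩ : ↥H)
    refine ⟨t, ⟨t, ht, rfl⟩, u, ⟨u, hu, rfl⟩, ?_⟩
    have h1 := congrArg Subtype.val hxu
    simpa using h1.symm

theorem b57_card_comap (M : Subgroup G) [M.Normal] (A B : Subgroup (G ⧸ M))
    (h : Nat.card ↥A = Nat.card ↥B) :
    Nat.card ↥(A.comap (QuotientGroup.mk' M)) = Nat.card ↥(B.comap (QuotientGroup.mk' M)) := by
  have hA := Subgroup.card_mul_index (A.comap (QuotientGroup.mk' M))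
  have hB := Subgroup.card_mul_index (B.comap (QuotientGroup.mk' M))
  rw [Subgroup.index_comap_of_surjective A (QuotientGroup.mk'_surjective M)] at hA
  rw [Subgroup.index_comap_of_surjective B (QuotientGroup.mk'_surjective M)] at hB
  have hA' := Subgroup.card_mul_index A
  have hB' := Subgroup.card_mul_index B
  have hidx : A.index = B.index := by
    have hpos : 0 < Nat.card ↥A := Nat.card_pos
    apply Nat.eq_of_mul_eq_mul_left hpos
    rw [hA', h, hB']
  have hipos : 0 < B.index := Nat.pos_of_ne_zero Subgroup.index_ne_zero_of_finite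
  apply Nat.eq_of_mul_eq_mul_right hipos
  rw [hB, ← hidx, hA]

theorem propB_quot_of_card_two (hB : PropB G) (M : Subgroup G) [M.Normal]
    (hM2 : Nat.card ↥M = 2) (S : Sylow 2 G) (hS : SmallComm S) : PropB (G ⧸ M) := by
  classical
  haveI : Fact (Nat.Prime 2) := ⟨Nat.prime_two⟩
  intro A B hA hB' hcard
  obtain ⟨HA, hHA⟩ : ∃ H : Subgroup G, H = A.comap (QuotientGroup.mk' M) := ⟨_, rfl⟩
  obtain ⟨HB, hHB⟩ : ∃ H : Subgroup G, H = B.comap (QuotientGroup.mk' M) := ⟨_, rfl⟩
  have hcH : Nat.card ↥HA = Nat.card ↥HB := by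
    rw [hHA, hHB]; exact b57_card_comap M A B hcard
  suffices h : ∃ g : G, HA.map (MulAut.conj g).toMonoidHom ≤ HB by
    obtain ⟨g, hg⟩ := h
    have heq : HA.map (MulAut.conj g).toMonoidHom = HB := by
      apply Subgroup.eq_of_le_of_card_ge hg
      rw [Subgroup.card_map_of_injective (MulAut.conj g).injective]
      exact hcH.ge
    refine ⟨(g : G ⧸ M), ?_⟩
    have hAmap : A = HA.map (QuotientGroup.mk' M) := by
      rw [hHA, Subgroup.map_comap_eq_self_of_surjective (QuotientGroup.mk'_surjective M)]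
    have hBmap : B = HB.map (QuotientGroup.mk' M) := by
      rw [hHB, Subgroup.map_comap_eq_self_of_surjective (QuotientGroup.mk'_surjective M)]
    rw [hBmap, ← heq, hAmap, Subgroup.map_map, Subgroup.map_map]
    congr 1
  obtain ⟨TA, UA, hTA, hUA, hpA, hcTA, hmulA, hcenA, hdecA⟩ := b57_struct M hM2 A hA
  obtain ⟨TB, UB, hTB, hUB, hpB, hcTB, hmulB, hcenB, hdecB⟩ := b57_struct M hM2 B hB'
  rw [← hHA] at hTA hUA hcTA hmulA hcenA hdecA
  rw [← hHB] at hTB hUB hcTB hmulB hcenB hdecB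
  have hcT : Nat.card ↥TA = Nat.card ↥TB := by rw [hcTA, hcTB, hcH]
  have hcU : Nat.card ↥UA = Nat.card ↥UB := by
    have hpos : 0 < Nat.card ↥TA := Nat.card_pos
    apply Nat.eq_of_mul_eq_mul_left hpos
    rw [hmulA, hcT, hmulB, hcH]
  have hcommUA : IsMulCommutative ↥UA :=
    ⟨⟨fun a b => Subtype.ext (hcenA a a.2 b (hUA b.2))⟩⟩
  have hcommUB : IsMulCommutative ↥UB :=
    ⟨⟨fun a b => Subtype.ext (hcenB a a.2 b (hUB b.2))⟩⟩
  -- card TA ≤ card S
  have hle : Nat.card ↥TA ≤ Nat.card ↥(S : Subgroup G) := by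
    obtain ⟨Q, hQ⟩ := hpA.exists_le_sylow
    calc Nat.card ↥TA ≤ Nat.card ↥(Q : Subgroup G) := Subgroup.card_le_of_le hQ
      _ = Nat.card ↥(S : Subgroup G) := by rw [Q.card_eq_multiplicity, S.card_eq_multiplicity]
  by_cases hlt : Nat.card ↥TA < Nat.card ↥(S : Subgroup G)
  · -- both `H` abelian
    have hTAc : IsMulCommutative ↥TA := hS TA hpA hlt
    have hTBc : IsMulCommutative ↥TB := hS TB hpB (hcT ▸ hlt)
    have key : ∀ (H T U : Subgroup G), T ≤ H → U ≤ H → IsMulCommutative ↥T →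
        (∀ u ∈ U, ∀ x ∈ H, u * x = x * u) → (∀ x ∈ H, ∃ t ∈ T, ∃ u ∈ U, x = t * u) →
        IsMulCommutative ↥H := by
      intro H T U hT hU hTc hcen hdec
      refine ⟨⟨fun a b => Subtype.ext ?_⟩⟩
      obtain ⟨t, ht, u, hu, hab⟩ := hdec a a.2
      obtain ⟨t', ht', u', hu', hab'⟩ := hdec b b.2
      have htt : t * t' = t' * t := congrArg Subtype.val (hTc.is_comm.comm ⟨t, ht⟩ ⟨t', ht'⟩)
      have h1 : u * t' = t' * u := hcen u hu t' (hT ht')
      have h2 : u' * t = t * u' := hcen u' hu' t (hT ht)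
      have h3 : u' * u = u * u' := hcen u' hu' u (hU hu)
      simp only [Subgroup.coe_mul]
      rw [hab, hab']
      calc t * u * (t' * u') = t * (u * t') * u' := by group
        _ = t * (t' * u) * u' := by rw [h1]
        _ = (t * t') * (u * u') := by group
        _ = (t' * t) * (u' * u) := by rw [htt, h3]
        _ = t' * (t * u') * u := by group
        _ = t' * (u' * t) * u := by rw [h2]
        _ = t' * u' * (t * u) := by group
    have hHAc := key HA TA UA hTA hUA hTAc hcenA hdecA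
    have hHBc := key HB TB UB hTB hUB hTBc hcenB hdecB
    obtain ⟨g, hg⟩ := hB HA HB hHAc hHBc hcH
    exact ⟨g, hg.ge⟩
  · -- Sylow case
    have hTAS : Nat.card ↥TA = Nat.card ↥(S : Subgroup G) := le_antisymm hle (not_lt.1 hlt)
    obtain ⟨g, hg⟩ := hB UA UB hcommUA hcommUB hcU
    obtain ⟨TAg, hTAg⟩ : ∃ X : Subgroup G, X = TA.map (MulAut.conj g).toMonoidHom := ⟨_, rfl⟩
    have hcTAg : Nat.card ↥TAg = 2 ^ (Nat.card G).factorization 2 := by
      rw [hTAg, Subgroup.card_map_of_injective (MulAut.conj g).injective, hTAS,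
        S.card_eq_multiplicity]
    have hcTB' : Nat.card ↥TB = 2 ^ (Nat.card G).factorization 2 := by
      rw [← hcT, hTAS, S.card_eq_multiplicity]
    obtain ⟨C, hC⟩ : ∃ C : Subgroup G, C = Subgroup.centralizer (UB : Set G) := ⟨_, rfl⟩
    have hTBC : TB ≤ C := by
      intro t ht
      rw [hC, Subgroup.mem_centralizer_iff]
      intro u hu
      exact hcenB u hu t (hTB ht)
    have hTAgC : TAg ≤ C := by
      intro y hy
      rw [hTAg] at hy
      obtain ⟨t, ht, rfl⟩ := hy
      rw [hC, Subgroup.mem_centralizer_iff]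
      intro u' hu'
      rw [hg] at hu'
      obtain ⟨u, hu, rfl⟩ := hu'
      have h1 : u * t = t * u := hcenA u hu t (hTA ht)
      simp only [MulEquiv.coe_toMonoidHom, MulAut.conj_apply]
      calc g * u * g⁻¹ * (g * t * g⁻¹) = g * (u * t) * g⁻¹ := by group
        _ = g * (t * u) * g⁻¹ := by rw [h1]
        _ = g * t * g⁻¹ * (g * u * g⁻¹) := by group
    let QA : Sylow 2 G := Sylow.ofCard TAg hcTAg
    let QB : Sylow 2 G := Sylow.ofCard TB hcTB'
    have hQA : (QA : Subgroup G) ≤ C := hTAgC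
    have hQB : (QB : Subgroup G) ≤ C := hTBC
    obtain ⟨c, hc⟩ := MulAction.exists_smul_eq ↥C (QA.subtype hQA) (QB.subtype hQB)
    have hconj : ∀ y ∈ TAg, (c : G) * y * (c : G)⁻¹ ∈ TB := by
      intro y hy
      have hyC : y ∈ C := hTAgC hy
      have h1 : (⟨y, hyC⟩ : ↥C) ∈ ((QA.subtype hQA : Sylow 2 ↥C) : Subgroup ↥C) := by
        rw [Sylow.coe_subtype, Subgroup.mem_subgroupOf]
        exact hy
      have h2 : MulAut.conj c • (⟨y, hyC⟩ : ↥C) ∈
          MulAut.conj c • ((QA.subtype hQA : Sylow 2 ↥C) : Subgroup ↥C) :=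
        Subgroup.smul_mem_pointwise_smul_iff.2 h1
      rw [← Sylow.coe_subgroup_smul, hc, Sylow.coe_subtype, Subgroup.mem_subgroupOf] at h2
      have h3 : (c : G) * y * (c : G)⁻¹ ∈ (QB : Subgroup G) := by
        simpa [MulAut.smul_def] using h2
      exact h3
    refine ⟨(c : G) * g, ?_⟩
    rintro _ ⟨x, hx, rfl⟩
    obtain ⟨t, ht, u, hu, rfl⟩ := hdecA x hx
    have h1 : (c : G) * (g * t * g⁻¹) * (c : G)⁻¹ ∈ TB := by
      apply hconj
      rw [hTAg]
      exact ⟨t, ht, rfl⟩
    have hguB : g * u * g⁻¹ ∈ UB := by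
      rw [hg]
      exact ⟨u, hu, rfl⟩
    have h2 : (c : G) * (g * u * g⁻¹) * (c : G)⁻¹ = g * u * g⁻¹ := by
      have hcC : (c : G) ∈ Subgroup.centralizer (UB : Set G) := hC ▸ c.2
      have := Subgroup.mem_centralizer_iff.1 hcC _ hguB
      calc (c : G) * (g * u * g⁻¹) * (c : G)⁻¹ = (g * u * g⁻¹ * (c : G)) * (c : G)⁻¹ := by rw [this]
        _ = g * u * g⁻¹ := by group
    have h3 : (MulAut.conj ((c : G) * g)).toMonoidHom (t * u)
        = ((c : G) * (g * t * g⁻¹) * (c : G)⁻¹) * ((c : G) * (g * u * g⁻¹) * (c : G)⁻¹) := by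
      simp only [MulEquiv.coe_toMonoidHom, MulAut.conj_apply]
      group
    rw [h3, h2]
    exact HB.mul_mem (hTB h1) (hUB hguB)

end Cfsg.Agent.Lib.Helper18.BQS
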