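import Mathlib
import Cfsg.Agent.Lib.Helper73.CT4Basic
import Cfsg.Agent.S4035

/-!
# K-S4146-D3 (bb2_false)

Class sizes `{1, n, m, n * m}` with `n < m` coprime, no good element for `n`, `T` the normal subgroup of
elements of class size `1` or `n`: it is impossible that every element of class size `m` centralizes `T`.
-/

set_option autoImplicit false

namespace Cfsg.Agent.Lib.Helper18.CT4

open Cfsg.Agent.Lib.Helper73 Cfsg.Agent.Lib.Helper73.CT4

/-- If all `p`-regular elements of a finite group are central, every Sylow `p`-subgroup is normal. -/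
theorem sylow_normal_of_regular_central {L : Type*} [Group L] [Finite L] {p : ℕ} [Fact p.Prime]
    (h : ∀ v : L, (orderOf v).Coprime p → v ∈ Subgroup.center L) (P : Sylow p L) :
    (P : Subgroup L).Normal := by
  refine (Cfsg.Agent.S4035.result (G := L) (p := p) ?_ P).1
  intro v hv
  have hc := Subgroup.mem_center_iff.1 (h v hv)
  have hcar : (ConjClasses.mk v).carrier = {v} := by
    ext a
    rw [ConjClasses.mem_carrier_iff_mk_eq, ConjClasses.mk_eq_mk_iff_isConj, isConj_iff,
      Set.mem_singleton_iff]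
    constructor
    · rintro ⟨c, hc'⟩
      have h1 : a = c⁻¹ * v * c := by rw [← hc']; group
      rw [h1, hc c⁻¹]; group
    · rintro rfl
      exact ⟨1, by group⟩
  rw [hcar, Set.ncard_singleton]
  exact (Fact.out : p.Prime).one_lt.ne' ∘ Nat.dvd_one.1

variable {G : Type*} [Group G] {n m : ℕ}

/-- second half of KD1': without good elements for `n`, the index of `T ∩ Z(G)` in `T` is prime to `n`. -/
theorem relIndex_center_coprime [Finite G] (hN : ¬ Good G n) (T : Subgroup G)
    (hT : ∀ g : G, g ∈ T ↔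
      ((Subgroup.centralizer ({g} : Set G)).index = 1 ∨ (Subgroup.centralizer ({g} : Set G)).index = n)) :
    ((Subgroup.center G).relIndex T).Coprime n := by
  apply Nat.coprime_of_dvd
  intro r hr hr1 hr2
  have : Fact r.Prime := ⟨hr⟩
  obtain ⟨R⟩ : Nonempty (Sylow r ↥T) := inferInstance
  have hle : (R : Subgroup ↥T) ≤ (Subgroup.center G).subgroupOf T := by
    intro a ha
    rw [Subgroup.mem_subgroupOf]
    obtain ⟨k, hk⟩ := (IsPGroup.iff_orderOf.1 R.isPGroup') ⟨a, ha⟩
    have hk' : orderOf (a : G) = r ^ k := by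
      have h1 : orderOf (a : G) = orderOf a := Subgroup.orderOf_coe a
      have h2 : orderOf (⟨a, ha⟩ : ↥(R : Subgroup ↥T)) = orderOf a := Subgroup.orderOf_mk a ha
      rw [h1, ← h2, hk]
    rcases (hT (a : G)).1 a.2 with h1 | h1
    · exact (index_Cz_eq_one_iff _).1 h1
    · exact absurd ⟨(a : G), r, k, hr, hr2, hk', h1⟩ hN
  have h1 : ((Subgroup.center G).subgroupOf T).index ∣ (R : Subgroup ↥T).index :=
    Subgroup.index_dvd_of_le hle
  exact R.not_dvd_index (hr1.trans h1)

/-- K-S4146-D3 -/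
theorem bb2_false [Finite G] (H : Hyp G n m) (hlt : n < m) (hN : ¬ Good G n)
    (T : Subgroup G) [T.Normal]
    (hT : ∀ g : G, g ∈ T ↔
      ((Subgroup.centralizer ({g} : Set G)).index = 1 ∨ (Subgroup.centralizer ({g} : Set G)).index = n))
    (hall : ∀ y : G, (Subgroup.centralizer ({y} : Set G)).index = m → ∀ x ∈ T, Commute x y) : False := by
  classical
  -- a primary element `x` of class size `n`
  obtain ⟨x₁, hx₁⟩ := H.exists_n
  obtain ⟨x, -, t, k, ht, hxo, hxn, -⟩ := H.exists_primary hx₁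
  have hxT : x ∈ T := (hT x).2 (Or.inr hxn)
  -- a prime `s` dividing `n`, a Sylow `s`-subgroup `S`, and `u ∈ S` not commuting with `x`
  obtain ⟨s, hs, hsn⟩ := Nat.exists_prime_and_dvd (ne_of_gt H.hn)
  have : Fact s.Prime := ⟨hs⟩
  have hsm : ¬ s ∣ m := fun h => hs.one_lt.ne' (Nat.eq_one_of_dvd_coprimes H.cop hsn h)
  obtain ⟨S⟩ : Nonempty (Sylow s G) := inferInstance
  obtain ⟨u, huS, hux⟩ : ∃ u ∈ (S : Subgroup G), u ∉ Subgroup.centralizer ({x} : Set G) := by
    by_contra hcon
    push Not at hcon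
    have hle : (S : Subgroup G) ≤ Subgroup.centralizer ({x} : Set G) := hcon
    have h1 := Subgroup.index_dvd_of_le hle
    rw [hxn] at h1
    exact S.not_dvd_index (hsn.trans h1)
  obtain ⟨j, huo'⟩ := (IsPGroup.iff_orderOf.1 S.isPGroup') ⟨u, huS⟩
  have huo : orderOf u = s ^ j := by
    rw [← huo']; exact (Subgroup.orderOf_mk u huS).symm
  have hux' : ¬ Commute x u := fun h => hux (mem_Cz.2 h.symm.eq)
  -- `u` has class size `n * m`
  have hunm : (Subgroup.centralizer ({u} : Set G)).index = n * m := by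
    rcases H.idx_cases u with h | h | h | h
    · exfalso
      have := Subgroup.mem_center_iff.1 ((index_Cz_eq_one_iff u).1 h) x
      exact hux' this
    · exact absurd ⟨u, s, j, hs, hsn, huo, h⟩ hN
    · exact absurd (hall u h x hxT) hux'
    · exact h
  -- the centralizer `C` of `u`; its `s`-regular elements are central in it
  obtain ⟨C, hC⟩ : ∃ C : Subgroup G, C = Subgroup.centralizer ({u} : Set G) := ⟨_, rfl⟩
  have huC : u ∈ C := hC ▸ self_mem_Cz u
  have hreg : ∀ w ∈ C, (orderOf w).Coprime s → C ≤ Subgroup.centralizer ({w} : Set G) := by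
    intro w hw hwo
    rw [hC]
    refine H.le_of_max hunm (hC ▸ hw) ?_
    rw [huo]
    exact (hwo.pow_right j).symm
  obtain ⟨P⟩ : Nonempty (Sylow s ↥C) := inferInstance
  have hPn : (P : Subgroup ↥C).Normal := by
    apply sylow_normal_of_regular_central
    intro v hv
    rw [Subgroup.mem_center_iff]
    intro c
    have h1 : orderOf (v : G) = orderOf v := Subgroup.orderOf_coe v
    have h2 := hreg (v : G) v.2 (h1 ▸ hv) c.2
    have h3 : (c : G) * (v : G) = (v : G) * (c : G) := mem_Cz.1 h2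
    exact Subtype.ext h3
  have := Sylow.unique_of_normal P hPn
  -- every `s`-element of `C` lies in `Su`
  obtain ⟨Su, hSu⟩ : ∃ Su : Subgroup G, Su = (P : Subgroup ↥C).map C.subtype := ⟨_, rfl⟩
  have hSuP : IsPGroup s Su := hSu ▸ P.isPGroup'.map C.subtype
  have hmemSu : ∀ a ∈ C, ∀ i : ℕ, orderOf a = s ^ i → a ∈ Su := by
    intro a ha i hai
    have hz : IsPGroup s (Subgroup.zpowers (⟨a, ha⟩ : ↥C)) := by
      apply IsPGroup.of_card (n := i)
      rw [Nat.card_zpowers, Subgroup.orderOf_mk, hai]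
    obtain ⟨Q, hQ⟩ := hz.exists_le_sylow
    have hQP : Q = P := Subsingleton.elim _ _
    rw [hSu]
    exact ⟨⟨a, ha⟩, hQP ▸ hQ (Subgroup.mem_zpowers _), rfl⟩
  -- a Sylow `s`-subgroup `S₂` of `G` containing `Su`, and an element `y'` of class size `m` centralizing `S₂`
  obtain ⟨S₂, hS₂⟩ := hSuP.exists_le_sylow
  obtain ⟨y₀, hy₀⟩ := H.exists_m
  obtain ⟨S₁, hS₁⟩ := Cfsg.Agent.S4127.exists_sylow_le (p := s) (Subgroup.centralizer ({y₀} : Set G))
    (hy₀ ▸ hsm)
  obtain ⟨g, hg⟩ := MulAction.exists_smul_eq G S₁ S₂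
  obtain ⟨y', hy'⟩ : ∃ y' : G, y' = g * y₀ * g⁻¹ := ⟨_, rfl⟩
  have hy'm : (Subgroup.centralizer ({y'} : Set G)).index = m := by
    rw [hy', index_Cz_conj, hy₀]
  have hS₂y : ∀ a ∈ (S₂ : Subgroup G), a * y' = y' * a := by
    intro a ha
    rw [← hg, Cfsg.Agent.S4127.mem_smul_sylow] at ha
    have h1 : g⁻¹ * a * g * y₀ = y₀ * (g⁻¹ * a * g) := mem_Cz.1 (hS₁ ha)
    rw [hy']
    calc a * (g * y₀ * g⁻¹) = g * (g⁻¹ * a * g * y₀) * g⁻¹ := by group
      _ = g * (y₀ * (g⁻¹ * a * g)) * g⁻¹ := by rw [h1]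
      _ = g * y₀ * g⁻¹ * a := by group
  have hy'C : y' ∈ C := by
    rw [hC]
    exact mem_Cz.2 (hS₂y u (hS₂ (hmemSu u huC j huo))).symm
  -- `C ≤ C(y')`
  have hCK : C ≤ Subgroup.centralizer ({y'} : Set G) := by
    intro c hc
    obtain ⟨a, b, hab, haz, hbz, ⟨i, hai⟩, hbo⟩ := dec' c s hs
    have hzC : Subgroup.zpowers c ≤ C := Subgroup.zpowers_le.2 hc
    have ha : a * y' = y' * a := hS₂y a (hS₂ (hmemSu a (hzC haz) i hai))
    have hb : y' * b = b * y' := mem_Cz.1 (hreg b (hzC hbz) hbo hy'C)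
    rw [mem_Cz, ← hab, mul_assoc, ← hb, ← mul_assoc, ha, mul_assoc]
  -- `T ≤ C(y')`
  have hTK : T ≤ Subgroup.centralizer ({y'} : Set G) := fun a ha => mem_Cz.2 (hall y' hy'm a ha).eq
  -- index computations
  have hrel : C.relIndex (Subgroup.centralizer ({y'} : Set G)) = n := by
    have hCi : C.index = n * m := by rw [hC]; exact hunm
    have h1 := Subgroup.relIndex_mul_index hCK
    rw [hy'm, hCi] at h1
    exact Nat.eq_of_mul_eq_mul_right H.m_pos h1
  have hdvd1 : C.relIndex T ∣ n := by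
    rw [← hrel]
    have : (T.subgroupOf (Subgroup.centralizer ({y'} : Set G))).Normal := inferInstance
    have h1 := relIndex_dvd_index_of_normal_right
      (C.subgroupOf (Subgroup.centralizer ({y'} : Set G)))
      (T.subgroupOf (Subgroup.centralizer ({y'} : Set G)))
    rw [Subgroup.relIndex_subgroupOf hTK] at h1
    exact h1
  have hdvd2 : C.relIndex T ∣ (Subgroup.center G).relIndex T := by
    apply Subgroup.relIndex_dvd_of_le_left
    rw [hC]
    exact center_le_Cz u
  have hone : C.relIndex T = 1 :=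
    Nat.eq_one_of_dvd_coprimes (relIndex_center_coprime hN T hT) hdvd2 hdvd1
  have hTC : T ≤ C := Subgroup.relIndex_eq_one.1 hone
  have := hTC hxT
  rw [hC] at this
  exact hux' (mem_Cz.1 this)

end Cfsg.Agent.Lib.Helper18.CT4
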