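import Mathlib
import Cfsg.Prelude.Def_Characters
import Cfsg.Agent.Lib.Helper83.Quotient

/-!
# K-S4140-A: in a Camina pair `(G, N)` every irreducible character which is not trivial on `N`
vanishes outside `N`.
-/

set_option autoImplicit false

namespace Cfsg.Agent.Lib.Helper18.Camina

open Cfsg

universe u

/-- K-S4140-A (C1). -/
theorem camina_irr_vanish {G : Type u} [Group G] [Finite G] (N : Subgroup G) [N.Normal]
    (hcam : ∀ g : G, g ∉ N → ∀ n ∈ N, ∃ x : G, x * g * x⁻¹ = g * n)
    {χ : G → ℂ} (hχ : IsIrrCharacter G χ) (hker : ∃ n ∈ N, χ n ≠ χ 1) (g : G) (hg : g ∉ N) :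
    χ g = 0 := by
  classical
  have _ : Fintype G := Fintype.ofFinite G
  have _ : Fintype N := Fintype.ofFinite N
  have hcf : ∀ a x : G, χ (x * a * x⁻¹) = χ a := by
    obtain ⟨n, ρ, _, rfl⟩ := hχ
    intro a x
    exact Representation.char_conj ρ a x
  have h0 := Cfsg.Agent.Lib.Helper83.irr_sum_coset_eq_zero (⟨χ, hχ⟩ : IrrCharacter G) N hker g
  have h1 : ∑ n : N, χ (g * n) = ∑ _n : N, χ g := by
    apply Finset.sum_congr rfl
    intro n _
    obtain ⟨x, hx⟩ := hcam g hg n n.2
    rw [← hx, hcf]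
  have h0' : ∑ n : N, χ (g * n) = 0 := h0
  rw [h1, Finset.sum_const, Finset.card_univ, nsmul_eq_mul] at h0'
  rcases mul_eq_zero.1 h0' with h | h
  · exfalso
    have : Fintype.card N ≠ 0 := Fintype.card_ne_zero
    exact this (by exact_mod_cast h)
  · exact h

end Cfsg.Agent.Lib.Helper18.Camina
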