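import Mathlib

/-!
# K-S4140-G: the norm argument

`M` abelian normal in `A`, `A ⧸ M` contains `Z_p × Z_p`, and `C_M(x)` is a `p`-group for every `x ∉ M`:
then `M` is a `p`-group.
-/

set_option autoImplicit false

namespace Cfsg.Agent.Lib.Helper18.Camina

section core

variable {Q V : Type*} [Group Q] [CommGroup V] (p : ℕ) [hp : Fact p.Prime] (ψ : Q →* MulAut V)

/-- the norm of `y` along the cyclic group generated by `q` (where `q ^ p = 1`) -/
noncomputable def nrm (q : Q) (y : V) : V := ∏ z : ZMod p, ψ (q ^ z.val) y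

omit [CommGroup V] in
theorem pow_val_add {q : Q} (hq : q ^ p = 1) (z w : ZMod p) :
    q ^ (z + w).val = q ^ z.val * q ^ w.val := by
  rw [ZMod.val_add, ← pow_eq_pow_mod _ hq, pow_add]

omit [CommGroup V] in
theorem pow_val_mul {q : Q} (hq : q ^ p = 1) (z w : ZMod p) :
    q ^ (z * w).val = (q ^ z.val) ^ w.val := by
  rw [ZMod.val_mul, ← pow_eq_pow_mod _ hq, pow_mul]

theorem nrm_fixed {q : Q} (hq : q ^ p = 1) (y : V) : ψ q (nrm p ψ q y) = nrm p ψ q y := by
  have : Fact (1 < p) := ⟨hp.out.one_lt⟩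
  unfold nrm
  rw [map_prod]
  have h : ∀ z : ZMod p, ψ q (ψ (q ^ z.val) y) = ψ (q ^ (1 + z).val) y := by
    intro z
    rw [pow_val_add p hq, ZMod.val_one, pow_one, map_mul, MulAut.mul_apply]
  rw [Finset.prod_congr rfl (fun z _ => h z)]
  exact Fintype.prod_equiv (Equiv.addLeft (1 : ZMod p)) _ _ (fun z => rfl)

theorem nrm_pow (q : Q) (y : V) (n : ℕ) : (nrm p ψ q y) ^ n = nrm p ψ q (y ^ n) := by
  unfold nrm
  rw [← Finset.prod_pow]
  apply Finset.prod_congr rfl
  intro z _
  exact (map_pow (ψ (q ^ z.val)) y n).symm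

theorem norm_core (a b : Q) (ha : a ^ p = 1) (hb : b ^ p = 1) (hcomm : Commute a b) (y : V)
    (hNb : nrm p ψ b y = 1) (hN : ∀ j : ZMod p, nrm p ψ (a * b ^ j.val) y = 1) : y ^ p = 1 := by
  have h1 : ∏ j : ZMod p, nrm p ψ (a * b ^ j.val) y = 1 :=
    Finset.prod_eq_one (fun j _ => hN j)
  have h2 : ∀ j i : ZMod p,
      ψ ((a * b ^ j.val) ^ i.val) y = ψ (a ^ i.val) (ψ (b ^ (j * i).val) y) := by
    intro j i
    rw [(hcomm.pow_right _).mul_pow, pow_val_mul p hb, map_mul, MulAut.mul_apply]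
  unfold nrm at h1
  simp_rw [h2] at h1
  rw [Finset.prod_comm] at h1
  have h3 : ∀ i : ZMod p, ∏ j : ZMod p, ψ (a ^ i.val) (ψ (b ^ (j * i).val) y) =
      if i = 0 then y ^ p else 1 := by
    intro i
    split_ifs with hi
    · subst hi
      simp [ZMod.val_zero, ZMod.card]
    · rw [← map_prod]
      have : ∏ j : ZMod p, ψ (b ^ (j * i).val) y = nrm p ψ b y :=
        Fintype.prod_equiv (Equiv.mulRight₀ i hi) _ _ (fun j => rfl)
      rw [this, hNb, map_one]
  simp_rw [h3] at h1
  rw [Finset.prod_ite_eq' Finset.univ (0 : ZMod p) (fun _ => y ^ p)] at h1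
  simpa using h1

end core

universe u

/-- K-S4140-G. -/
theorem isPGroup_of_rank_two_fpf {A : Type u} [Group A] [Finite A] (M : Subgroup A)
    [hM : M.Normal] (hab : ∀ x ∈ M, ∀ y ∈ M, x * y = y * x) (p : ℕ) [Fact p.Prime]
    (a b : A ⧸ M) (ha : orderOf a = p) (hb : orderOf b = p) (hcomm : a * b = b * a)
    (hba : b ∉ Subgroup.zpowers a)
    (hfpf : ∀ x : A, x ∉ M → ∀ y ∈ M, x * y = y * x → ∃ j : ℕ, y ^ (p ^ j) = 1) :
    IsPGroup p M := by
  classical
  have hp : p.Prime := Fact.out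
  letI instC : CommGroup ↥M :=
    { (inferInstance : Group ↥M) with mul_comm := fun x y => Subtype.ext (hab x x.2 y y.2) }
  -- the action of `A ⧸ M` on `M`
  let φ : A →* MulAut ↥M := MulAut.conjNormal
  have hker : M ≤ φ.ker := by
    intro m hm
    rw [MonoidHom.mem_ker]
    ext y
    show ((MulAut.conjNormal m y : ↥M) : A) = y
    rw [MulAut.conjNormal_apply]
    rw [hab m hm y y.2]; group
  let ψ : A ⧸ M →* MulAut ↥M := QuotientGroup.lift M φ hker
  have hψ : ∀ (x : A) (y : ↥M), ((ψ (QuotientGroup.mk x) y : ↥M) : A) = x * y * x⁻¹ := by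
    intro x y
    show ((φ x y : ↥M) : A) = x * y * x⁻¹
    exact MulAut.conjNormal_apply x y
  have hap : a ^ p = 1 := ha ▸ pow_orderOf_eq_one a
  have hbp : b ^ p = 1 := hb ▸ pow_orderOf_eq_one b
  have ha1 : a ≠ 1 := by
    rintro rfl; rw [orderOf_one] at ha; exact hp.one_lt.ne ha
  have hb1 : b ≠ 1 := by
    rintro rfl; rw [orderOf_one] at hb; exact hp.one_lt.ne hb
  -- norms of `p`-regular elements along cyclic subgroups of order `p` are trivial
  have hnrm : ∀ q : A ⧸ M, q ≠ 1 → q ^ p = 1 → ∀ y : ↥M, (orderOf y).Coprime p →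
      nrm p ψ q y = 1 := by
    intro q hq1 hqp y hy
    obtain ⟨x, rfl⟩ := QuotientGroup.mk_surjective q
    have hxM : x ∉ M := fun h => hq1 ((QuotientGroup.eq_one_iff x).2 h)
    have hfix := nrm_fixed p ψ hqp y
    have hn : (nrm p ψ (QuotientGroup.mk x) y) ^ (orderOf y) = 1 := by
      rw [nrm_pow, pow_orderOf_eq_one]
      unfold nrm
      simp
    obtain ⟨u, hu⟩ : ∃ u : ↥M, u = nrm p ψ (QuotientGroup.mk x) y := ⟨_, rfl⟩
    rw [← hu] at hfix hn ⊢
    have hcm : x * (u : A) = (u : A) * x := by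
      have := congrArg (fun w : ↥M => (w : A)) hfix
      simp only [hψ] at this
      calc x * (u : A) = (x * (u : A) * x⁻¹) * x := by group
        _ = (u : A) * x := by rw [this]
    obtain ⟨j, hj⟩ := hfpf x hxM _ u.2 hcm
    have hj' : u ^ (p ^ j) = 1 := Subtype.ext (by simpa using hj)
    have hd1 := orderOf_dvd_of_pow_eq_one hj'
    have hd2 := orderOf_dvd_of_pow_eq_one hn
    have hcop : (p ^ j).Coprime (orderOf y) := (hy.symm).pow_left j
    have := Nat.eq_one_of_dvd_coprimes hcop hd1 hd2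
    exact orderOf_eq_one_iff.1 this
  -- `p`-regular elements of `M` are trivial
  have hreg : ∀ y : ↥M, (orderOf y).Coprime p → y = 1 := by
    intro y hy
    have hNb := hnrm b hb1 hbp y hy
    have hN : ∀ j : ZMod p, nrm p ψ (a * b ^ j.val) y = 1 := by
      intro j
      apply hnrm _ _ _ y hy
      · intro h
        apply hba
        have hab' : a = (b ^ j.val)⁻¹ := eq_inv_of_mul_eq_one_left h
        have hle : Subgroup.zpowers a ≤ Subgroup.zpowers b := by
          rw [Subgroup.zpowers_le, hab']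
          exact (Subgroup.zpowers b).inv_mem ((Subgroup.zpowers b).pow_mem (Subgroup.mem_zpowers b) _)
        have hcard : Nat.card (Subgroup.zpowers b) ≤ Nat.card (Subgroup.zpowers a) := by
          rw [Nat.card_zpowers, Nat.card_zpowers, ha, hb]
        have := Subgroup.eq_of_le_of_card_ge hle hcard
        rw [this]
        exact Subgroup.mem_zpowers b
      · have hc : Commute a (b ^ j.val) := (show Commute a b from hcomm).pow_right _
        rw [hc.mul_pow, hap, ← pow_mul, mul_comm, pow_mul, hbp, one_pow, one_mul]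
    have hyp : y ^ p = 1 := norm_core p ψ a b hap hbp hcomm y hNb hN
    have hd := orderOf_dvd_of_pow_eq_one hyp
    have : orderOf y = 1 := Nat.eq_one_of_dvd_coprimes hy (dvd_refl _) hd
    exact orderOf_eq_one_iff.1 this
  -- conclusion
  intro g
  have hg0 : orderOf g ≠ 0 := (orderOf_pos g).ne'
  refine ⟨(orderOf g).factorization p, ?_⟩
  apply hreg
  rw [orderOf_pow' g (pow_ne_zero _ hp.ne_zero)]
  have hdvd : p ^ (orderOf g).factorization p ∣ orderOf g := Nat.ordProj_dvd _ _
  rw [Nat.gcd_eq_right hdvd]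
  exact (Nat.coprime_ordCompl hp hg0).symm

end Cfsg.Agent.Lib.Helper18.Camina
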