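-- helper18: block colourings compatible with an involution of a finite set.
import Mathlib

set_option autoImplicit false

namespace Cfsg.Agent.Lib.Helper18.Colouring

/-- `X` can be coloured with all colour classes of size `a`, such that `π` permutes the classes. -/
def Colourable (a : ℕ) (X : Type) (π : Equiv.Perm X) : Prop :=
  ∃ (J : Type) (_ : Fintype J) (col : X → J) (σ : Equiv.Perm J),
    (∀ j, Nat.card {i // col i = j} = a) ∧ ∀ i, col (π i) = σ (col i)

lemma Colourable.of_card {a : ℕ} {X : Type} (π : Equiv.Perm X) (h : Nat.card X = a) :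
    Colourable a X π := by
  refine ⟨Unit, inferInstance, fun _ => (), 1, fun j => ?_, fun i => rfl⟩
  rw [← h]
  exact Nat.card_congr (Equiv.subtypeUnivEquiv (fun _ => rfl))

lemma Colourable.of_swap {a : ℕ} {X : Type} (π : Equiv.Perm X) (q : X → Prop) [DecidablePred q]
    (hq : ∀ i, q (π i) ↔ ¬ q i) (h : Nat.card {i // q i} = a) : Colourable a X π := by
  refine ⟨Bool, inferInstance, fun i => decide (q i), Equiv.boolNot, ?_, ?_⟩
  · intro j
    cases j
    · rw [← h]
      refine Nat.card_congr (Equiv.subtypeEquiv π ?_)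
      intro i
      simp [hq]
    · rw [← h]
      refine Nat.card_congr (Equiv.subtypeEquivRight ?_)
      intro i
      simp
  · intro i
    by_cases hi : q i
    · simp [hi, hq]
    · simp [hi, hq]

/-- glue two colourings along a predicate. -/
def combCol {X J1 J2 : Type} (p : X → Prop) [DecidablePred p] (col1 : {i // p i} → J1)
    (col2 : {i // ¬ p i} → J2) (i : X) : J1 ⊕ J2 :=
  if h : p i then Sum.inl (col1 ⟨i, h⟩) else Sum.inr (col2 ⟨i, h⟩)

lemma combCol_pos {X J1 J2 : Type} (p : X → Prop) [DecidablePred p] (col1 : {i // p i} → J1)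
    (col2 : {i // ¬ p i} → J2) {i : X} (h : p i) : combCol p col1 col2 i = Sum.inl (col1 ⟨i, h⟩) :=
  dif_pos h

lemma combCol_neg {X J1 J2 : Type} (p : X → Prop) [DecidablePred p] (col1 : {i // p i} → J1)
    (col2 : {i // ¬ p i} → J2) {i : X} (h : ¬ p i) : combCol p col1 col2 i = Sum.inr (col2 ⟨i, h⟩) :=
  dif_neg h

lemma Colourable.combine {a : ℕ} {X : Type} (π : Equiv.Perm X) (p : X → Prop) [DecidablePred p]
    (hp : ∀ i, p (π i) ↔ p i)
    (h1 : Colourable a {i // p i} (π.subtypePerm hp))
    (h2 : Colourable a {i // ¬ p i} (π.subtypePerm (fun i => not_congr (hp i)))) :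
    Colourable a X π := by
  obtain ⟨J1, _, col1, σ1, hc1, hs1⟩ := h1
  obtain ⟨J2, _, col2, σ2, hc2, hs2⟩ := h2
  refine ⟨J1 ⊕ J2, inferInstance, combCol p col1 col2, Equiv.sumCongr σ1 σ2, ?_, ?_⟩
  · rintro (j | j)
    · rw [← hc1 j]
      symm
      refine Nat.card_congr (Equiv.ofBijective
        (fun i' : {i' : {i // p i} // col1 i' = j} =>
          (⟨i'.1.1, by rw [combCol_pos p col1 col2 i'.1.2, i'.2]⟩ :
            {i : X // combCol p col1 col2 i = Sum.inl j}))
        ⟨?_, ?_⟩)
      · rintro ⟨⟨i, hi⟩, h⟩ ⟨⟨i', hi'⟩, h'⟩ heq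
        simp only [Subtype.mk.injEq] at heq
        subst heq
        rfl
      · rintro ⟨i, hi⟩
        by_cases h : p i
        · rw [combCol_pos p col1 col2 h] at hi
          exact ⟨⟨⟨i, h⟩, Sum.inl_injective hi⟩, rfl⟩
        · rw [combCol_neg p col1 col2 h] at hi
          exact absurd hi (by simp)
    · rw [← hc2 j]
      symm
      refine Nat.card_congr (Equiv.ofBijective
        (fun i' : {i' : {i // ¬ p i} // col2 i' = j} =>
          (⟨i'.1.1, by rw [combCol_neg p col1 col2 i'.1.2, i'.2]⟩ :
            {i : X // combCol p col1 col2 i = Sum.inr j}))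
        ⟨?_, ?_⟩)
      · rintro ⟨⟨i, hi⟩, h⟩ ⟨⟨i', hi'⟩, h'⟩ heq
        simp only [Subtype.mk.injEq] at heq
        subst heq
        rfl
      · rintro ⟨i, hi⟩
        by_cases h : p i
        · rw [combCol_pos p col1 col2 h] at hi
          exact absurd hi (by simp)
        · rw [combCol_neg p col1 col2 h] at hi
          exact ⟨⟨⟨i, h⟩, Sum.inr_injective hi⟩, rfl⟩
  · intro i
    by_cases h : p i
    · have h' : p (π i) := (hp i).2 h
      rw [combCol_pos p col1 col2 h, combCol_pos p col1 col2 h']
      have := hs1 ⟨i, h⟩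
      simp only [Equiv.sumCongr_apply, Sum.map_inl]
      rw [← this]
      rfl
    · have h' : ¬ p (π i) := fun hh => h ((hp i).1 hh)
      rw [combCol_neg p col1 col2 h, combCol_neg p col1 col2 h']
      have := hs2 ⟨i, h⟩
      simp only [Equiv.sumCongr_apply, Sum.map_inr]
      rw [← this]
      rfl

lemma subtypePerm_invol {X : Type} (π : Equiv.Perm X) (hπ : ∀ i, π (π i) = i) (p : X → Prop)
    (hp : ∀ i, p (π i) ↔ p i) (i : {i // p i}) :
    (π.subtypePerm hp) ((π.subtypePerm hp) i) = i := by
  apply Subtype.ext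
  simp [hπ]

lemma card_subtype_not_mem {X : Type} [Fintype X] [DecidableEq X] (B : Finset X) :
    Nat.card {i // ¬ i ∈ B} = Fintype.card X - B.card := by
  rw [Nat.card_eq_fintype_card, Fintype.card_subtype_compl, Fintype.card_coe]

theorem colourable_of_dvd (a : ℕ) : ∀ (n : ℕ) (X : Type) [Finite X] (π : Equiv.Perm X),
    (∀ i, π (π i) = i) → Nat.card X = n → a ∣ n → Colourable a X π := by
  intro n
  induction n using Nat.strong_induction_on with
  | _ n ih =>
  intro X _ π hπ hcard hdvd
  classical
  have := Fintype.ofFinite X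
  rcases Nat.eq_zero_or_pos n with rfl | hn
  · have : IsEmpty X := by
      rcases Nat.card_eq_zero.1 hcard with h | h
      · exact h
      · exact absurd ‹Finite X› (not_finite_iff_infinite.2 h)
    exact ⟨Empty, inferInstance, fun i => isEmptyElim i, 1, fun j => j.elim, fun i => isEmptyElim i⟩
  have han : a ≤ n := Nat.le_of_dvd hn hdvd
  have ha0 : 0 < a := Nat.pos_of_dvd_of_pos hdvd hn
  have hcardF : Fintype.card X = n := by rw [← hcard, Nat.card_eq_fintype_card]
  let _ : LinearOrder X := LinearOrder.lift' (Fintype.equivFin X) (Fintype.equivFin X).injective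
  set Fix : Finset X := Finset.univ.filter (fun i => π i = i) with hFix
  set R : Finset X := Finset.univ.filter (fun i => i < π i) with hR
  set R' : Finset X := Finset.univ.filter (fun i => π i < i) with hR'
  have hR'_eq : R' = R.image π := by
    ext i
    simp only [hR', hR, Finset.mem_filter, Finset.mem_univ, true_and, Finset.mem_image]
    constructor
    · intro h; exact ⟨π i, by rw [hπ]; exact h, hπ i⟩
    · rintro ⟨j, hj, rfl⟩; rw [hπ]; exact hj
  have hcardR' : R'.card = R.card := by
    rw [hR'_eq, Finset.card_image_of_injective _ π.injective]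
  have hd1 : Disjoint Fix R := by
    rw [Finset.disjoint_left]; intro i h1 h2
    simp only [hFix, hR, Finset.mem_filter, Finset.mem_univ, true_and] at h1 h2
    rw [h1] at h2; exact lt_irrefl _ h2
  have hd2 : Disjoint (Fix ∪ R) R' := by
    rw [Finset.disjoint_left]; intro i h1 h2
    simp only [hFix, hR, hR', Finset.mem_union, Finset.mem_filter, Finset.mem_univ, true_and] at h1 h2
    rcases h1 with h1 | h1
    · rw [h1] at h2; exact lt_irrefl _ h2
    · exact lt_asymm h1 h2
  have hd3 : Disjoint R R' := by
    rw [Finset.disjoint_left]; intro i h1 h2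
    simp only [hR, hR', Finset.mem_filter, Finset.mem_univ, true_and] at h1 h2
    exact lt_asymm h1 h2
  have hcardX : Fix.card + R.card + R'.card = n := by
    rw [← hcardF, ← Finset.card_univ, ← Finset.card_union_of_disjoint hd1,
      ← Finset.card_union_of_disjoint hd2]
    congr 1
    ext i
    simp only [hFix, hR, hR', Finset.mem_union, Finset.mem_filter, Finset.mem_univ, true_and,
      iff_true]
    rcases lt_trichotomy (π i) i with h | h | h
    · exact Or.inr h
    · exact Or.inl (Or.inl h)
    · exact Or.inl (Or.inr h)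
  by_cases hcase : Fix.card = 0 ∧ a % 2 = 1
  · -- all points moved, odd block size: a pair of swapped blocks
    obtain ⟨hs0, haodd⟩ := hcase
    have h2k : 2 * R.card = n := by omega
    have hak : a ≤ R.card := by
      have h1 : a ∣ 2 * R.card := h2k ▸ hdvd
      have hcop : Nat.Coprime a 2 := by
        rw [Nat.coprime_two_right]
        exact Nat.odd_iff.2 haodd
      have h2 : a ∣ R.card := hcop.dvd_of_dvd_mul_left h1
      exact Nat.le_of_dvd (by omega) h2
    obtain ⟨B, hBR, hBcard⟩ := Finset.exists_subset_card_eq hak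
    have hBB' : ∀ i, i ∈ B → π i ∉ B := by
      intro i hi hi'
      have h1 := hBR hi
      have h2 := hBR hi'
      simp only [hR, Finset.mem_filter, Finset.mem_univ, true_and] at h1 h2
      rw [hπ] at h2
      exact lt_asymm h1 h2
    have hp : ∀ i, (π i ∈ B ∨ π (π i) ∈ B) ↔ (i ∈ B ∨ π i ∈ B) := by
      intro i; rw [hπ]; exact or_comm
    have hcardp : Fintype.card {i // i ∈ B ∨ π i ∈ B} = 2 * a := by
      rw [Fintype.card_subtype]
      have : Finset.univ.filter (fun i => i ∈ B ∨ π i ∈ B) = B ∪ B.image π := by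
        ext i
        simp only [Finset.mem_filter, Finset.mem_univ, true_and, Finset.mem_union, Finset.mem_image]
        constructor
        · rintro (h | h)
          · exact Or.inl h
          · exact Or.inr ⟨π i, h, hπ i⟩
        · rintro (h | ⟨j, hj, rfl⟩)
          · exact Or.inl h
          · right; rw [hπ]; exact hj
      rw [this, Finset.card_union_of_disjoint, Finset.card_image_of_injective _ π.injective, hBcard]
      · ring
      · rw [Finset.disjoint_left]
        intro i h1 h2
        rw [Finset.mem_image] at h2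
        obtain ⟨j, hj, rfl⟩ := h2
        exact hBB' j hj h1
    refine Colourable.combine π (fun i => i ∈ B ∨ π i ∈ B) hp ?_ ?_
    · refine Colourable.of_swap _ (fun i => i.1 ∈ B) ?_ ?_
      · rintro ⟨i, hi⟩
        simp only [Equiv.Perm.subtypePerm_apply]
        constructor
        · intro h1 h2; exact hBB' i h2 h1
        · intro h1; exact hi.resolve_left h1
      · rw [Nat.card_congr (Equiv.subtypeSubtypeEquivSubtype (p := fun i => i ∈ B ∨ π i ∈ B)
          (q := fun i => i ∈ B) (fun {i} h => Or.inl h)), Nat.card_eq_fintype_card,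
          Fintype.card_coe, hBcard]
    · have hcard' : Nat.card {i // ¬ (i ∈ B ∨ π i ∈ B)} = n - 2 * a := by
        rw [Nat.card_eq_fintype_card, Fintype.card_subtype_compl, hcardp, hcardF]
      have h2a : 2 * a ≤ n := by omega
      refine ih (n - 2 * a) (by omega) _ _ (subtypePerm_invol π hπ _ _) hcard' ?_
      exact (Nat.dvd_sub hdvd (Dvd.intro_left 2 rfl))
  · -- an invariant block
    have hf : ∃ f, f ≤ Fix.card ∧ f ≤ a ∧ (a - f) % 2 = 0 ∧ (a - f) / 2 ≤ R.card := by
      refine ⟨if a ≤ Fix.card then a else if (a - Fix.card) % 2 = 0 then Fix.card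
        else Fix.card - 1, ?_⟩
      split_ifs <;> omega
    obtain ⟨f, hf1, hf2, hf3, hf4⟩ := hf
    obtain ⟨F', hF'sub, hF'card⟩ := Finset.exists_subset_card_eq hf1
    obtain ⟨R₁, hR₁sub, hR₁card⟩ := Finset.exists_subset_card_eq hf4
    set B : Finset X := F' ∪ R₁ ∪ R₁.image π with hB
    have hR₁' : R₁.image π ⊆ R' := by
      rw [hR'_eq]; exact Finset.image_subset_image hR₁sub
    have hBcard : B.card = a := by
      rw [hB, Finset.card_union_of_disjoint, Finset.card_union_of_disjoint,
        Finset.card_image_of_injective _ π.injective, hF'card, hR₁card]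
      · omega
      · exact Finset.disjoint_of_subset_left hF'sub (Finset.disjoint_of_subset_right hR₁sub hd1)
      · refine Finset.disjoint_of_subset_left ?_ (Finset.disjoint_of_subset_right hR₁' hd2)
        exact Finset.union_subset_union hF'sub hR₁sub
    have hBinv : ∀ i, i ∈ B → π i ∈ B := by
      intro i hi
      simp only [hB, Finset.mem_union, Finset.mem_image] at hi ⊢
      rcases hi with (hi | hi) | ⟨j, hj, rfl⟩
      · have := hF'sub hi
        simp only [hFix, Finset.mem_filter, Finset.mem_univ, true_and] at this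
        rw [this]; exact Or.inl (Or.inl hi)
      · exact Or.inr ⟨i, hi, rfl⟩
      · rw [hπ]; exact Or.inl (Or.inr hj)
    have hp : ∀ i, π i ∈ B ↔ i ∈ B := by
      intro i
      constructor
      · intro h; have := hBinv _ h; rwa [hπ] at this
      · exact hBinv i
    refine Colourable.combine π (fun i => i ∈ B) hp ?_ ?_
    · apply Colourable.of_card
      rw [Nat.card_eq_fintype_card, Fintype.card_coe, hBcard]
    · have hcard' : Nat.card {i // ¬ i ∈ B} = n - a := by
        rw [card_subtype_not_mem, hcardF, hBcard]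
      refine ih (n - a) (by omega) _ _ (subtypePerm_invol π hπ _ _) hcard' ?_
      exact Nat.dvd_sub hdvd (dvd_refl a)

theorem exists_fin_colouring (a t : ℕ) (ha : 1 ≤ a) (X : Type) [Finite X] (π : Equiv.Perm X)
    (hπ : ∀ i, π (π i) = i) (hcard : Nat.card X = a * t) :
    ∃ (col : X → Fin t) (σ : Equiv.Perm (Fin t)),
      (∀ j, Nat.card {i // col i = j} = a) ∧ ∀ i, col (π i) = σ (col i) := by
  obtain ⟨J, _, col, σ, hc, hs⟩ := colourable_of_dvd a (a * t) X π hπ hcard (dvd_mul_right a t)
  have hJ : Fintype.card J = t := by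
    have h1 : Nat.card X = ∑ j : J, Nat.card {i // col i = j} := by
      rw [← Nat.card_sigma]
      exact Nat.card_congr (Equiv.sigmaFiberEquiv col).symm
    simp only [hc, Finset.sum_const, Finset.card_univ, smul_eq_mul] at h1
    rw [hcard, mul_comm] at h1
    exact (Nat.eq_of_mul_eq_mul_right (by omega) h1).symm
  let e : J ≃ Fin t := Fintype.equivFinOfCardEq hJ
  refine ⟨fun i => e (col i), e.symm.trans (σ.trans e), ?_, ?_⟩
  · intro j
    rw [← hc (e.symm j)]
    refine Nat.card_congr (Equiv.subtypeEquivRight ?_)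
    intro i
    exact (Equiv.eq_symm_apply e).symm
  · intro i
    simp [hs]

end Cfsg.Agent.Lib.Helper18.Colouring
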