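import Mathlib

/-!
# K-GAG-G04b (483905, S4839): a normal `p`-subgroup whose nonidentity elements are conjugate
has exponent `p`
-/

set_option autoImplicit false
set_option linter.unusedSectionVars false

namespace Cfsg.Agent.Lib.Helper18.Gag

variable {G : Type*} [Group G] [Finite G]

theorem pow_p_of_conj {p : ℕ} [Fact p.Prime] (N : Subgroup G) [N.Normal] (hNp : IsPGroup p N)
    (hconj : ∀ x ∈ N, ∀ y ∈ N, x ≠ 1 → y ≠ 1 → IsConj x y) :
    ∀ a ∈ N, a ^ p = 1 := by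
  intro a ha
  by_cases ha1 : a = 1
  · rw [ha1, one_pow]
  obtain ⟨k, hk⟩ := hNp ⟨a, ha⟩
  have hk' : a ^ p ^ k = 1 := by
    have := congrArg Subtype.val hk
    simpa using this
  have hpp : p.Prime := Fact.out
  obtain ⟨j, _, hoj⟩ := (Nat.dvd_prime_pow hpp).1 (orderOf_dvd_of_pow_eq_one hk')
  have hj1 : j ≠ 0 := by
    rintro rfl
    rw [pow_zero, orderOf_eq_one_iff] at hoj
    exact ha1 hoj
  obtain ⟨i, rfl⟩ := Nat.exists_eq_succ_of_ne_zero hj1
  have hz : orderOf (a ^ p ^ i) = p := by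
    rw [orderOf_pow_of_dvd (pow_ne_zero i hpp.ne_zero) (by rw [hoj]; exact pow_dvd_pow p (Nat.le_succ i)),
      hoj, Nat.succ_eq_add_one, pow_succ, Nat.mul_div_cancel_left _ (pow_pos hpp.pos i)]
  have hz1 : a ^ p ^ i ≠ 1 := by
    intro h
    rw [h, orderOf_one] at hz
    exact hpp.one_lt.ne hz
  have hzN : a ^ p ^ i ∈ N := N.pow_mem ha _
  obtain ⟨c, hc⟩ := isConj_iff.1 (hconj _ hzN a ha hz1 ha1)
  have hzp : (a ^ p ^ i) ^ p = 1 := by
    have := pow_orderOf_eq_one (a ^ p ^ i)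
    rwa [hz] at this
  rw [← hc, conj_pow, hzp, mul_one, mul_inv_cancel]

end Cfsg.Agent.Lib.Helper18.Gag
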