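-- helper18: an operator with scalar square permutes the lines of a suitable basis.
import Mathlib
import Cfsg.Agent.Lib.Helper18.Colouring

set_option autoImplicit false

namespace Cfsg.Agent.Lib.Helper18.InvolBasis

open Module

universe u v
variable {F : Type v} [Field F]

theorem exists_basis_perm (z : F) (hz : z ≠ 0) : ∀ (n : ℕ) (V : Type u) [AddCommGroup V]
    [Module F V] [FiniteDimensional F V] (x : V →ₗ[F] V), (∀ v, x (x v) = z • v) →
    Module.finrank F V = n →
    ∃ (ι : Type) (_ : Fintype ι) (b : Basis ι F V) (π : Equiv.Perm ι),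
      (∀ i, π (π i) = i) ∧ ∀ i, ∃ c : F, x (b i) = c • b (π i) := by
  intro n
  induction n using Nat.strong_induction_on with
  | _ n ih =>
  intro V _ _ _ x hx hn
  by_cases hA : ∃ u, ∀ c : F, x u ≠ c • u
  · obtain ⟨u, hu⟩ := hA
    have hu0 : u ≠ 0 := by
      rintro rfl
      exact hu 0 (by simp)
    have hli : LinearIndependent F ![u, x u] := by
      rw [LinearIndependent.pair_iff]
      intro s t hst
      have ht : t = 0 := by
        by_contra ht
        apply hu (-(t⁻¹ * s))
        have h1 : t • x u = -(s • u) := by
          rw [eq_neg_iff_add_eq_zero, add_comm]; exact hst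
        calc x u = t⁻¹ • (t • x u) := by rw [smul_smul, inv_mul_cancel₀ ht, one_smul]
          _ = (-(t⁻¹ * s)) • u := by rw [h1, smul_neg, smul_smul, neg_smul]
      subst ht
      simp only [zero_smul, add_zero, smul_eq_zero] at hst
      exact ⟨hst.resolve_right hu0, rfl⟩
    set U : Submodule F V := Submodule.span F (Set.range ![u, x u]) with hU
    let bU : Basis (Fin 2) F U := Basis.span hli
    have huU : u ∈ U := Submodule.subset_span ⟨0, rfl⟩
    have hxuU : x u ∈ U := Submodule.subset_span ⟨1, rfl⟩
    have hbU0 : bU 0 = ⟨u, huU⟩ := by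
      apply Subtype.ext; rw [Basis.span_apply]; rfl
    have hbU1 : bU 1 = ⟨x u, hxuU⟩ := by
      apply Subtype.ext; rw [Basis.span_apply]; rfl
    obtain ⟨φ, hφ⟩ := LinearMap.exists_extend (bU.coord 0)
    have hφu : φ u = 1 := by
      have := congrArg (fun f => f ⟨u, huU⟩) hφ
      simp only [LinearMap.coe_comp, Submodule.coe_subtype, Function.comp_apply] at this
      rw [this, ← hbU0]
      simp
    have hφxu : φ (x u) = 0 := by
      have := congrArg (fun f => f ⟨x u, hxuU⟩) hφ
      simp only [LinearMap.coe_comp, Submodule.coe_subtype, Function.comp_apply] at this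
      rw [this, ← hbU1]
      simp
    set W : Submodule F V := LinearMap.ker φ ⊓ LinearMap.ker (φ ∘ₗ x) with hW
    have hmemW : ∀ w, w ∈ W ↔ φ w = 0 ∧ φ (x w) = 0 := by
      intro w
      simp [hW, Submodule.mem_inf, LinearMap.mem_ker]
    have hxW : ∀ w ∈ W, x w ∈ W := by
      intro w hw
      rw [hmemW] at hw ⊢
      refine ⟨hw.2, ?_⟩
      rw [hx, map_smul, hw.1, smul_zero]
    have hUpair : ∀ v, v ∈ U ↔ ∃ α β : F, α • u + β • x u = v := by
      intro v
      rw [hU, Matrix.range_cons, Matrix.range_cons, Matrix.range_empty, Set.union_empty,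
        ← Set.insert_eq, Submodule.mem_span_pair]
    have hcompl : IsCompl U W := by
      constructor
      · rw [Submodule.disjoint_def]
        intro v hvU hvW
        obtain ⟨α, β, rfl⟩ := (hUpair v).1 hvU
        obtain ⟨h1, h2⟩ := (hmemW _).1 hvW
        simp only [map_add, map_smul, hφu, hφxu, smul_eq_mul, mul_one, mul_zero, add_zero] at h1
        simp only [map_add, map_smul, hx, hφu, hφxu, smul_eq_mul, mul_one, mul_zero,
          zero_add] at h2
        have hβ : β = 0 := by
          rcases mul_eq_zero.1 h2 with h | h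
          · exact h
          · exact absurd h hz
        rw [h1, hβ]; simp
      · rw [codisjoint_iff, eq_top_iff]
        intro v _
        rw [Submodule.mem_sup]
        refine ⟨φ v • u + (z⁻¹ * φ (x v)) • x u, (hUpair _).2 ⟨_, _, rfl⟩,
          v - (φ v • u + (z⁻¹ * φ (x v)) • x u), ?_, by abel⟩
        rw [hmemW]
        constructor
        · simp only [map_sub, map_add, map_smul, hφu, hφxu, smul_eq_mul, mul_one, mul_zero,
            add_zero, sub_self]
        · simp only [map_sub, map_add, map_smul, hx, hφu, hφxu, smul_eq_mul, mul_one, mul_zero,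
            zero_add]
          field_simp
          ring
    have hfU : finrank F U = 2 := by
      rw [hU, finrank_span_eq_card hli, Fintype.card_fin]
    have hfW : finrank F W + 2 = n := by
      rw [← hn, ← Submodule.finrank_add_eq_of_isCompl hcompl, hfU, add_comm]
    let xW : W →ₗ[F] W := x.restrict hxW
    have hxW2 : ∀ w : W, xW (xW w) = z • w := by
      intro w
      apply Subtype.ext
      simp only [xW, LinearMap.coe_restrict_apply, Submodule.coe_smul]
      exact hx _
    obtain ⟨ιW, _, bW, πW, hπW, hbW⟩ := ih (finrank F W) (by omega) W xW hxW2 rfl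
    let b : Basis (Fin 2 ⊕ ιW) F V := (bU.prod bW).map (Submodule.prodEquivOfIsCompl U W hcompl)
    have hb_inl : ∀ i, b (Sum.inl i) = (bU i : V) := by
      intro i
      simp only [b, Basis.map_apply, Submodule.coe_prodEquivOfIsCompl', Basis.prod_apply,
        Sum.elim_inl, Function.comp_apply, LinearMap.coe_inl, Submodule.coe_zero, add_zero]
    have hb_inr : ∀ i, b (Sum.inr i) = (bW i : V) := by
      intro i
      simp only [b, Basis.map_apply, Submodule.coe_prodEquivOfIsCompl', Basis.prod_apply,
        Sum.elim_inr, Function.comp_apply, LinearMap.coe_inr, Submodule.coe_zero, zero_add]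
    refine ⟨Fin 2 ⊕ ιW, inferInstance, b, Equiv.sumCongr (Equiv.swap 0 1) πW, ?_, ?_⟩
    · rintro (i | i)
      · simp
      · simp [hπW]
    · rintro (i | i)
      · fin_cases i
        · refine ⟨1, ?_⟩
          simp only [Fin.zero_eta, Equiv.sumCongr_apply, Sum.map_inl, Equiv.swap_apply_left,
            hb_inl, hbU0, hbU1, one_smul]
        · refine ⟨z, ?_⟩
          simp only [Fin.mk_one, Equiv.sumCongr_apply, Sum.map_inl, Equiv.swap_apply_right,
            hb_inl, hbU0, hbU1, hx]
      · obtain ⟨c, hc⟩ := hbW i
        refine ⟨c, ?_⟩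
        simp only [Equiv.sumCongr_apply, Sum.map_inr, hb_inr]
        have := congrArg (Subtype.val) hc
        simpa [xW] using this
  · push Not at hA
    choose c hc using hA
    refine ⟨Fin (finrank F V), inferInstance, Module.finBasis F V, 1, fun i => rfl, fun i => ?_⟩
    exact ⟨c _, hc _⟩

/-- An operator with non-zero scalar square on a space of dimension `a * t` permutes the members
of some decomposition into `t` subspaces of dimension `a`. -/
theorem exists_decomposition {V : Type u} [AddCommGroup V] [Module F V] [FiniteDimensional F V]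
    (x : V →ₗ[F] V) (z : F) (hz : z ≠ 0) (hx : ∀ v, x (x v) = z • v) (a t : ℕ) (ha : 1 ≤ a)
    (hdim : finrank F V = a * t) :
    ∃ D : Fin t → Submodule F V, (∀ j, finrank F (D j) = a) ∧ iSupIndep D ∧ iSup D = ⊤ ∧
      ∃ σ : Equiv.Perm (Fin t), ∀ j, (D j).map x = D (σ j) := by
  classical
  obtain ⟨ι, _, b, π, hπ, hb⟩ := exists_basis_perm z hz _ V x hx rfl
  have hcardι : Nat.card ι = a * t := by
    rw [Nat.card_eq_fintype_card, ← Module.finrank_eq_card_basis b, hdim]
  obtain ⟨col, σ, hcol, hσ⟩ := Colouring.exists_fin_colouring a t ha ι π hπ hcardι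
  let D : Fin t → Submodule F V := fun j => Submodule.span F (b '' {i | col i = j})
  have hfin : ∀ j, finrank F (D j) = a := by
    intro j
    have hli : LinearIndependent F (fun i : {i // col i = j} => b i) :=
      b.linearIndependent.comp Subtype.val Subtype.val_injective
    have h1 : D j = Submodule.span F (Set.range (fun i : {i // col i = j} => b i)) := by
      show Submodule.span F (b '' {i | col i = j}) = _
      rw [Set.image_eq_range]
      rfl
    rw [h1, finrank_span_eq_card hli, ← Nat.card_eq_fintype_card, hcol]
  have hinj : Function.Injective x := by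
    intro v w hvw
    have := congrArg x hvw
    rw [hx, hx] at this
    exact smul_right_injective V hz this
  refine ⟨D, hfin, ?_, ?_, σ, ?_⟩
  · rw [iSupIndep_def]
    intro j
    have hle : (⨆ l, ⨆ (_ : l ≠ j), D l) ≤ Submodule.span F (b '' {i | col i = j}ᶜ) := by
      refine iSup₂_le ?_
      intro l hl
      apply Submodule.span_mono
      apply Set.image_mono
      intro i hi
      simp only [Set.mem_ofPred_eq, Set.mem_compl_iff] at hi ⊢
      rw [hi]; exact hl
    exact (b.linearIndependent.disjoint_span_image disjoint_compl_right).mono_right hle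
  · rw [eq_top_iff, ← b.span_eq, Submodule.span_le]
    rintro _ ⟨i, rfl⟩
    have : b i ∈ D (col i) := Submodule.subset_span ⟨i, rfl, rfl⟩
    exact (le_iSup D (col i)) this
  · intro j
    have hle : (D j).map x ≤ D (σ j) := by
      show (Submodule.span F (b '' {i | col i = j})).map x ≤ _
      rw [Submodule.map_span, Submodule.span_le]
      rintro _ ⟨_, ⟨i, hi, rfl⟩, rfl⟩
      obtain ⟨c, hc⟩ := hb i
      rw [hc]
      apply Submodule.smul_mem
      apply Submodule.subset_span
      refine ⟨π i, ?_, rfl⟩
      simp only [Set.mem_ofPred_eq] at hi ⊢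
      rw [hσ, hi]
    apply Submodule.eq_of_le_of_finrank_eq hle
    rw [hfin, ← (Submodule.equivMapOfInjective x hinj (D j)).finrank_eq, hfin]

end Cfsg.Agent.Lib.Helper18.InvolBasis
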