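-- helper18: an isometry with square ±1 of an alternating space fixes or swaps a pair of
-- complementary totally isotropic subspaces.
import Mathlib

set_option autoImplicit false

namespace Cfsg.Agent.Lib.Helper18.InvolLagrange

variable {F : Type*} [Field F] {V : Type*} [AddCommGroup V] [Module F V]

/-- the data: an alternating form, an isometry with square `z = ±1`, characteristic not two. -/
structure Setup (B : LinearMap.BilinForm F V) (x : V →ₗ[F] V) (z : F) : Prop where
  alt : ∀ v, B v v = 0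
  isom : ∀ u v, B (x u) (x v) = B u v
  sq : ∀ v, x (x v) = z • v
  two : (2 : F) ≠ 0
  hz : z = 1 ∨ z = -1

variable {B : LinearMap.BilinForm F V} {x : V →ₗ[F] V} {z : F}

lemma Setup.swap (h : Setup B x z) (u v : V) : B u v = - B v u := by
  have := h.alt (u + v)
  simp only [map_add, LinearMap.add_apply, h.alt, zero_add, add_zero] at this
  exact eq_neg_of_add_eq_zero_right this

lemma Setup.exists_pair (h : Setup B x z) (S : Submodule F V) (hxS : ∀ v ∈ S, x v ∈ S)
    (hnd : ∀ v ∈ S, (∀ w ∈ S, B v w = 0) → v = 0) (hS : S ≠ ⊥) :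
    ∃ e ∈ S, ∃ e' ∈ S, B e e' = 1 ∧
      ((z = 1 ∧ ∃ ε : F, x e = ε • e ∧ x e' = ε • e') ∨
       (z = -1 ∧ ∃ c c' : F, x e = c • e' ∧ x e' = c' • e)) := by
  obtain ⟨v₀, hv₀S, hv₀⟩ := Submodule.exists_mem_ne_zero_of_ne_bot hS
  rcases h.hz with hz | hz
  · -- z = 1
    have hxx : ∀ v, x (x v) = v := by intro v; rw [h.sq, hz, one_smul]
    obtain ⟨e, heS, he0, ε, hε2, hxe⟩ : ∃ e ∈ S, e ≠ 0 ∧ ∃ ε : F, ε * ε = 1 ∧ x e = ε • e := by
      by_cases h1 : v₀ + x v₀ = 0
      · refine ⟨v₀ - x v₀, S.sub_mem hv₀S (hxS _ hv₀S), ?_, -1, by ring, ?_⟩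
        · intro h2
          have : (2 : F) • v₀ = 0 := by
            rw [two_smul]
            calc v₀ + v₀ = (v₀ + x v₀) + (v₀ - x v₀) := by abel
              _ = 0 := by rw [h1, h2, add_zero]
          exact hv₀ ((smul_eq_zero.1 this).resolve_left h.two)
        · rw [map_sub, hxx, neg_one_smul, neg_sub]
      · refine ⟨v₀ + x v₀, S.add_mem hv₀S (hxS _ hv₀S), h1, 1, by ring, ?_⟩
        rw [map_add, hxx, one_smul, add_comm]
    obtain ⟨w, hwS, hw⟩ : ∃ w ∈ S, B e w ≠ 0 := by
      by_contra hcon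
      push Not at hcon
      exact he0 (hnd e heS hcon)
    set e'' := w + ε • x w with he''
    have he''S : e'' ∈ S := S.add_mem hwS (S.smul_mem _ (hxS _ hwS))
    have hxe'' : x e'' = ε • e'' := by
      rw [he'', map_add, map_smul, hxx, smul_add, smul_smul, hε2, one_smul, add_comm]
    have hBe'' : B e e'' = 2 * B e w := by
      have h3 : B e (x w) = ε * B e w := by
        rw [← h.isom e (x w), hxx, hxe, map_smul, LinearMap.smul_apply, smul_eq_mul]
      rw [he'', map_add, map_smul, h3, smul_eq_mul, ← mul_assoc, hε2]; ring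
    have hne : B e e'' ≠ 0 := by rw [hBe'']; exact mul_ne_zero h.two hw
    refine ⟨e, heS, (B e e'')⁻¹ • e'', S.smul_mem _ he''S, ?_, Or.inl ⟨hz, ε, hxe, ?_⟩⟩
    · rw [map_smul, smul_eq_mul, inv_mul_cancel₀ hne]
    · rw [map_smul, hxe'', smul_comm]
  · -- z = -1
    have hxx : ∀ v, x (x v) = - v := by intro v; rw [h.sq, hz, neg_one_smul]
    obtain ⟨e, heS, hc⟩ : ∃ e ∈ S, B e (x e) ≠ 0 := by
      by_contra hcon
      push Not at hcon
      have h1 : ∀ u ∈ S, ∀ v ∈ S, B u (x v) = 0 := by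
        intro u hu v hv
        have h2 := hcon (u + v) (S.add_mem hu hv)
        simp only [map_add, LinearMap.add_apply, hcon u hu, hcon v hv, zero_add, add_zero] at h2
        have h3 : B v (x u) = B u (x v) := by
          rw [← h.isom v (x u), hxx, map_neg, h.swap, neg_neg]
        rw [h3] at h2
        have h4 : (2 : F) * B u (x v) = 0 := by rw [two_mul]; exact h2
        exact (mul_eq_zero.1 h4).resolve_left h.two
      apply hv₀
      apply hnd v₀ hv₀S
      intro w hw
      have := h1 v₀ hv₀S (-(x w)) (S.neg_mem (hxS _ hw))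
      rwa [map_neg, hxx, neg_neg] at this
    refine ⟨e, heS, (B e (x e))⁻¹ • x e, S.smul_mem _ (hxS _ heS), ?_,
      Or.inr ⟨hz, B e (x e), -(B e (x e))⁻¹, ?_, ?_⟩⟩
    · rw [map_smul, smul_eq_mul, inv_mul_cancel₀ hc]
    · rw [smul_smul, mul_inv_cancel₀ hc, one_smul]
    · rw [map_smul, hxx, smul_neg, neg_smul]

theorem exists_lagrangian_pair [FiniteDimensional F V] (h : Setup B x z) :
    ∀ (n : ℕ) (S : Submodule F V), Module.finrank F S = n → (∀ v ∈ S, x v ∈ S) →
    (∀ v ∈ S, (∀ w ∈ S, B v w = 0) → v = 0) →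
    ∃ U W : Submodule F V, U ⊓ W = ⊥ ∧ U ⊔ W = S ∧ (∀ u ∈ U, ∀ v ∈ U, B u v = 0) ∧
      (∀ u ∈ W, ∀ v ∈ W, B u v = 0) ∧
      ((z = 1 ∧ (∀ u ∈ U, x u ∈ U) ∧ (∀ w ∈ W, x w ∈ W)) ∨
       (z = -1 ∧ (∀ u ∈ U, x u ∈ W) ∧ (∀ w ∈ W, x w ∈ U))) := by
  intro n
  induction n using Nat.strong_induction_on with
  | _ n ih =>
  intro S hn hxS hnd
  by_cases hS : S = ⊥
  · refine ⟨⊥, ⊥, by simp, by simp [hS], by simp, by simp, ?_⟩
    rcases h.hz with hz | hz
    · exact Or.inl ⟨hz, by simp, by simp⟩
    · exact Or.inr ⟨hz, by simp, by simp⟩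
  obtain ⟨e, heS, e', he'S, hee', hx⟩ := h.exists_pair S hxS hnd hS
  have he'e : B e' e = -1 := by rw [h.swap, hee']
  -- the perpendicular of the plane inside S
  set S' : Submodule F V := S ⊓ (LinearMap.ker (B e) ⊓ LinearMap.ker (B e')) with hS'
  have hmemS' : ∀ v, v ∈ S' ↔ v ∈ S ∧ B e v = 0 ∧ B e' v = 0 := by
    intro v
    simp [hS', Submodule.mem_inf, LinearMap.mem_ker]
  have hS'S : S' ≤ S := inf_le_left
  -- projection
  have hproj : ∀ w ∈ S, w + (B e' w) • e - (B e w) • e' ∈ S' := by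
    intro w hw
    rw [hmemS']
    refine ⟨S.sub_mem (S.add_mem hw (S.smul_mem _ heS)) (S.smul_mem _ he'S), ?_, ?_⟩
    · simp only [map_sub, map_add, map_smul, h.alt, hee', smul_eq_mul, mul_zero, add_zero,
        mul_one, sub_self]
    · simp only [map_sub, map_add, map_smul, h.alt, he'e, smul_eq_mul, mul_zero, sub_zero,
        mul_neg, mul_one, add_neg_cancel]
  -- x maps the plane into itself
  have hxe_perp : ∀ v ∈ S', B (x e) v = 0 ∧ B (x e') v = 0 := by
    intro v hv
    obtain ⟨_, h1, h2⟩ := (hmemS' v).1 hv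
    rcases hx with ⟨_, ε, hε1, hε2⟩ | ⟨_, c, c', hc1, hc2⟩
    · rw [hε1, hε2]
      simp [h1, h2]
    · rw [hc1, hc2]
      simp [h1, h2]
  have hzz : z * z = 1 := by
    rcases h.hz with hz | hz <;> rw [hz] <;> ring
  have hxS' : ∀ v ∈ S', x v ∈ S' := by
    intro v hv
    obtain ⟨hvS, _, _⟩ := (hmemS' v).1 hv
    obtain ⟨h3, h4⟩ := hxe_perp v hv
    rw [hmemS']
    refine ⟨hxS v hvS, ?_, ?_⟩
    · have : B (x (x e)) (x v) = 0 := by rw [h.isom]; exact h3
      rw [h.sq, map_smul, LinearMap.smul_apply, smul_eq_mul] at this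
      have hz0 : z ≠ 0 := by rintro rfl; simp at hzz
      exact (mul_eq_zero.1 this).resolve_left hz0
    · have : B (x (x e')) (x v) = 0 := by rw [h.isom]; exact h4
      rw [h.sq, map_smul, LinearMap.smul_apply, smul_eq_mul] at this
      have hz0 : z ≠ 0 := by rintro rfl; simp at hzz
      exact (mul_eq_zero.1 this).resolve_left hz0
  have hndS' : ∀ v ∈ S', (∀ w ∈ S', B v w = 0) → v = 0 := by
    intro v hv hvw
    obtain ⟨hvS, h1, h2⟩ := (hmemS' v).1 hv
    apply hnd v hvS
    intro w hw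
    have h3 := hvw _ (hproj w hw)
    have h5 : B v e = 0 := by rw [h.swap, h1, neg_zero]
    have h6 : B v e' = 0 := by rw [h.swap, h2, neg_zero]
    simpa [map_sub, map_add, map_smul, h5, h6] using h3
  have hlt : Module.finrank F S' < n := by
    rw [← hn]
    apply Submodule.finrank_lt_finrank_of_lt
    refine lt_of_le_of_ne hS'S ?_
    intro heq
    have : e ∈ S' := by rw [heq]; exact heS
    have := ((hmemS' e).1 this).2.2
    rw [he'e] at this
    simp at this
  obtain ⟨U', W', hUW', hsup', hU'iso, hW'iso, hx'⟩ := ih _ hlt S' rfl hxS' hndS'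
  have hU'S' : U' ≤ S' := hsup' ▸ le_sup_left
  have hW'S' : W' ≤ S' := hsup' ▸ le_sup_right
  refine ⟨U' ⊔ Submodule.span F {e}, W' ⊔ Submodule.span F {e'}, ?_, ?_, ?_, ?_, ?_⟩
  · -- disjoint
    rw [eq_bot_iff]
    rintro v ⟨hvU, hvW⟩
    obtain ⟨u', hu', y, hy, rfl⟩ := Submodule.mem_sup.1 hvU
    obtain ⟨α, rfl⟩ := Submodule.mem_span_singleton.1 hy
    obtain ⟨w', hw', y', hy', heq⟩ := Submodule.mem_sup.1 hvW
    obtain ⟨β, rfl⟩ := Submodule.mem_span_singleton.1 hy'
    obtain ⟨_, hu1, hu2⟩ := (hmemS' u').1 (hU'S' hu')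
    obtain ⟨_, hw1, hw2⟩ := (hmemS' w').1 (hW'S' hw')
    have hα : α = 0 := by
      have h1 := congrArg (B e') heq
      simp only [map_add, map_smul, hw2, hu2, h.alt, he'e, smul_eq_mul, mul_zero, add_zero,
        zero_add, mul_neg, mul_one] at h1
      exact (neg_eq_zero.1 h1.symm)
    have hβ : β = 0 := by
      have h1 := congrArg (B e) heq
      simp only [map_add, map_smul, hw1, hu1, h.alt, hee', smul_eq_mul, mul_zero, add_zero,
        zero_add, mul_one] at h1
      exact h1
    rw [hα, zero_smul, add_zero]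
    rw [hα, hβ, zero_smul, zero_smul, add_zero, add_zero] at heq
    have : u' ∈ U' ⊓ W' := ⟨hu', heq ▸ hw'⟩
    rw [hUW'] at this
    exact this
  · -- sup
    apply le_antisymm
    · refine sup_le (sup_le (hU'S'.trans hS'S) ?_) (sup_le (hW'S'.trans hS'S) ?_)
      · rw [Submodule.span_singleton_le_iff_mem]; exact heS
      · rw [Submodule.span_singleton_le_iff_mem]; exact he'S
    · intro w hw
      have h1 := hproj w hw
      rw [← hsup'] at h1
      obtain ⟨u', hu', w', hw', heq⟩ := Submodule.mem_sup.1 h1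
      have key : ∀ (α β : F) (w u' w' : V), u' + w' = w + α • e - β • e' →
          w = (u' + (-α) • e) + (w' + β • e') := by
        intro α β w u' w' hh
        have h2 : w = (u' + w') - α • e + β • e' := by rw [hh]; abel
        rw [h2, neg_smul]; abel
      have hw_eq : w = (u' + (-(B e' w)) • e) + (w' + (B e w) • e') := key _ _ _ _ _ heq
      rw [hw_eq]
      refine Submodule.add_mem _ ?_ ?_
      · exact Submodule.mem_sup_left (Submodule.add_mem _ (Submodule.mem_sup_left hu')
          (Submodule.mem_sup_right (Submodule.smul_mem _ _ (Submodule.mem_span_singleton_self e))))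
      · exact Submodule.mem_sup_right (Submodule.add_mem _ (Submodule.mem_sup_left hw')
          (Submodule.mem_sup_right (Submodule.smul_mem _ _ (Submodule.mem_span_singleton_self e'))))
  · -- U isotropic
    intro u hu v hv
    obtain ⟨u', hu', y, hy, rfl⟩ := Submodule.mem_sup.1 hu
    obtain ⟨α, rfl⟩ := Submodule.mem_span_singleton.1 hy
    obtain ⟨v', hv', y', hy', rfl⟩ := Submodule.mem_sup.1 hv
    obtain ⟨β, rfl⟩ := Submodule.mem_span_singleton.1 hy'
    obtain ⟨_, hu1, _⟩ := (hmemS' u').1 (hU'S' hu')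
    obtain ⟨_, hv1, _⟩ := (hmemS' v').1 (hU'S' hv')
    have h5 : B u' e = 0 := by rw [h.swap, hu1, neg_zero]
    simp [map_add, map_smul, hU'iso u' hu' v' hv', h5, hv1, h.alt]
  · -- W isotropic
    intro u hu v hv
    obtain ⟨u', hu', y, hy, rfl⟩ := Submodule.mem_sup.1 hu
    obtain ⟨α, rfl⟩ := Submodule.mem_span_singleton.1 hy
    obtain ⟨v', hv', y', hy', rfl⟩ := Submodule.mem_sup.1 hv
    obtain ⟨β, rfl⟩ := Submodule.mem_span_singleton.1 hy'
    obtain ⟨_, _, hu2⟩ := (hmemS' u').1 (hW'S' hu')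
    obtain ⟨_, _, hv2⟩ := (hmemS' v').1 (hW'S' hv')
    have h5 : B u' e' = 0 := by rw [h.swap, hu2, neg_zero]
    simp [map_add, map_smul, hW'iso u' hu' v' hv', h5, hv2, h.alt]
  · rcases hx with ⟨hz, ε, hε1, hε2⟩ | ⟨hz, c, c', hc1, hc2⟩
    · rcases hx' with ⟨_, hxU', hxW'⟩ | ⟨hz', _, _⟩
      · refine Or.inl ⟨hz, ?_, ?_⟩
        · intro u hu
          obtain ⟨u', hu', y, hy, rfl⟩ := Submodule.mem_sup.1 hu
          obtain ⟨α, rfl⟩ := Submodule.mem_span_singleton.1 hy
          rw [map_add, map_smul, hε1]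
          exact Submodule.add_mem _ (Submodule.mem_sup_left (hxU' u' hu'))
            (Submodule.mem_sup_right (Submodule.smul_mem _ _ (Submodule.smul_mem _ _
              (Submodule.mem_span_singleton_self e))))
        · intro u hu
          obtain ⟨u', hu', y, hy, rfl⟩ := Submodule.mem_sup.1 hu
          obtain ⟨α, rfl⟩ := Submodule.mem_span_singleton.1 hy
          rw [map_add, map_smul, hε2]
          exact Submodule.add_mem _ (Submodule.mem_sup_left (hxW' u' hu'))
            (Submodule.mem_sup_right (Submodule.smul_mem _ _ (Submodule.smul_mem _ _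
              (Submodule.mem_span_singleton_self e'))))
      · exfalso
        rw [hz] at hz'
        have : (2 : F) = 0 := by
          have h1 : (1 : F) + 1 = 0 := by nth_rewrite 1 [hz']; ring
          rw [← h1]; ring
        exact h.two this
    · rcases hx' with ⟨hz', _, _⟩ | ⟨_, hxU', hxW'⟩
      · exfalso
        rw [hz] at hz'
        have : (2 : F) = 0 := by
          have h1 : (1 : F) + 1 = 0 := by nth_rewrite 1 [← hz']; ring
          rw [← h1]; ring
        exact h.two this
      · refine Or.inr ⟨hz, ?_, ?_⟩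
        · intro u hu
          obtain ⟨u', hu', y, hy, rfl⟩ := Submodule.mem_sup.1 hu
          obtain ⟨α, rfl⟩ := Submodule.mem_span_singleton.1 hy
          rw [map_add, map_smul, hc1]
          exact Submodule.add_mem _ (Submodule.mem_sup_left (hxU' u' hu'))
            (Submodule.mem_sup_right (Submodule.smul_mem _ _ (Submodule.smul_mem _ _
              (Submodule.mem_span_singleton_self e'))))
        · intro u hu
          obtain ⟨u', hu', y, hy, rfl⟩ := Submodule.mem_sup.1 hu
          obtain ⟨α, rfl⟩ := Submodule.mem_span_singleton.1 hy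
          rw [map_add, map_smul, hc2]
          exact Submodule.add_mem _ (Submodule.mem_sup_left (hxW' u' hu'))
            (Submodule.mem_sup_right (Submodule.smul_mem _ _ (Submodule.smul_mem _ _
              (Submodule.mem_span_singleton_self e))))

end Cfsg.Agent.Lib.Helper18.InvolLagrange
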