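-- helper18: an isometry with scalar square of a non-degenerate alternating space permutes the
-- members of an orthogonal decomposition into hyperbolic planes (all characteristics).
import Mathlib
import Cfsg.Agent.Lib.Helper18.Colouring

set_option autoImplicit false

namespace Cfsg.Agent.Lib.Helper18.InvolPlanes

open Module

variable {F : Type*} [Field F] {V : Type*} [AddCommGroup V] [Module F V]

/-- the data: an alternating form and an isometry with non-zero scalar square. -/
structure Hyp (B : LinearMap.BilinForm F V) (x : V →ₗ[F] V) (z : F) : Prop where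
  alt : ∀ v, B v v = 0
  isom : ∀ u v, B (x u) (x v) = B u v
  sq : ∀ v, x (x v) = z • v
  hz : z ≠ 0

variable {B : LinearMap.BilinForm F V} {x : V →ₗ[F] V} {z : F}

lemma Hyp.swap (h : Hyp B x z) (u v : V) : B u v = - B v u := by
  have := h.alt (u + v)
  simp only [map_add, LinearMap.add_apply, h.alt, zero_add, add_zero] at this
  exact eq_neg_of_add_eq_zero_right this

lemma Hyp.adj (h : Hyp B x z) (q u : V) : B q (x u) = z⁻¹ * B (x q) u := by
  have h1 : B (x (x q)) (x u) = B (x q) u := h.isom _ _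
  rw [h.sq, map_smul, LinearMap.smul_apply, smul_eq_mul] at h1
  rw [← h1, ← mul_assoc, inv_mul_cancel₀ h.hz, one_mul]

/-- a family of pairwise orthogonal hyperbolic pairs inside `S` whose planes are permuted by `x`. -/
structure SympFam (B : LinearMap.BilinForm F V) (x : V →ₗ[F] V) (S : Submodule F V)
    {κ : Type} [DecidableEq κ] (e f : κ → V) (π : Equiv.Perm κ) : Prop where
  inv : ∀ i, π (π i) = i
  eS : ∀ i, e i ∈ S
  fS : ∀ i, f i ∈ S
  ee : ∀ i j, B (e i) (e j) = 0
  ff : ∀ i j, B (f i) (f j) = 0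
  ef : ∀ i j, B (e i) (f j) = if i = j then 1 else 0
  xe : ∀ i, x (e i) ∈ Submodule.span F {e (π i), f (π i)}
  xf : ∀ i, x (f i) ∈ Submodule.span F {e (π i), f (π i)}

/-- the part of `S` orthogonal to a family. -/
def perp (B : LinearMap.BilinForm F V) (S : Submodule F V) {κ : Type} (e f : κ → V) :
    Submodule F V :=
  S ⊓ ⨅ i, (LinearMap.ker (B (e i)) ⊓ LinearMap.ker (B (f i)))

lemma mem_perp {S : Submodule F V} {κ : Type} {e f : κ → V} {u : V} :
    u ∈ perp B S e f ↔ u ∈ S ∧ ∀ i, B (e i) u = 0 ∧ B (f i) u = 0 := by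
  simp [perp, Submodule.mem_inf, Submodule.mem_iInf, LinearMap.mem_ker]

section fam
variable {S : Submodule F V} {κ : Type} [DecidableEq κ] {e f : κ → V}
  {π : Equiv.Perm κ}

lemma SympFam.fe (h : Hyp B x z) (hf : SympFam B x S e f π) (i j : κ) :
    B (f i) (e j) = if i = j then -1 else 0 := by
  rw [h.swap, hf.ef]
  by_cases hij : i = j
  · subst hij; simp
  · rw [if_neg hij, if_neg (Ne.symm hij), neg_zero]

/-- the projection onto the orthogonal part. -/
lemma SympFam.proj_mem [Fintype κ] (h : Hyp B x z) (hf : SympFam B x S e f π) {w : V}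
    (hw : w ∈ S) :
    w + ∑ i, (B (f i) w • e i - B (e i) w • f i) ∈ perp B S e f := by
  rw [mem_perp]
  refine ⟨S.add_mem hw (S.sum_mem fun i _ => S.sub_mem (S.smul_mem _ (hf.eS i))
    (S.smul_mem _ (hf.fS i))), fun j => ⟨?_, ?_⟩⟩
  · simp only [map_add, map_sum, map_sub, map_smul, smul_eq_mul, hf.ee, hf.ef, mul_zero,
      zero_sub, mul_ite, mul_one, Finset.sum_neg_distrib, Finset.sum_ite_eq, Finset.mem_univ,
      if_true, add_neg_cancel]
  · simp only [map_add, map_sum, map_sub, map_smul, smul_eq_mul, hf.ff, hf.fe h, mul_zero,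
      sub_zero, mul_ite, mul_neg, mul_one, Finset.sum_ite_eq, Finset.mem_univ,
      if_true, add_neg_cancel]

lemma SympFam.perp_invariant (h : Hyp B x z) (hf : SympFam B x S e f π)
    (hxS : ∀ v ∈ S, x v ∈ S) : ∀ u ∈ perp B S e f, x u ∈ perp B S e f := by
  intro u hu
  rw [mem_perp] at hu ⊢
  have key : ∀ i, ∀ q ∈ Submodule.span F {e (π i), f (π i)}, B q u = 0 := by
    intro i q hq
    obtain ⟨a, b, rfl⟩ := Submodule.mem_span_pair.1 hq
    simp [(hu.2 (π i)).1, (hu.2 (π i)).2]
  refine ⟨hxS u hu.1, fun i => ⟨?_, ?_⟩⟩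
  · rw [h.adj, key i _ (hf.xe i), mul_zero]
  · rw [h.adj, key i _ (hf.xf i), mul_zero]

lemma SympFam.perp_nondeg [Fintype κ] (h : Hyp B x z) (hf : SympFam B x S e f π)
    (hnd : ∀ v ∈ S, (∀ w ∈ S, B v w = 0) → v = 0) :
    ∀ v ∈ perp B S e f, (∀ w ∈ perp B S e f, B v w = 0) → v = 0 := by
  intro v hv hvw
  have hv' := mem_perp.1 hv
  apply hnd v hv'.1
  intro w hw
  have h1 := hvw _ (hf.proj_mem h hw)
  have he : ∀ i, B v (e i) = 0 := fun i => by rw [h.swap, (hv'.2 i).1, neg_zero]
  have hf' : ∀ i, B v (f i) = 0 := fun i => by rw [h.swap, (hv'.2 i).2, neg_zero]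
  simpa only [map_add, map_sum, map_sub, map_smul, smul_eq_mul, he, hf', mul_zero, sub_zero,
    Finset.sum_const_zero, add_zero] using h1

lemma SympFam.perp_lt (hf : SympFam B x S e f π) [Nonempty κ] :
    perp B S e f < S := by
  refine lt_of_le_of_ne inf_le_left ?_
  intro heq
  obtain ⟨i⟩ := ‹Nonempty κ›
  have h1 : f i ∈ perp B S e f := by rw [heq]; exact hf.fS i
  have h2 := ((mem_perp.1 h1).2 i).1
  rw [hf.ef, if_pos rfl] at h2
  exact one_ne_zero h2

end fam

/-- gluing a family with a complete family of its orthogonal part. -/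
theorem combine (h : Hyp B x z) {S : Submodule F V}
    {κ : Type} [Fintype κ] [DecidableEq κ] {e₀ f₀ : κ → V} {π₀ : Equiv.Perm κ}
    (h₀ : SympFam B x S e₀ f₀ π₀)
    {ι : Type} [DecidableEq ι] {e₁ f₁ : ι → V} {π₁ : Equiv.Perm ι}
    (h₁ : SympFam B x (perp B S e₀ f₀) e₁ f₁ π₁)
    (hc : ∀ w ∈ perp B S e₀ f₀, w ∈ Submodule.span F (Set.range e₁ ∪ Set.range f₁)) :
    SympFam B x S (Sum.elim e₀ e₁) (Sum.elim f₀ f₁) (Equiv.sumCongr π₀ π₁) ∧
    ∀ w ∈ S, w ∈ Submodule.span F
      (Set.range (Sum.elim e₀ e₁) ∪ Set.range (Sum.elim f₀ f₁)) := by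
  have hpe : ∀ i j, B (e₀ i) (e₁ j) = 0 := fun i j => ((mem_perp.1 (h₁.eS j)).2 i).1
  have hpf : ∀ i j, B (e₀ i) (f₁ j) = 0 := fun i j => ((mem_perp.1 (h₁.fS j)).2 i).1
  have hqe : ∀ i j, B (f₀ i) (e₁ j) = 0 := fun i j => ((mem_perp.1 (h₁.eS j)).2 i).2
  have hqf : ∀ i j, B (f₀ i) (f₁ j) = 0 := fun i j => ((mem_perp.1 (h₁.fS j)).2 i).2
  constructor
  · refine ⟨?_, ?_, ?_, ?_, ?_, ?_, ?_, ?_⟩
    · rintro (i | i)
      · simp [h₀.inv]
      · simp [h₁.inv]
    · rintro (i | i)
      · exact h₀.eS i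
      · exact (mem_perp.1 (h₁.eS i)).1
    · rintro (i | i)
      · exact h₀.fS i
      · exact (mem_perp.1 (h₁.fS i)).1
    · rintro (i | i) (j | j)
      · exact h₀.ee i j
      · exact hpe i j
      · show B (e₁ i) (e₀ j) = 0
        rw [h.swap, hpe, neg_zero]
      · exact h₁.ee i j
    · rintro (i | i) (j | j)
      · exact h₀.ff i j
      · exact hqf i j
      · show B (f₁ i) (f₀ j) = 0
        rw [h.swap, hqf, neg_zero]
      · exact h₁.ff i j
    · rintro (i | i) (j | j)
      · show B (e₀ i) (f₀ j) = _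
        rw [h₀.ef]
        simp only [Sum.inl.injEq]
      · show B (e₀ i) (f₁ j) = _
        rw [hpf]
        simp
      · show B (e₁ i) (f₀ j) = _
        rw [h.swap, hqe]
        simp
      · show B (e₁ i) (f₁ j) = _
        rw [h₁.ef]
        simp only [Sum.inr.injEq]
    · rintro (i | i)
      · exact h₀.xe i
      · exact h₁.xe i
    · rintro (i | i)
      · exact h₀.xf i
      · exact h₁.xf i
  · intro w hw
    have hle₀ : ∀ i, e₀ i ∈ Submodule.span F
        (Set.range (Sum.elim e₀ e₁) ∪ Set.range (Sum.elim f₀ f₁)) := fun i =>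
      Submodule.subset_span (Or.inl ⟨Sum.inl i, rfl⟩)
    have hlf₀ : ∀ i, f₀ i ∈ Submodule.span F
        (Set.range (Sum.elim e₀ e₁) ∪ Set.range (Sum.elim f₀ f₁)) := fun i =>
      Submodule.subset_span (Or.inr ⟨Sum.inl i, rfl⟩)
    have hle₁ : Submodule.span F (Set.range e₁ ∪ Set.range f₁) ≤ Submodule.span F
        (Set.range (Sum.elim e₀ e₁) ∪ Set.range (Sum.elim f₀ f₁)) := by
      apply Submodule.span_mono
      rintro _ (⟨i, rfl⟩ | ⟨i, rfl⟩)
      · exact Or.inl ⟨Sum.inr i, rfl⟩
      · exact Or.inr ⟨Sum.inr i, rfl⟩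
    have h1 := hle₁ (hc _ (h₀.proj_mem h hw))
    have h2 : ∑ i, (B (f₀ i) w • e₀ i - B (e₀ i) w • f₀ i) ∈ Submodule.span F
        (Set.range (Sum.elim e₀ e₁) ∪ Set.range (Sum.elim f₀ f₁)) :=
      Submodule.sum_mem _ fun i _ => Submodule.sub_mem _ (Submodule.smul_mem _ _ (hle₀ i))
        (Submodule.smul_mem _ _ (hlf₀ i))
    have h3 := Submodule.sub_mem _ h1 h2
    rwa [add_sub_cancel_right] at h3

/-- a vector pairing with `w` but not with `x w`, when `w` is not an eigenvector. -/
lemma exists_v (h : Hyp B x z) {S : Submodule F V}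
    (hnd : ∀ v ∈ S, (∀ w ∈ S, B v w = 0) → v = 0) {w : V} (hw : w ∈ S) (hxw : x w ∈ S)
    (hne : ∀ c : F, x w ≠ c • w) : ∃ v ∈ S, B v w ≠ 0 ∧ B v (x w) = 0 := by
  have hxw0 : x w ≠ 0 := by
    intro h0
    exact hne 0 (by rw [h0, zero_smul])
  obtain ⟨v₁, hv₁S, hv₁⟩ : ∃ v₁ ∈ S, B v₁ (x w) ≠ 0 := by
    by_contra hcon
    push Not at hcon
    apply hxw0
    apply hnd _ hxw
    intro u hu
    rw [h.swap, hcon u hu, neg_zero]
  by_contra hcon
  push Not at hcon
  set lam : F := B v₁ w / B v₁ (x w) with hlam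
  have hall : ∀ u ∈ S, B u (w - lam • x w) = 0 := by
    intro u hu
    have hu' : u - (B u (x w) / B v₁ (x w)) • v₁ ∈ S := S.sub_mem hu (S.smul_mem _ hv₁S)
    have h1 : B (u - (B u (x w) / B v₁ (x w)) • v₁) (x w) = 0 := by
      simp only [map_sub, map_smul, LinearMap.sub_apply, LinearMap.smul_apply, smul_eq_mul]
      field_simp
      ring
    have h2 : B (u - (B u (x w) / B v₁ (x w)) • v₁) w = 0 := by
      by_contra h3
      exact hcon _ hu' h3 h1
    simp only [map_sub, map_smul, LinearMap.sub_apply, LinearMap.smul_apply, smul_eq_mul] at h2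
    simp only [map_sub, map_smul, smul_eq_mul, hlam]
    have h4 : B u w = B u (x w) / B v₁ (x w) * B v₁ w := sub_eq_zero.1 h2
    rw [h4]
    field_simp
    ring
  have hzero : w - lam • x w = 0 := by
    apply hnd _ (S.sub_mem hw (S.smul_mem _ hxw))
    intro u hu
    rw [h.swap, hall u hu, neg_zero]
  by_cases hl : lam = 0
  · rw [hl, zero_smul, sub_zero] at hzero
    apply hne 0
    rw [hzero, map_zero, smul_zero]
  · apply hne lam⁻¹
    have : w = lam • x w := sub_eq_zero.1 hzero
    calc x w = lam⁻¹ • (lam • x w) := by rw [smul_smul, inv_mul_cancel₀ hl, one_smul]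
      _ = lam⁻¹ • w := by rw [← this]

/-- a non-zero invariant non-degenerate subspace contains a small invariant family. -/
theorem exists_small (h : Hyp B x z) {S : Submodule F V} (hxS : ∀ v ∈ S, x v ∈ S)
    (hnd : ∀ v ∈ S, (∀ w ∈ S, B v w = 0) → v = 0) (hS : S ≠ ⊥) :
    ∃ (κ : Type) (_ : Fintype κ) (_ : DecidableEq κ) (_ : Nonempty κ) (e f : κ → V)
      (π : Equiv.Perm κ), SympFam B x S e f π := by
  classical
  by_cases hA : ∃ v ∈ S, B v (x v) ≠ 0
  · obtain ⟨v, hvS, hc⟩ := hA
    refine ⟨Unit, inferInstance, inferInstance, inferInstance, fun _ => v,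
      fun _ => (B v (x v))⁻¹ • x v, 1, ?_⟩
    refine ⟨fun _ => rfl, fun _ => hvS, fun _ => S.smul_mem _ (hxS _ hvS), fun _ _ => h.alt _,
      fun _ _ => h.alt _, ?_, ?_, ?_⟩
    · intro i j
      rw [if_pos (Subsingleton.elim i j), map_smul, smul_eq_mul, inv_mul_cancel₀ hc]
    · intro i
      rw [Submodule.mem_span_pair]
      refine ⟨0, B v (x v), ?_⟩
      rw [zero_smul, zero_add, smul_smul, mul_inv_cancel₀ hc, one_smul]
    · intro i
      rw [Submodule.mem_span_pair]
      refine ⟨(B v (x v))⁻¹ * z, 0, ?_⟩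
      rw [zero_smul, add_zero, map_smul, h.sq, smul_smul]
  push Not at hA
  by_cases hB : ∃ w ∈ S, ∀ c : F, x w ≠ c • w
  · obtain ⟨w, hwS, hne⟩ := hB
    obtain ⟨v, hvS, hc, hvxw⟩ := exists_v h hnd hwS (hxS _ hwS) hne
    have hxvw : B (x v) w = 0 := by
      rw [h.swap, h.adj, h.swap, hvxw, neg_zero, mul_zero, neg_zero]
    have hxww : B (x w) w = 0 := by
      rw [h.swap, hA w hwS, neg_zero]
    refine ⟨Fin 2, inferInstance, inferInstance, inferInstance, ![v, x v],
      ![(B v w)⁻¹ • w, (B v w)⁻¹ • x w], Equiv.swap 0 1, ?_⟩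
    refine ⟨?_, ?_, ?_, ?_, ?_, ?_, ?_, ?_⟩
    · intro i; simp
    · intro i
      fin_cases i
      · exact hvS
      · exact hxS _ hvS
    · intro i
      fin_cases i
      · exact S.smul_mem _ hwS
      · exact S.smul_mem _ (hxS _ hwS)
    · intro i j
      fin_cases i <;> fin_cases j
      · exact h.alt _
      · exact hA v hvS
      · show B (x v) v = 0
        rw [h.swap, hA v hvS, neg_zero]
      · exact h.alt _
    · intro i j
      fin_cases i <;> fin_cases j
      · exact h.alt _
      · show B ((B v w)⁻¹ • w) ((B v w)⁻¹ • x w) = 0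
        rw [map_smul, map_smul, LinearMap.smul_apply, hA w hwS, smul_zero, smul_zero]
      · show B ((B v w)⁻¹ • x w) ((B v w)⁻¹ • w) = 0
        rw [map_smul, map_smul, LinearMap.smul_apply, hxww, smul_zero, smul_zero]
      · exact h.alt _
    · intro i j
      fin_cases i <;> fin_cases j
      · show B v ((B v w)⁻¹ • w) = _
        rw [map_smul, smul_eq_mul, inv_mul_cancel₀ hc]; simp
      · show B v ((B v w)⁻¹ • x w) = _
        rw [map_smul, hvxw, smul_zero]; simp
      · show B (x v) ((B v w)⁻¹ • w) = _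
        rw [map_smul, hxvw, smul_zero]; simp
      · show B (x v) ((B v w)⁻¹ • x w) = _
        rw [map_smul, h.isom, smul_eq_mul, inv_mul_cancel₀ hc]; simp
    · intro i
      fin_cases i
      · show x v ∈ Submodule.span F {x v, (B v w)⁻¹ • x w}
        exact Submodule.subset_span (Or.inl rfl)
      · show x (x v) ∈ Submodule.span F {v, (B v w)⁻¹ • w}
        rw [h.sq]
        exact Submodule.smul_mem _ _ (Submodule.subset_span (Or.inl rfl))
    · intro i
      fin_cases i
      · show x ((B v w)⁻¹ • w) ∈ Submodule.span F {x v, (B v w)⁻¹ • x w}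
        rw [map_smul]
        exact Submodule.subset_span (Or.inr rfl)
      · show x ((B v w)⁻¹ • x w) ∈ Submodule.span F {v, (B v w)⁻¹ • w}
        rw [map_smul, h.sq, smul_comm]
        exact Submodule.smul_mem _ _ (Submodule.subset_span (Or.inr rfl))
  · push Not at hB
    obtain ⟨v, hvS, hv0⟩ := Submodule.exists_mem_ne_zero_of_ne_bot hS
    obtain ⟨w, hwS, hc⟩ : ∃ w ∈ S, B v w ≠ 0 := by
      by_contra hcon
      push Not at hcon
      exact hv0 (hnd v hvS hcon)
    refine ⟨Unit, inferInstance, inferInstance, inferInstance, fun _ => v,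
      fun _ => (B v w)⁻¹ • w, 1, ?_⟩
    refine ⟨fun _ => rfl, fun _ => hvS, fun _ => S.smul_mem _ hwS, fun _ _ => h.alt _,
      fun _ _ => h.alt _, ?_, ?_, ?_⟩
    · intro i j
      rw [if_pos (Subsingleton.elim i j), map_smul, smul_eq_mul, inv_mul_cancel₀ hc]
    · intro i
      obtain ⟨c, hcv⟩ := hB v hvS
      show x v ∈ _
      rw [hcv]
      exact Submodule.smul_mem _ _ (Submodule.subset_span (Or.inl rfl))
    · intro i
      obtain ⟨c, hcw⟩ := hB w hwS
      show x ((B v w)⁻¹ • w) ∈ _
      rw [map_smul, hcw, smul_comm]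
      exact Submodule.smul_mem _ _ (Submodule.subset_span (Or.inr rfl))

/-- the main structure theorem: a complete family of hyperbolic pairs permuted by `x`. -/
theorem exists_fam [FiniteDimensional F V] (h : Hyp B x z) :
    ∀ (n : ℕ) (S : Submodule F V), finrank F S = n → (∀ v ∈ S, x v ∈ S) →
      (∀ v ∈ S, (∀ w ∈ S, B v w = 0) → v = 0) →
      ∃ (ι : Type) (_ : Fintype ι) (_ : DecidableEq ι) (e f : ι → V) (π : Equiv.Perm ι),
        SympFam B x S e f π ∧
        ∀ w ∈ S, w ∈ Submodule.span F (Set.range e ∪ Set.range f) := by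
  intro n
  induction n using Nat.strong_induction_on with
  | _ n ih =>
  intro S hn hxS hnd
  by_cases hS : S = ⊥
  · refine ⟨PEmpty, inferInstance, inferInstance, PEmpty.elim, PEmpty.elim, 1, ?_, ?_⟩
    · exact ⟨fun i => i.elim, fun i => i.elim, fun i => i.elim, fun i => i.elim,
        fun i => i.elim, fun i => i.elim, fun i => i.elim, fun i => i.elim⟩
    · intro w hw
      rw [hS, Submodule.mem_bot] at hw
      rw [hw]
      exact Submodule.zero_mem _
  obtain ⟨κ, _, _, _, e₀, f₀, π₀, h₀⟩ := exists_small h hxS hnd hS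
  have hlt : finrank F (perp B S e₀ f₀) < n := by
    rw [← hn]
    exact Submodule.finrank_lt_finrank_of_lt h₀.perp_lt
  obtain ⟨ι, _, _, e₁, f₁, π₁, h₁, hc⟩ := ih _ hlt (perp B S e₀ f₀) rfl
    (h₀.perp_invariant h hxS) (h₀.perp_nondeg h hnd)
  obtain ⟨h2, h3⟩ := combine h h₀ h₁ hc
  exact ⟨κ ⊕ ι, inferInstance, inferInstance, _, _, _, h2, h3⟩

lemma SympFam.linearIndependent {S : Submodule F V} {κ : Type} [Fintype κ] [DecidableEq κ]
    {e f : κ → V} {π : Equiv.Perm κ} (h : Hyp B x z) (hf : SympFam B x S e f π) :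
    LinearIndependent F (Sum.elim e f) := by
  rw [Fintype.linearIndependent_iff]
  intro g hg
  rw [Fintype.sum_sum_type] at hg
  simp only [Sum.elim_inl, Sum.elim_inr] at hg
  rintro (j | j)
  · have h1 := congrArg (B (f j)) hg
    simp only [map_add, map_sum, map_smul, smul_eq_mul, hf.ff, hf.fe h, mul_zero,
      Finset.sum_const_zero, add_zero, mul_ite, mul_neg, mul_one, Finset.sum_ite_eq,
      Finset.mem_univ, if_true, map_zero] at h1
    exact neg_eq_zero.1 h1
  · have h1 := congrArg (B (e j)) hg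
    simp only [map_add, map_sum, map_smul, smul_eq_mul, hf.ee, hf.ef, mul_zero,
      Finset.sum_const_zero, zero_add, mul_ite, mul_one, Finset.sum_ite_eq,
      Finset.mem_univ, if_true, map_zero] at h1
    exact h1

/-- An isometry with scalar square of a non-degenerate alternating space of dimension `2 m t`
permutes the members of an orthogonal decomposition into `t` non-degenerate subspaces of
dimension `2 m`. -/
theorem exists_orth_decomposition [FiniteDimensional F V] (h : Hyp B x z)
    (hnd : ∀ v, (∀ w, B v w = 0) → v = 0) (m t : ℕ) (hm : 1 ≤ m)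
    (hdim : finrank F V = 2 * m * t) :
    ∃ D : Fin t → Submodule F V, (∀ j, finrank F (D j) = 2 * m) ∧ iSupIndep D ∧ iSup D = ⊤ ∧
      (∀ j, ∀ u ∈ D j, u ≠ 0 → ∃ v ∈ D j, B u v ≠ 0) ∧
      (∀ j j', j ≠ j' → ∀ u ∈ D j, ∀ v ∈ D j', B u v = 0) ∧
      ∃ σ : Equiv.Perm (Fin t), ∀ j, (D j).map x = D (σ j) := by
  classical
  obtain ⟨ι, _, _, e, f, π, hf, hc⟩ := exists_fam h _ ⊤ rfl (fun v _ => Submodule.mem_top)
    (fun v _ hv => hnd v (fun w => hv w Submodule.mem_top))
  set b₀ : ι ⊕ ι → V := Sum.elim e f with hb₀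
  have hli : LinearIndependent F b₀ := hf.linearIndependent h
  have hrange : Set.range b₀ = Set.range e ∪ Set.range f := Set.Sum.elim_range e f
  have hspan : ⊤ ≤ Submodule.span F (Set.range b₀) := by
    intro w _
    rw [hrange]
    exact hc w Submodule.mem_top
  let b : Basis (ι ⊕ ι) F V := Basis.mk hli hspan
  have hcardι : Nat.card ι = m * t := by
    have h1 := Module.finrank_eq_card_basis b
    rw [hdim, Fintype.card_sum] at h1
    rw [Nat.card_eq_fintype_card]
    nlinarith
  obtain ⟨col, σ, hcol, hσ⟩ := Colouring.exists_fin_colouring m t hm ι π hf.inv hcardι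
  set col' : ι ⊕ ι → Fin t := Sum.elim col col with hcol'
  let D : Fin t → Submodule F V := fun j => Submodule.span F (b₀ '' {k | col' k = j})
  have hmemD : ∀ k, b₀ k ∈ D (col' k) := fun k => Submodule.subset_span ⟨k, rfl, rfl⟩
  have hfin : ∀ j, finrank F (D j) = 2 * m := by
    intro j
    have hli' : LinearIndependent F (fun k : {k // col' k = j} => b₀ k) :=
      hli.comp Subtype.val Subtype.val_injective
    have h1 : D j = Submodule.span F (Set.range (fun k : {k // col' k = j} => b₀ k)) := by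
      show Submodule.span F (b₀ '' {k | col' k = j}) = _
      rw [Set.image_eq_range]
      rfl
    rw [h1, finrank_span_eq_card hli', ← Nat.card_eq_fintype_card]
    have h2 : Nat.card {k : ι ⊕ ι // col' k = j} =
        Nat.card ({i // col i = j} ⊕ {i // col i = j}) :=
      Nat.card_congr (Equiv.subtypeSum (p := fun k => col' k = j))
    rw [h2, Nat.card_sum, hcol]
    ring
  have hinj : Function.Injective x := by
    intro v w hvw
    have := congrArg x hvw
    rw [h.sq, h.sq] at this
    exact smul_right_injective V h.hz this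
  -- orthogonality
  have horth : ∀ j j', j ≠ j' → ∀ u ∈ D j, ∀ v ∈ D j', B u v = 0 := by
    intro j j' hjj' u hu v hv
    have hbase : ∀ k l, col' k = j → col' l = j' → B (b₀ k) (b₀ l) = 0 := by
      intro k l hk hl
      rcases k with i | i <;> rcases l with i' | i'
      · exact hf.ee i i'
      · show B (e i) (f i') = 0
        rw [hf.ef, if_neg]
        rintro rfl
        exact hjj' (hk.symm.trans hl)
      · show B (f i) (e i') = 0
        rw [hf.fe h, if_neg]
        rintro rfl
        exact hjj' (hk.symm.trans hl)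
      · exact hf.ff i i'
    induction hu using Submodule.span_induction with
    | mem u hu =>
      obtain ⟨k, hk, rfl⟩ := hu
      induction hv using Submodule.span_induction with
      | mem v hv =>
        obtain ⟨l, hl, rfl⟩ := hv
        exact hbase k l hk hl
      | zero => simp
      | add v w _ _ hv hw => rw [map_add, hv, hw, add_zero]
      | smul a v _ hv => rw [map_smul, hv, smul_zero]
    | zero => simp
    | add u w _ _ hu hw => rw [map_add, LinearMap.add_apply, hu, hw, add_zero]
    | smul a u _ hu => rw [map_smul, LinearMap.smul_apply, hu, smul_zero]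
  have hsup : iSup D = ⊤ := by
    rw [eq_top_iff]
    refine le_trans hspan ?_
    rw [Submodule.span_le]
    rintro _ ⟨k, rfl⟩
    exact (le_iSup D (col' k)) (hmemD k)
  refine ⟨D, hfin, ?_, hsup, ?_, horth, σ, ?_⟩
  · rw [iSupIndep_def]
    intro j
    have hle : (⨆ l, ⨆ (_ : l ≠ j), D l) ≤ Submodule.span F (b₀ '' {k | col' k = j}ᶜ) := by
      refine iSup₂_le ?_
      intro l hl
      apply Submodule.span_mono
      apply Set.image_mono
      intro k hk
      simp only [Set.mem_ofPred_eq, Set.mem_compl_iff] at hk ⊢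
      rw [hk]; exact hl
    exact (hli.disjoint_span_image disjoint_compl_right).mono_right hle
  · intro j u hu hu0
    obtain ⟨w, hw⟩ : ∃ w, B u w ≠ 0 := by
      by_contra hcon
      push Not at hcon
      exact hu0 (hnd u hcon)
    have hwtop : w ∈ iSup D := by rw [hsup]; exact Submodule.mem_top
    rw [iSup_split_single D j, Submodule.mem_sup] at hwtop
    obtain ⟨w₁, hw₁, w₂, hw₂, rfl⟩ := hwtop
    have hker : (⨆ l, ⨆ (_ : l ≠ j), D l) ≤ LinearMap.ker (B u) := by
      refine iSup₂_le ?_
      intro l hl v hv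
      rw [LinearMap.mem_ker]
      exact horth j l (Ne.symm hl) u hu v hv
    have h2 : B u w₂ = 0 := LinearMap.mem_ker.1 (hker hw₂)
    refine ⟨w₁, hw₁, ?_⟩
    rwa [map_add, h2, add_zero] at hw
  · intro j
    have hle : (D j).map x ≤ D (σ j) := by
      show (Submodule.span F (b₀ '' {k | col' k = j})).map x ≤ _
      rw [Submodule.map_span, Submodule.span_le]
      rintro _ ⟨_, ⟨k, hk, rfl⟩, rfl⟩
      have hpair : ∀ i, col i = j →
          Submodule.span F {e (π i), f (π i)} ≤ D (σ j) := by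
        intro i hi
        rw [Submodule.span_le]
        rintro _ (rfl | rfl)
        · have := hmemD (Sum.inl (π i))
          simp only [hcol', Sum.elim_inl, hσ, hi] at this
          exact this
        · have := hmemD (Sum.inr (π i))
          simp only [hcol', Sum.elim_inr, hσ, hi] at this
          exact this
      rcases k with i | i
      · exact hpair i hk (hf.xe i)
      · exact hpair i hk (hf.xf i)
    apply Submodule.eq_of_le_of_finrank_eq hle
    rw [hfin, ← (Submodule.equivMapOfInjective x hinj (D j)).finrank_eq, hfin]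

end Cfsg.Agent.Lib.Helper18.InvolPlanes
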