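import Mathlib

/-! Keystones K80-D and K80-E for helper80's S4470 (Jordan's theorem): trace inequality and
operator norm of a combination of orthogonal projections. L2 operator norm on matrices. -/

set_option autoImplicit false
open scoped Matrix.Norms.L2Operator
open Matrix

namespace Cfsg.Agent.Lib.Helper18.Jordan

/-- the `j`-th column of `W` as a Euclidean vector -/
noncomputable def colVec {n : ℕ} (W : Matrix (Fin n) (Fin n) ℂ) (j : Fin n) :
    EuclideanSpace ℂ (Fin n) := WithLp.toLp 2 (fun i => W i j)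

theorem trace_conj_eq_sum_inner {n : ℕ} (X W : Matrix (Fin n) (Fin n) ℂ) :
    (Wᴴ * X * W).trace =
      ∑ j, inner ℂ (colVec W j) (WithLp.toLp 2 (X *ᵥ (fun i => W i j))) := by
  unfold Matrix.trace
  refine Finset.sum_congr rfl fun j _ => ?_
  rw [EuclideanSpace.inner_eq_star_dotProduct]
  simp only [colVec, Matrix.diag_apply, Matrix.mul_assoc]
  rw [Matrix.mul_apply, dotProduct]
  refine Finset.sum_congr rfl fun i _ => ?_
  rw [Matrix.conjTranspose_apply, Matrix.mul_apply, mulVec, dotProduct, mul_comm]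
  rfl

theorem trace_conj_self_re {n : ℕ} (W : Matrix (Fin n) (Fin n) ℂ) :
    (Wᴴ * W).trace.re = ∑ j, ‖colVec W j‖ ^ 2 := by
  unfold Matrix.trace
  rw [Complex.re_sum]
  refine Finset.sum_congr rfl fun j _ => ?_
  rw [EuclideanSpace.norm_sq_eq, Matrix.diag_apply, Matrix.mul_apply, Complex.re_sum]
  refine Finset.sum_congr rfl fun i _ => ?_
  simp only [colVec, Matrix.conjTranspose_apply]
  rw [Complex.star_def, ← Complex.normSq_eq_conj_mul_self]
  rw [Complex.normSq_eq_norm_sq, Complex.ofReal_re]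

theorem norm_trace_conj_le {n : ℕ} (X W : Matrix (Fin n) (Fin n) ℂ) :
    ‖(Wᴴ * X * W).trace‖ ≤ ‖X‖ * (Wᴴ * W).trace.re := by
  rw [trace_conj_eq_sum_inner, trace_conj_self_re, Finset.mul_sum]
  refine (norm_sum_le _ _).trans (Finset.sum_le_sum fun j _ => ?_)
  refine (norm_inner_le_norm _ _).trans ?_
  have h := Matrix.l2_opNorm_mulVec X (colVec W j)
  have h2 : (EuclideanSpace.equiv (Fin n) ℂ).symm (X *ᵥ (colVec W j).ofLp)
      = WithLp.toLp 2 (X *ᵥ (fun i => W i j)) := rfl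
  rw [h2] at h
  calc ‖colVec W j‖ * ‖WithLp.toLp 2 (X *ᵥ (fun i => W i j))‖
      ≤ ‖colVec W j‖ * (‖X‖ * ‖colVec W j‖) :=
        mul_le_mul_of_nonneg_left h (norm_nonneg _)
    _ = ‖X‖ * ‖colVec W j‖ ^ 2 := by ring

theorem norm_sq_sum_of_orth {ι E : Type*} [Fintype ι] [DecidableEq ι]
    [NormedAddCommGroup E] [InnerProductSpace ℂ E]
    (w : ι → E) (h : ∀ i j, i ≠ j → inner ℂ (w i) (w j) = 0) :
    ‖∑ i, w i‖ ^ 2 = ∑ i, ‖w i‖ ^ 2 := by
  have h1 : inner ℂ (∑ i, w i) (∑ i, w i) = ∑ i, inner ℂ (w i) (w i) := by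
    rw [sum_inner]
    refine Finset.sum_congr rfl fun i _ => ?_
    rw [inner_sum]
    rw [Finset.sum_eq_single i]
    · intro j _ hj
      exact h i j (Ne.symm hj)
    · intro hi; exact absurd (Finset.mem_univ i) hi
  have h2 := congrArg (RCLike.re : ℂ → ℝ) h1
  rw [map_sum] at h2
  simp only [inner_self_eq_norm_sq] at h2
  exact h2

theorem norm_sum_smul_le {ι : Type*} [Fintype ι] [DecidableEq ι] {n : ℕ}
    (e : ι → Matrix (Fin n) (Fin n) ℂ) (hherm : ∀ i, (e i)ᴴ = e i)
    (horth : ∀ i j, e i * e j = if i = j then e i else 0) (hsum : ∑ i, e i = 1)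
    (c : ι → ℂ) (r : ℝ) (hr : 0 ≤ r) (hc : ∀ i, e i ≠ 0 → ‖c i‖ ≤ r) :
    ‖∑ i, c i • e i‖ ≤ r := by
  set T := toEuclideanCLM (n := Fin n) (𝕜 := ℂ) with hT
  rw [← l2_opNorm_toEuclideanCLM]
  set E : ι → (EuclideanSpace ℂ (Fin n) →L[ℂ] EuclideanSpace ℂ (Fin n)) := fun i => T (e i) with hE
  have hEstar : ∀ i, star (E i) = E i := by
    intro i
    simp only [hE]
    rw [← map_star, Matrix.star_eq_conjTranspose, hherm]
  have hEmul : ∀ i j, i ≠ j → E i * E j = 0 := by
    intro i j hij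
    simp only [hE]
    rw [← map_mul, horth, if_neg hij, map_zero]
  have hEsum : ∑ i, E i = 1 := by
    simp only [hE]
    rw [← map_sum, hsum, map_one]
  have hX : T (∑ i, c i • e i) = ∑ i, c i • E i := by
    rw [map_sum]
    refine Finset.sum_congr rfl fun i _ => ?_
    rw [map_smul]
  rw [hX]
  refine ContinuousLinearMap.opNorm_le_bound _ hr fun v => ?_
  have horthv : ∀ i j, i ≠ j → inner ℂ (E i v) (E j v) = 0 := by
    intro i j hij
    have : inner ℂ (E i v) (E j v) = inner ℂ v ((star (E i) * E j) v) := by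
      rw [ContinuousLinearMap.star_eq_adjoint]
      exact (ContinuousLinearMap.adjoint_inner_right (E i) v (E j v)).symm
    rw [this, hEstar, hEmul i j hij]
    simp
  have hv : ‖v‖ ^ 2 = ∑ i, ‖E i v‖ ^ 2 := by
    rw [← norm_sq_sum_of_orth (fun i => E i v) horthv]
    congr 2
    have := congrArg (fun A : EuclideanSpace ℂ (Fin n) →L[ℂ] EuclideanSpace ℂ (Fin n) => A v) hEsum
    simp only [_root_.sum_apply, one_apply_eq_self] at this
    exact this.symm
  have hXv : ‖(∑ i, c i • E i) v‖ ^ 2 = ∑ i, ‖c i‖ ^ 2 * ‖E i v‖ ^ 2 := by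
    have : (∑ i, c i • E i) v = ∑ i, c i • E i v := by
      simp
    rw [this, norm_sq_sum_of_orth (fun i => c i • E i v)]
    · refine Finset.sum_congr rfl fun i _ => ?_
      rw [norm_smul, mul_pow]
    · intro i j hij
      rw [inner_smul_left, inner_smul_right, horthv i j hij, mul_zero, mul_zero]
  have hle : ‖(∑ i, c i • E i) v‖ ^ 2 ≤ (r * ‖v‖) ^ 2 := by
    rw [hXv, mul_pow, hv, Finset.mul_sum]
    refine Finset.sum_le_sum fun i _ => ?_
    by_cases hei : e i = 0
    · have : E i = 0 := by simp only [hE]; rw [hei, map_zero]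
      rw [this]; simp
    · have := hc i hei
      have h2 : ‖c i‖ ^ 2 ≤ r ^ 2 := pow_le_pow_left₀ (norm_nonneg _) this 2
      exact mul_le_mul_of_nonneg_right h2 (sq_nonneg _)
  exact le_of_sq_le_sq hle (mul_nonneg hr (norm_nonneg _)) |> fun h => h

end Cfsg.Agent.Lib.Helper18.Jordan
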