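import Mathlib
import Cfsg.Agent.Lib.Helper94.LCDefs

set_option autoImplicit false
set_option linter.unusedSectionVars false
set_option linter.unusedVariables false
set_option linter.style.longLine false

/-! Keystone K-LC-A4a (architect helper94): at most 1104 integer vectors of length 24 with sum of squares 32 and
all entries divisible by 4. -/

namespace Cfsg.Agent.Lib.Helper18.LC

open Cfsg.Agent.Lib.Helper94.LC

/-- the vector `±4 u_i ± 4 u_j` -/
def pairVec (p : (Fin 24 × Fin 24) × (Bool × Bool)) : Fin 24 → ℤ :=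
  Pi.single p.1.1 (if p.2.1 then 4 else -4) + Pi.single p.1.2 (if p.2.2 then 4 else -4)

/-- the index set: ordered pairs `i < j` with two signs -/
def pairIdx : Finset ((Fin 24 × Fin 24) × (Bool × Bool)) :=
  (Finset.univ.filter (fun p : Fin 24 × Fin 24 => p.1 < p.2)) ×ˢ Finset.univ

theorem card_pairIdx : pairIdx.card = 1104 := by
  unfold pairIdx
  rw [Finset.card_product]
  have h1 : (Finset.univ.filter (fun p : Fin 24 × Fin 24 => p.1 < p.2)).card = 276 := by
    decide +kernel
  rw [h1]
  rfl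

/-- a vector with entries in `{-1, 0, 1}` and sum of squares `2` is `± u_i ± u_j` -/
theorem exists_pair_of_ssq_two (z : Fin 24 → ℤ) (hz : ∑ i, z i ^ 2 = 2) :
    ∃ i j : Fin 24, i < j ∧ (z i = 1 ∨ z i = -1) ∧ (z j = 1 ∨ z j = -1) ∧
      ∀ k, k ≠ i → k ≠ j → z k = 0 := by
  classical
  have hle : ∀ i, z i ^ 2 ≤ 2 := by
    intro i
    rw [← hz]
    exact Finset.single_le_sum (f := fun i => z i ^ 2) (fun j _ => sq_nonneg (z j))
      (Finset.mem_univ i)
  have hcases : ∀ i, z i = 0 ∨ z i = 1 ∨ z i = -1 := by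
    intro i
    have h := hle i
    have h1 : -1 ≤ z i := by nlinarith
    have h2 : z i ≤ 1 := by nlinarith
    omega
  have hsq : ∀ i, z i ^ 2 = if z i ≠ 0 then 1 else 0 := by
    intro i
    rcases hcases i with h | h | h <;> rw [h] <;> simp
  have hcard : (Finset.univ.filter (fun i => z i ≠ 0)).card = 2 := by
    have h1 : ∑ i, z i ^ 2 = ((Finset.univ.filter (fun i => z i ≠ 0)).card : ℤ) := by
      rw [Finset.sum_congr rfl (fun i _ => hsq i), Finset.sum_boole]
    rw [hz] at h1
    exact_mod_cast h1.symm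
  obtain ⟨a, b, hab, hs⟩ := Finset.card_eq_two.mp hcard
  have hmem : ∀ k, z k ≠ 0 ↔ k = a ∨ k = b := by
    intro k
    have : k ∈ Finset.univ.filter (fun i => z i ≠ 0) ↔ k ∈ ({a, b} : Finset (Fin 24)) := by rw [hs]
    simpa using this
  have hnz : ∀ k, z k ≠ 0 → (z k = 1 ∨ z k = -1) := by
    intro k hk
    rcases hcases k with h | h | h
    · exact absurd h hk
    · exact Or.inl h
    · exact Or.inr h
  have ha : z a ≠ 0 := (hmem a).mpr (Or.inl rfl)
  have hb : z b ≠ 0 := (hmem b).mpr (Or.inr rfl)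
  rcases lt_or_gt_of_ne hab with h | h
  · refine ⟨a, b, h, hnz a ha, hnz b hb, ?_⟩
    intro k hka hkb
    by_contra hk
    rcases (hmem k).mp hk with h' | h'
    · exact hka h'
    · exact hkb h'
  · refine ⟨b, a, h, hnz b hb, hnz a ha, ?_⟩
    intro k hkb hka
    by_contra hk
    rcases (hmem k).mp hk with h' | h'
    · exact hka h'
    · exact hkb h'

theorem card_div4_min_le :
    {v : Fin 24 → ℤ | ssq v = 32 ∧ ∀ i, (4 : ℤ) ∣ v i}.ncard ≤ 1104 := by
  classical
  have hsub : {v : Fin 24 → ℤ | ssq v = 32 ∧ ∀ i, (4 : ℤ) ∣ v i} ⊆ pairVec '' (↑pairIdx : Set ((Fin 24 × Fin 24) × (Bool × Bool))) := by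
    rintro v ⟨hv, hdiv⟩
    choose z hz using hdiv
    have hz2 : ∑ i, z i ^ 2 = 2 := by
      unfold ssq at hv
      have h1 : ∑ i, v i ^ 2 = 16 * ∑ i, z i ^ 2 := by
        rw [Finset.mul_sum]
        apply Finset.sum_congr rfl
        intro i _
        rw [hz i]; ring
      rw [h1] at hv
      omega
    obtain ⟨i, j, hij, hi, hj, hrest⟩ := exists_pair_of_ssq_two z hz2
    refine ⟨((i, j), (decide (z i = 1), decide (z j = 1))), ?_, ?_⟩
    · show ((i, j), (decide (z i = 1), decide (z j = 1))) ∈ pairIdx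
      unfold pairIdx
      simp [hij]
    · funext k
      unfold pairVec
      simp only [Pi.add_apply, Pi.single_apply]
      have hne : i ≠ j := ne_of_lt hij
      by_cases hki : k = i
      · subst hki
        rw [if_pos rfl, if_neg hne, add_zero, hz k]
        rcases hi with h | h <;> rw [h] <;> simp
      · by_cases hkj : k = j
        · subst hkj
          rw [if_neg hki, if_pos rfl, zero_add, hz k]
          rcases hj with h | h <;> rw [h] <;> simp
        · rw [if_neg hki, if_neg hkj, hz k, hrest k hki hkj]; simp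
  have hfin : (pairVec '' (↑pairIdx : Set ((Fin 24 × Fin 24) × (Bool × Bool)))).Finite := pairIdx.finite_toSet.image pairVec
  calc {v : Fin 24 → ℤ | ssq v = 32 ∧ ∀ i, (4 : ℤ) ∣ v i}.ncard
      ≤ (pairVec '' (↑pairIdx : Set ((Fin 24 × Fin 24) × (Bool × Bool)))).ncard := Set.ncard_le_ncard hsub hfin
    _ ≤ (↑pairIdx : Set ((Fin 24 × Fin 24) × (Bool × Bool))).ncard := Set.ncard_image_le pairIdx.finite_toSet
    _ = pairIdx.card := Set.ncard_coe_finset pairIdx
    _ = 1104 := card_pairIdx

end Cfsg.Agent.Lib.Helper18.LC
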