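import Mathlib
import Cfsg.Agent.Lib.Helper74.MinIdxDefs

/-!
# K-S2140-K6: basic facts on the group `Qst v` of transvections with centre `v`
-/

set_option autoImplicit false

namespace Cfsg.Agent.Lib.Helper18.MinIdx

open Matrix Cfsg.Agent.Lib.Helper74.MinIdx

variable {ι : Type*} [Fintype ι] [DecidableEq ι] {F : Type*} [Field F]

/-- K6f: injectivity of `φ ↦ tv v φ`. -/
theorem K6_tv_inj (v : ι → F) (hv : v ≠ 0) (φ ψ : ι → F) (h : φ ⬝ᵥ v = 0) (h' : ψ ⬝ᵥ v = 0)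
    (he : tv v φ h = tv v ψ h') : φ = ψ := by
  have h1 : tvM v φ = tvM v ψ := congrArg Subtype.val he
  have h2 : vecMulVec v φ = vecMulVec v ψ := by
    unfold tvM at h1
    exact add_left_cancel h1
  obtain ⟨i, hi⟩ : ∃ i, v i ≠ 0 := by
    by_contra hcon
    push Not at hcon
    exact hv (funext hcon)
  funext j
  have h3 := congrFun (congrFun h2 i) j
  rw [vecMulVec_apply, vecMulVec_apply] at h3
  exact mul_left_cancel₀ hi h3

/-- K6b -/
theorem K6_comm (v : ι → F) : ∀ x ∈ Qst v, ∀ y ∈ Qst v, x * y = y * x := by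
  rintro x ⟨φ, h, rfl⟩ y ⟨ψ, h', rfl⟩
  rw [tv_mul_tv, tv_mul_tv]
  apply Subtype.ext
  simp only [coe_tv]
  rw [add_comm]

/-- K6c -/
theorem K6_isTv (v : ι → F) (hv : v ≠ 0) : ∀ x ∈ Qst v, x ≠ 1 → IsTv x := by
  rintro x ⟨φ, h, rfl⟩ hx
  refine ⟨v, φ, h, hv, ?_, rfl⟩
  rintro rfl
  exact hx (tv_zero_right v)

/-- K6e -/
theorem K6_le (v : ι → F) : Qst v ≤ Pst v := by
  rintro x ⟨φ, h, rfl⟩
  refine ⟨1, ?_⟩
  rw [coe_tv, tvM_mulVec, h, zero_smul, add_zero, Units.val_one, one_smul]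

/-- K6d -/
theorem K6_normal (v : ι → F) : ∀ a ∈ Pst v, ∀ t ∈ Qst v, a * t * a⁻¹ ∈ Qst v := by
  rintro a ⟨c, hc⟩ t ⟨φ, h, rfl⟩
  have h' : (φ ᵥ* ((a⁻¹ : SpecialLinearGroup ι F) : Matrix ι ι F)) ⬝ᵥ
      ((a : Matrix ι ι F) *ᵥ v) = 0 := by rw [conj_dot, h]
  rw [conj_tv a v φ h h']
  have h'' : ((c : F) • (φ ᵥ* ((a⁻¹ : SpecialLinearGroup ι F) : Matrix ι ι F))) ⬝ᵥ v = 0 := by
    have := h'
    rw [hc, dotProduct_smul] at this
    rw [smul_dotProduct]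
    exact this
  refine ⟨(c : F) • (φ ᵥ* ((a⁻¹ : SpecialLinearGroup ι F) : Matrix ι ι F)), h'', ?_⟩
  apply Subtype.ext
  simp only [coe_tv]
  rw [hc, tvM_smul_left]

/-- the functional `φ ↦ φ ⬝ᵥ v`. -/
def dotL (v : ι → F) : (ι → F) →ₗ[F] F where
  toFun φ := φ ⬝ᵥ v
  map_add' φ ψ := add_dotProduct φ ψ v
  map_smul' c φ := by simp [smul_dotProduct]

omit [DecidableEq ι] in
theorem dotL_apply (v φ : ι → F) : dotL v φ = φ ⬝ᵥ v := rfl

theorem dotL_surjective (v : ι → F) (hv : v ≠ 0) : Function.Surjective (dotL v) := by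
  obtain ⟨i, hi⟩ : ∃ i, v i ≠ 0 := by
    by_contra hcon
    push Not at hcon
    exact hv (funext hcon)
  intro c
  refine ⟨Pi.single i (c / v i), ?_⟩
  rw [dotL_apply, single_dotProduct, div_mul_cancel₀ _ hi]

/-- the bijection between the kernel of `dotL v` and `Qst v`. -/
noncomputable def kerEquivQst (v : ι → F) (hv : v ≠ 0) : LinearMap.ker (dotL v) ≃ Qst v :=
  Equiv.ofBijective
    (fun φ => ⟨tv v φ.1 (LinearMap.mem_ker.1 φ.2), tv_mem_Qst v φ.1 _⟩)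
    ⟨by
      intro φ ψ hφψ
      apply Subtype.ext
      exact K6_tv_inj v hv φ.1 ψ.1 (LinearMap.mem_ker.1 φ.2) (LinearMap.mem_ker.1 ψ.2)
        (congrArg Subtype.val hφψ),
     by
      rintro ⟨x, φ, h, rfl⟩
      exact ⟨⟨φ, LinearMap.mem_ker.2 h⟩, rfl⟩⟩

/-- K6a -/
theorem K6_card_Qst [Fintype F] (v : ι → F) (hv : v ≠ 0) :
    Nat.card (Qst v) = Fintype.card F ^ (Fintype.card ι - 1) := by
  rw [← Nat.card_congr (kerEquivQst v hv)]
  have h1 : Module.finrank F (LinearMap.ker (dotL v)) = Fintype.card ι - 1 := by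
    have h2 := LinearMap.finrank_range_add_finrank_ker (dotL v)
    rw [LinearMap.range_eq_top.2 (dotL_surjective v hv), finrank_top, Module.finrank_self,
      Module.finrank_fintype_fun_eq_card] at h2
    omega
  rw [Module.natCard_eq_pow_finrank (K := F), h1, Nat.card_eq_fintype_card]

end Cfsg.Agent.Lib.Helper18.MinIdx
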