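import Mathlib
import Cfsg.Agent.Lib.Helper49.OElDefs
import Cfsg.Agent.Lib.Helper43.AltForm

set_option autoImplicit false
set_option linter.unusedSectionVars false
set_option linter.unusedVariables false
set_option linter.style.longLine false

/-! Keystone K-OEl-U (598819, architect helper49): an isometry `g` with `range (g - 1) ≤ R0 ≤ ker (g - 1)`, `R0` totally
singular of codimension at most two in the kernel: every invariant nondegenerate `W` with `4 ∣ dim W` is of plus type. -/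

namespace Cfsg.Agent.Lib.Helper18.OEl

open Module Cfsg.Agent.Lib.Helper98.Elus Cfsg.Agent.Lib.Helper98.Sy Cfsg.Agent.Lib.Helper38.OhP
  Cfsg.Agent.Lib.Helper49.OEl

universe u
variable {F : Type u} [Field F] {V : Type u} [AddCommGroup V] [Module F V]

/-- subspaces of every smaller dimension -/
theorem exists_le_finrank_eq_u [FiniteDimensional F V] (E : Submodule F V) {k : ℕ}
    (hk : k ≤ finrank F E) : ∃ U : Submodule F V, U ≤ E ∧ finrank F U = k := by
  obtain ⟨b, hb⟩ : ∃ b : Basis (Fin (finrank F E)) F E, b = Module.finBasis F E := ⟨_, rfl⟩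
  have hli : LinearIndependent F (fun i : Fin k => b (Fin.castLE hk i)) :=
    b.linearIndependent.comp _ (Fin.castLE_injective hk)
  refine ⟨(Submodule.span F (Set.range (fun i : Fin k => b (Fin.castLE hk i)))).map E.subtype,
    ?_, ?_⟩
  · rintro _ ⟨x, -, rfl⟩
    exact x.2
  · rw [Submodule.finrank_map_subtype_eq, finrank_span_eq_card hli, Fintype.card_fin]

theorem plusQ_of_a_invol [CharP F 2] [FiniteDimensional F V] (Q : QuadraticForm F V)
    (g : V →ₗ[F] V) (hg : g * g = 1) (hiso : QIso Q g) (R0 : Submodule F V) (hR0 : ∀ v ∈ R0, Q v = 0)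
    (hR : ∀ v, (g - 1) v ∈ R0) (hRK : R0 ≤ LinearMap.ker (g - 1))
    (hK : finrank F (LinearMap.ker (g - 1)) ≤ finrank F R0 + 2)
    (W : Submodule F V) (hW : Inv g W) (hWnd : NonDeg (pB Q) W) (h4 : 4 ∣ finrank F W) : PlusQ Q W := by
  obtain ⟨N, hN⟩ : ∃ N : V →ₗ[F] V, N = g - 1 := ⟨_, rfl⟩
  rw [← hN] at hR hRK hK
  have hgN : ∀ u, g u = u + N u := by
    intro u; rw [hN, LinearMap.sub_apply, Module.End.one_apply]; abel
  have hpN : ∀ u, pB Q u (N u) = 0 := by
    intro u
    rw [pB_apply, ← hgN, hiso u, hR0 _ (hR u)]; ring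
  have hNW : ∀ w ∈ W, N w ∈ W := by
    intro w hw; rw [hN, LinearMap.sub_apply, Module.End.one_apply]; exact W.sub_mem (hW w hw) hw
  -- the alternating form `β u v = pB u (N v)` on `W`
  obtain ⟨β, hβ⟩ : ∃ β : LinearMap.BilinForm F W, β = LinearMap.BilinForm.restrict (LinearMap.compl₂ (pB Q) N) W := ⟨_, rfl⟩
  have hβapp : ∀ a b : W, β a b = pB Q (a : V) (N (b : V)) := by
    intro a b; rw [hβ]; rfl
  have hβalt : β.IsAlt := by intro a; rw [hβapp]; exact hpN a
  obtain ⟨NW, hNWdef⟩ : ∃ NW : W →ₗ[F] V, NW = N ∘ₗ W.subtype := ⟨_, rfl⟩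
  have hNWapp : ∀ a : W, NW a = N (a : V) := by intro a; rw [hNWdef]; rfl
  have hker : LinearMap.ker β = LinearMap.ker NW := by
    ext a
    rw [LinearMap.mem_ker, LinearMap.mem_ker, hNWapp]
    constructor
    · intro h
      apply hWnd (N a) (hNW a a.2)
      intro v hv
      have h1 : β a ⟨v, hv⟩ = 0 := by rw [h]; rfl
      have h2 := hβalt.neg_eq ⟨v, hv⟩ a
      rw [h1, hβapp] at h2
      rw [pB_symm]; exact neg_eq_zero.mp h2
    · intro h
      apply LinearMap.ext; intro b
      have h2 := hβalt.neg_eq b a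
      rw [← h2, hβapp, h, map_zero, neg_zero]; rfl
  have heven := Cfsg.Agent.Lib.Helper43.even_finrank_sub_finrank_ker_of_isAlt β hβalt
  rw [hker] at heven
  have hrn := LinearMap.finrank_range_add_finrank_ker NW
  -- `S := W ⊓ R0`
  have hρS : finrank F (LinearMap.range NW) ≤ finrank F ↥(W ⊓ R0) := by
    apply Submodule.finrank_mono
    rintro _ ⟨a, rfl⟩
    rw [hNWapp]
    exact ⟨hNW a a.2, hR a⟩
  have hK'fin : finrank F ↥((LinearMap.ker NW).map W.subtype) = finrank F (LinearMap.ker NW) :=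
    Submodule.finrank_map_subtype_eq W (LinearMap.ker NW)
  have hK'W : (LinearMap.ker NW).map W.subtype ≤ W := by
    rintro _ ⟨x, -, rfl⟩
    exact x.2
  have hK'N : (LinearMap.ker NW).map W.subtype ≤ LinearMap.ker N := by
    rintro _ ⟨x, hx, rfl⟩
    rw [LinearMap.mem_ker]
    have := LinearMap.mem_ker.mp hx
    rwa [hNWapp] at this
  have hsupinf := Submodule.finrank_sup_add_finrank_inf_eq ((LinearMap.ker NW).map W.subtype) R0
  have hsup : finrank F ↥((LinearMap.ker NW).map W.subtype ⊔ R0) ≤ finrank F (LinearMap.ker N) :=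
    Submodule.finrank_mono (sup_le hK'N hRK)
  have hinf : finrank F ↥((LinearMap.ker NW).map W.subtype ⊓ R0) ≤ finrank F ↥(W ⊓ R0) :=
    Submodule.finrank_mono (inf_le_inf_right R0 hK'W)
  obtain ⟨t, ht⟩ := h4
  obtain ⟨r, hr⟩ := heven
  have hS : 2 * t ≤ finrank F ↥(W ⊓ R0) := by omega
  obtain ⟨U, hUS, hUd⟩ := exists_le_finrank_eq_u (W ⊓ R0) hS
  refine ⟨U, fun u hu => (hUS hu).1, fun u hu => hR0 u (hUS hu).2, ?_⟩
  rw [hUd, ht]; ring
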