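import Mathlib
import Cfsg.Agent.Lib.Helper49.OInvDefs
import Cfsg.Agent.Lib.Helper43.OrthModels
import Cfsg.Agent.Lib.Helper43.OmegaSimple2

/-!
# K-OInv-2 (keystone 268303, architect helper49)

`|pointwise stabiliser in O⁺_{2m}(q) of span(v)| * #QFrame(c) = |O⁺_{2m}(q)|` (orbit-stabiliser and Witt).
-/

set_option autoImplicit false
set_option linter.unusedSectionVars false

namespace Cfsg.Agent.Lib.Helper18.OInv

open Matrix Cfsg.Agent.Lib.Helper49.SpInv Cfsg.Agent.Lib.Helper49.OInv Cfsg.Agent.Lib.Helper43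

variable {F : Type*} [Field F]

/-- the value of a quadratic form on a combination of pairwise orthogonal vectors. -/
theorem map_sum_of_polar_zero {M : Type*} [AddCommGroup M] [Module F M] (Q : QuadraticForm F M) {n : ℕ}
    (w : Fin n → M) (hw : ∀ i j, QuadraticMap.polar Q (w i) (w j) = 0) (a : Fin n → F) :
    Q (∑ i, a i • w i) = ∑ i, a i * a i * Q (w i) := by
  classical
  have key : ∀ s : Finset (Fin n), Q (∑ i ∈ s, a i • w i) = ∑ i ∈ s, a i * a i * Q (w i) := by
    intro s
    induction s using Finset.induction_on with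
    | empty => simp
    | insert j s hj ih =>
      rw [Finset.sum_insert hj, Finset.sum_insert hj, QuadraticMap.map_add Q, ih, QuadraticMap.map_smul]
      have h0 : QuadraticMap.polar Q (a j • w j) (∑ i ∈ s, a i • w i) = 0 := by
        rw [← QuadraticMap.polarBilin_apply_apply, map_sum]
        apply Finset.sum_eq_zero
        intro i _
        rw [QuadraticMap.polarBilin_apply_apply, QuadraticMap.polar_smul_left, QuadraticMap.polar_smul_right, hw,
          smul_zero, smul_zero]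
      rw [h0, add_zero, smul_eq_mul]
  exact key Finset.univ

theorem isom_apply {m : ℕ} (g : Cfsg.isometryGroup F (Cfsg.quadFormPlus m F)) (u : Fin m ⊕ Fin m → F) :
    Cfsg.quadFormPlus m F (((g : Matrix.GeneralLinearGroup (Fin m ⊕ Fin m) F) :
      Matrix (Fin m ⊕ Fin m) (Fin m ⊕ Fin m) F) *ᵥ u) = Cfsg.quadFormPlus m F u :=
  g.2 u u

theorem isom_polar {m : ℕ} (g : Cfsg.isometryGroup F (Cfsg.quadFormPlus m F)) (u w : Fin m ⊕ Fin m → F) :
    QuadraticMap.polar (Cfsg.quadFormPlus m F) (((g : Matrix.GeneralLinearGroup (Fin m ⊕ Fin m) F) :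
      Matrix (Fin m ⊕ Fin m) (Fin m ⊕ Fin m) F) *ᵥ u) (((g : Matrix.GeneralLinearGroup (Fin m ⊕ Fin m) F) :
      Matrix (Fin m ⊕ Fin m) (Fin m ⊕ Fin m) F) *ᵥ w) = QuadraticMap.polar (Cfsg.quadFormPlus m F) u w := by
  unfold QuadraticMap.polar
  rw [← Matrix.mulVec_add, isom_apply, isom_apply, isom_apply]

theorem mulVec_injective_of_isom {m : ℕ} (g : Cfsg.isometryGroup F (Cfsg.quadFormPlus m F)) :
    Function.Injective fun v : Fin m ⊕ Fin m → F =>
      ((g : Matrix.GeneralLinearGroup (Fin m ⊕ Fin m) F) : Matrix (Fin m ⊕ Fin m) (Fin m ⊕ Fin m) F) *ᵥ v := by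
  intro u v huv
  have h2 : ∀ w : Fin m ⊕ Fin m → F,
      (((g : Matrix.GeneralLinearGroup (Fin m ⊕ Fin m) F)⁻¹ : Matrix.GeneralLinearGroup (Fin m ⊕ Fin m) F) :
        Matrix (Fin m ⊕ Fin m) (Fin m ⊕ Fin m) F) *ᵥ
        (((g : Matrix.GeneralLinearGroup (Fin m ⊕ Fin m) F) : Matrix (Fin m ⊕ Fin m) (Fin m ⊕ Fin m) F) *ᵥ w) = w := by
    intro w
    rw [mulVec_mulVec, ← Units.val_mul, inv_mul_cancel, Units.val_one, one_mulVec]
  have h4 := congrArg (fun w =>
    (((g : Matrix.GeneralLinearGroup (Fin m ⊕ Fin m) F)⁻¹ : Matrix.GeneralLinearGroup (Fin m ⊕ Fin m) F) :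
        Matrix (Fin m ⊕ Fin m) (Fin m ⊕ Fin m) F) *ᵥ w) huv
  simp only [h2] at h4
  exact h4

/-- The action of the orthogonal group on frames. -/
@[instance_reducible]
noncomputable def frameAction (m : ℕ) {n : ℕ} (c : Fin n → F) :
    MulAction (Cfsg.isometryGroup F (Cfsg.quadFormPlus m F)) (QFrame m F c) where
  smul g v := ⟨fun i => ((g : Matrix.GeneralLinearGroup (Fin m ⊕ Fin m) F) :
      Matrix (Fin m ⊕ Fin m) (Fin m ⊕ Fin m) F) *ᵥ v.1 i, by
    refine ⟨?_, fun i => ?_, fun i j => ?_⟩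
    · have h1 : LinearIndependent F
          ((Matrix.mulVecLin ((g : Matrix.GeneralLinearGroup (Fin m ⊕ Fin m) F) :
            Matrix (Fin m ⊕ Fin m) (Fin m ⊕ Fin m) F)) ∘ v.1) := by
        apply v.2.1.map'
        rw [LinearMap.ker_eq_bot]
        intro a b hab
        exact mulVec_injective_of_isom g (by simpa using hab)
      exact h1
    · rw [isom_apply]
      exact v.2.2.1 i
    · rw [isom_polar]
      exact v.2.2.2 i j⟩
  one_smul v := by
    apply Subtype.ext
    funext i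
    show (((1 : Cfsg.isometryGroup F (Cfsg.quadFormPlus m F)) : Matrix.GeneralLinearGroup (Fin m ⊕ Fin m) F) :
      Matrix (Fin m ⊕ Fin m) (Fin m ⊕ Fin m) F) *ᵥ v.1 i = v.1 i
    rw [Subgroup.coe_one, Units.val_one, one_mulVec]
  mul_smul g h v := by
    apply Subtype.ext
    funext i
    show (((g * h : Cfsg.isometryGroup F (Cfsg.quadFormPlus m F)) : Matrix.GeneralLinearGroup (Fin m ⊕ Fin m) F) :
        Matrix (Fin m ⊕ Fin m) (Fin m ⊕ Fin m) F) *ᵥ v.1 i =
      ((g : Matrix.GeneralLinearGroup (Fin m ⊕ Fin m) F) : Matrix (Fin m ⊕ Fin m) (Fin m ⊕ Fin m) F) *ᵥ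
        (((h : Matrix.GeneralLinearGroup (Fin m ⊕ Fin m) F) : Matrix (Fin m ⊕ Fin m) (Fin m ⊕ Fin m) F) *ᵥ v.1 i)
    rw [mulVec_mulVec, Subgroup.coe_mul, Units.val_mul]

/-- Witt: the orthogonal group is transitive on frames with prescribed values. -/
theorem exists_isom_map_frame [Fintype F] {m n : ℕ} (c : Fin n → F) (v v' : QFrame m F c) :
    ∃ g : Cfsg.isometryGroup F (Cfsg.quadFormPlus m F), ∀ i,
      ((g : Matrix.GeneralLinearGroup (Fin m ⊕ Fin m) F) : Matrix (Fin m ⊕ Fin m) (Fin m ⊕ Fin m) F) *ᵥ v.1 i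
        = v'.1 i := by
  classical
  set Q := qfPlus m F with hQ
  have hQv : ∀ i, Q (v.1 i) = c i := v.2.2.1
  have hQv' : ∀ i, Q (v'.1 i) = c i := v'.2.2.1
  have hpv : ∀ i j, QuadraticMap.polar Q (v.1 i) (v.1 j) = 0 := v.2.2.2
  have hpv' : ∀ i j, QuadraticMap.polar Q (v'.1 i) (v'.1 j) = 0 := v'.2.2.2
  set U := Submodule.span F (Set.range v.1) with hU
  let b : Module.Basis (Fin n) F U := Module.Basis.span v.2.1
  have hb : ∀ i, ((b i : U) : Fin m ⊕ Fin m → F) = v.1 i := fun i => congrArg Subtype.val (Module.Basis.span_apply v.2.1 i)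
  let f₀ : U →ₗ[F] (Fin m ⊕ Fin m → F) := b.constr F v'.1
  have hf₀ : ∀ i, f₀ (b i) = v'.1 i := fun i => b.constr_basis F v'.1 i
  obtain ⟨f, hf⟩ := LinearMap.exists_extend f₀
  have hfu : ∀ u : U, f (u : Fin m ⊕ Fin m → F) = ∑ i, b.repr u i • v'.1 i := by
    intro u
    have h1 : f (u : Fin m ⊕ Fin m → F) = f₀ u := by
      rw [← hf]
      rfl
    rw [h1]
    conv_lhs => rw [← b.sum_repr u]
    rw [map_sum]
    refine Finset.sum_congr rfl fun i _ => ?_
    rw [map_smul, hf₀]
  have huu : ∀ u : U, (u : Fin m ⊕ Fin m → F) = ∑ i, b.repr u i • v.1 i := by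
    intro u
    conv_lhs => rw [← b.sum_repr u]
    rw [Submodule.coe_sum]
    refine Finset.sum_congr rfl fun i _ => ?_
    rw [Submodule.coe_smul, hb]
  obtain ⟨g, hg⟩ := witt_O Q (qfPlus_nondegenerate m F) U f (by
      intro u hu
      have hu' : u = ∑ i, b.repr ⟨u, hu⟩ i • v.1 i := huu ⟨u, hu⟩
      rw [hfu ⟨u, hu⟩, map_sum_of_polar_zero Q v'.1 hpv']
      conv_rhs => rw [hu', map_sum_of_polar_zero Q v.1 hpv]
      refine Finset.sum_congr rfl fun i _ => ?_
      rw [hQv, hQv']) (by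
      intro u hu h0
      rw [hfu ⟨u, hu⟩] at h0
      have h1 := Fintype.linearIndependent_iff.mp v'.2.1 _ h0
      have h2 : (⟨u, hu⟩ : U) = 0 := by
        apply b.repr.injective
        ext i
        rw [h1 i]
        simp
      exact congrArg Subtype.val h2)
  refine ⟨g, fun i => ?_⟩
  have h1 := hg (v.1 i) (Submodule.subset_span ⟨i, rfl⟩)
  rw [linOf_apply] at h1
  rw [h1]
  have h2 := hfu (b i)
  rw [hb] at h2
  rw [h2]
  simp [Finsupp.single_apply]

/-- **K-OInv-2**. -/
theorem card_oPwStab_mul [Fintype F] [CharP F 2] {m n : ℕ} (c : Fin n → F) (v : QFrame m F c) :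
    Nat.card (OPwStab (Submodule.span F (Set.range v.1))) * Nat.card (QFrame m F c) =
      Nat.card (Cfsg.isometryGroup F (Cfsg.quadFormPlus m F)) := by
  classical
  let _ : MulAction (Cfsg.isometryGroup F (Cfsg.quadFormPlus m F)) (QFrame m F c) := frameAction m c
  have horb : ∀ v' : QFrame m F c, v' ∈ MulAction.orbit (Cfsg.isometryGroup F (Cfsg.quadFormPlus m F)) v := by
    intro v'
    obtain ⟨g, hg⟩ := exists_isom_map_frame c v v'
    refine ⟨g, ?_⟩
    apply Subtype.ext
    funext i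
    exact hg i
  have horbcard : Nat.card (MulAction.orbit (Cfsg.isometryGroup F (Cfsg.quadFormPlus m F)) v) =
      Nat.card (QFrame m F c) := by
    apply Nat.card_congr
    exact (Equiv.subtypeUnivEquiv horb)
  have hstab : Nat.card (MulAction.stabilizer (Cfsg.isometryGroup F (Cfsg.quadFormPlus m F)) v) =
      Nat.card (OPwStab (Submodule.span F (Set.range v.1))) := by
    apply Nat.card_congr
    unfold OPwStab
    refine Equiv.subtypeEquivRight fun g => ?_
    rw [MulAction.mem_stabilizer_iff]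
    constructor
    · intro hg w hw
      have h1 : ∀ i, ((g : Matrix.GeneralLinearGroup (Fin m ⊕ Fin m) F) :
          Matrix (Fin m ⊕ Fin m) (Fin m ⊕ Fin m) F) *ᵥ v.1 i = v.1 i := by
        intro i
        have h2 := congrArg (fun v : QFrame m F c => v.1 i) hg
        exact h2
      induction hw using Submodule.span_induction with
      | mem x hx =>
        obtain ⟨i, rfl⟩ := hx
        exact h1 i
      | zero => rw [mulVec_zero]
      | add x y _ _ hx hy => rw [mulVec_add, hx, hy]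
      | smul a x _ hx => rw [mulVec_smul, hx]
    · intro hg
      apply Subtype.ext
      funext i
      exact hg _ (Submodule.subset_span ⟨i, rfl⟩)
  have key := Nat.card_congr
    (MulAction.orbitProdStabilizerEquivGroup (Cfsg.isometryGroup F (Cfsg.quadFormPlus m F)) v)
  rw [Nat.card_prod, horbcard, hstab] at key
  rw [mul_comm]
  exact key

end Cfsg.Agent.Lib.Helper18.OInv
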