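import Mathlib

/-!
# K-OTF-ARITH (399913, S3999): six is not a product of prime powers congruent to one mod five
-/

set_option autoImplicit false

namespace Cfsg.Agent.Lib.Helper18.OTF

theorem not_isPrimePow_six : ¬ IsPrimePow 6 := by
  intro h
  have h1 := (isPrimePow_iff_card_primeFactors_eq_one).1 h
  have h2 : (6 : ℕ).primeFactors = {2, 3} := by
    have : (6 : ℕ) = 2 * 3 := by norm_num
    rw [this, Nat.primeFactors_mul (by norm_num) (by norm_num),
      Nat.Prime.primeFactors Nat.prime_two, Nat.Prime.primeFactors Nat.prime_three]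
    rfl
  rw [h2] at h1
  simp at h1

/-- LEAF ARITH. -/
theorem six_not_hall_product (l : List ℕ) (hl : l.prod = 6)
    (h : ∀ m ∈ l, IsPrimePow m ∧ m % 5 = 1) : False := by
  rcases l with _ | ⟨a, t⟩
  · simp at hl
  · obtain ⟨hpp, hmod⟩ := h a (by simp)
    have hd : a ∣ 6 := by
      rw [← hl]
      exact List.dvd_prod (by simp)
    have hle : a ≤ 6 := Nat.le_of_dvd (by norm_num) hd
    interval_cases a
    · omega
    · exact not_isPrimePow_one hpp
    · omega
    · omega
    · omega
    · omega
    · exact not_isPrimePow_six hpp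

end Cfsg.Agent.Lib.Helper18.OTF
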