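import Mathlib

/-!
# K-S4472-2: the index-`p` wreath bound for the normal core
-/

set_option autoImplicit false

namespace Cfsg.Agent.Lib.Helper18.PSL

universe u

/-- the index of an intersection with a normal subgroup divides the product of the indices. -/
theorem index_inf_dvd {G : Type*} [Group G] (A B : Subgroup G) [A.Normal] :
    (A ⊓ B).index ∣ A.index * B.index := by
  rw [← Subgroup.relIndex_mul_index (inf_le_right : A ⊓ B ≤ B), Subgroup.inf_relIndex_right]
  exact Nat.mul_dvd_mul_right (Subgroup.relIndex_dvd_index_of_normal A B) _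

/-- the index of a finite intersection of normal subgroups divides the product of the indices. -/
theorem index_iInf_dvd {G : Type*} [Group G] {ι : Type*} (s : Finset ι) (N : ι → Subgroup G)
    (hN : ∀ i, (N i).Normal) : (⨅ i ∈ s, N i).index ∣ ∏ i ∈ s, (N i).index := by
  classical
  induction s using Finset.induction_on with
  | empty => simp
  | insert a s ha ih =>
    rw [Finset.iInf_insert, Finset.prod_insert ha]
    have := hN a
    exact (index_inf_dvd (N a) (⨅ i ∈ s, N i)).trans (Nat.mul_dvd_mul_left _ ih)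

/-- K-S4472-2. -/
theorem index_normalCore_le {X : Type u} [Group X] [Finite X] (p : ℕ) [Fact p.Prime] (M : Subgroup X)
    [M.Normal] (hM : M.index = p) (C₁ : Subgroup X) (hC₁M : C₁ ≤ M)
    (hnorm : ∀ m ∈ M, ∀ c ∈ C₁, m * c * m⁻¹ ∈ C₁) :
    (C₁.normalCore.index).factorization p ≤ 1 + p * ((C₁.relIndex M).factorization p) := by
  classical
  have hp : p.Prime := Fact.out
  have : Fintype (X ⧸ M) := Fintype.ofFinite _
  -- `C'` : the subgroup `C₁` inside `M`
  set C' : Subgroup M := C₁.subgroupOf M with hC'
  have hC'n : C'.Normal := by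
    constructor
    intro c hc m
    rw [hC', Subgroup.mem_subgroupOf] at hc ⊢
    simpa using hnorm m m.2 c hc
  -- the conjugates
  let N : X ⧸ M → Subgroup M := fun q => C'.map (MulAut.conjNormal (Quotient.out q)).toMonoidHom
  have hNn : ∀ q, (N q).Normal := fun q =>
    Subgroup.Normal.map hC'n _ (MulAut.conjNormal (Quotient.out q)).surjective
  have hNi : ∀ q, (N q).index = C₁.relIndex M := fun q =>
    Subgroup.index_map_equiv C' (MulAut.conjNormal (Quotient.out q))
  have hmemN : ∀ (q : X ⧸ M) (m : M), m ∈ N q ↔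
      (Quotient.out q)⁻¹ * (m : X) * Quotient.out q ∈ C₁ := by
    intro q m
    show m ∈ C'.map (MulAut.conjNormal (Quotient.out q)).toMonoidHom ↔ _
    rw [Subgroup.mem_map_equiv, hC', Subgroup.mem_subgroupOf, MulAut.conjNormal_symm_apply]
  -- the core inside `M`
  have hcore : C₁.normalCore.subgroupOf M = ⨅ q ∈ (Finset.univ : Finset (X ⧸ M)), N q := by
    ext m
    rw [Subgroup.mem_subgroupOf]
    simp only [Subgroup.mem_iInf, Finset.mem_univ, true_implies, hmemN]
    constructor
    · intro h q
      have := h (Quotient.out q)⁻¹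
      rwa [inv_inv] at this
    · intro h b
      obtain ⟨n, hn⟩ := QuotientGroup.mk_out_eq_mul M b⁻¹
      have h1 := h ((b⁻¹ : X) : X ⧸ M)
      rw [hn] at h1
      have h2 := hnorm n n.2 _ h1
      have e : (n : X) * ((b⁻¹ * (n : X))⁻¹ * (m : X) * (b⁻¹ * (n : X))) * (n : X)⁻¹ =
          b * (m : X) * b⁻¹ := by group
      rwa [e] at h2
  have hdvd : (C₁.normalCore.subgroupOf M).index ∣ (C₁.relIndex M) ^ p := by
    rw [hcore]
    have h1 := index_iInf_dvd (Finset.univ : Finset (X ⧸ M)) N hNn
    simp only [hNi, Finset.prod_const, Finset.card_univ] at h1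
    have hcard : Fintype.card (X ⧸ M) = p := by
      rw [← Nat.card_eq_fintype_card, ← Subgroup.index_eq_card, hM]
    rwa [hcard] at h1
  have hle : C₁.normalCore ≤ M := (Subgroup.normalCore_le C₁).trans hC₁M
  have hidx : C₁.normalCore.index = (C₁.normalCore.subgroupOf M).index * p := by
    rw [← hM]
    exact (Subgroup.relIndex_mul_index hle).symm
  have hne1 : (C₁.normalCore.subgroupOf M).index ≠ 0 := Subgroup.index_ne_zero_of_finite
  have hne2 : (C₁.relIndex M) ^ p ≠ 0 := by
    apply pow_ne_zero
    exact Subgroup.index_ne_zero_of_finite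
  rw [hidx, Nat.factorization_mul hne1 hp.ne_zero, Finsupp.add_apply, hp.factorization_self]
  have h3 := (Nat.factorization_le_iff_dvd hne1 hne2).2 hdvd p
  rw [Nat.factorization_pow, Finsupp.smul_apply, smul_eq_mul] at h3
  omega

end Cfsg.Agent.Lib.Helper18.PSL
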