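/-
Permutation groups of prime degree via the modular permutation module:
a group of permutations of `ZMod p` containing the translation and leaving invariant a subspace
of functions of dimension `r` with `2 ≤ r ≤ p - 2` consists of affine maps (hence is solvable).
-/
import Mathlib
import Cfsg.Agent.S0673

set_option autoImplicit false

namespace Cfsg.Agent.Lib.Helper18.PrimeDegree

open Polynomial Module

section
variable {p : ℕ} [Fact p.Prime] {K : Type*} [Field K] [CharP K p]

/-- functions on `ZMod p` given by polynomials of degree `< r`. -/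
def IsPolyLT (p : ℕ) (K : Type*) [Field K] (r : ℕ) (f : ZMod p → K) : Prop :=
  ∃ P : K[X], P.degree < r ∧ ∀ j : ZMod p, f j = P.eval (ZMod.cast j : K)

lemma cast_injective : Function.Injective (fun j : ZMod p => (ZMod.cast j : K)) := by
  have h := (ZMod.castHom (dvd_refl p) K).injective
  intro a b hab
  exact h (by simpa using hab)

lemma poly_eq_zero (P : K[X]) (hP : P.natDegree < p)
    (h : ∀ j : ZMod p, P.eval (ZMod.cast j : K) = 0) : P = 0 := by
  apply eq_zero_of_natDegree_lt_card_of_eval_eq_zero P (cast_injective (p := p) (K := K)) h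
  rwa [ZMod.card]

lemma natDegree_lt_of_degree_lt' {Q : K[X]} {r : ℕ} (hr : 0 < r) (h : Q.degree < r) :
    Q.natDegree < r := by
  by_cases h0 : Q = 0
  · simp [h0, hr]
  · rw [degree_eq_natDegree h0] at h; exact_mod_cast h

/-- the translation `x ↦ x + 1`. -/
def tau (p : ℕ) : Equiv.Perm (ZMod p) := Equiv.addRight 1

@[simp] lemma tau_apply (x : ZMod p) : tau p x = x + 1 := rfl

@[simp] lemma tau_inv_apply (x : ZMod p) : (tau p)⁻¹ x = x - 1 := by
  rw [Equiv.Perm.inv_def]
  simp [tau, sub_eq_add_neg]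

/-- a translation-invariant subspace is a space of polynomial functions (restating `S0673`). -/
lemma exists_r (W : Submodule K (ZMod p → K)) (hW : ∀ f ∈ W, (fun x => f ((tau p)⁻¹ x)) ∈ W) :
    finrank K W ≤ p ∧ ∀ f : ZMod p → K, f ∈ W ↔ IsPolyLT p K (finrank K W) f := by
  obtain ⟨r, hr, hfr, h⟩ := Cfsg.Agent.S0673.result W (by
    intro f hf
    have := hW f hf
    have h2 : (fun x => f ((tau p)⁻¹ x)) = fun j => f (j - 1) := by
      ext j; simp
    rwa [h2] at this)
  subst hfr
  exact ⟨hr, h⟩

lemma exists_poly (f : ZMod p → K) : IsPolyLT p K p f := by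
  obtain ⟨hr, h⟩ := exists_r (⊤ : Submodule K (ZMod p → K)) (fun _ _ => Submodule.mem_top)
  obtain ⟨P, hP, hP2⟩ := (h f).1 Submodule.mem_top
  refine ⟨P, lt_of_lt_of_le hP ?_, hP2⟩
  exact_mod_cast hr

/-- the core degree argument. -/
lemma core (r : ℕ) (hr2 : 2 ≤ r) (hrp : 2 * r + 1 ≤ p) (g : ZMod p → ZMod p)
    (hg : ∀ f, IsPolyLT p K r f → IsPolyLT p K r (f ∘ g)) :
    ∃ a b : ZMod p, ∀ x, g x = a * x + b := by
  have hX : IsPolyLT p K r (fun x => (ZMod.cast x : K)) := by
    refine ⟨X, ?_, fun j => by simp⟩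
    rw [degree_X]
    exact_mod_cast hr2
  obtain ⟨γ, hγdeg, hγ⟩ := hg _ hX
  simp only [Function.comp_apply] at hγ
  have hc_lt : γ.natDegree < r := natDegree_lt_of_degree_lt' (by omega) hγdeg
  have claim : ∀ j, 1 ≤ j → j ≤ r - 1 → j * γ.natDegree ≤ r - 1 := by
    intro j hj1
    induction j, hj1 using Nat.le_induction with
    | base => intro _; omega
    | succ j hj ih =>
      intro hj'
      have ih' := ih (by omega)
      have hdeg : (γ ^ (j + 1)).natDegree = (j + 1) * γ.natDegree := natDegree_pow γ (j + 1)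
      have hXj : IsPolyLT p K r (fun x => (ZMod.cast x : K) ^ (j + 1)) := by
        refine ⟨X ^ (j + 1), ?_, fun x => by simp⟩
        rw [degree_X_pow]
        have : j + 1 < r := by omega
        exact_mod_cast this
      obtain ⟨Q, hQdeg, hQ⟩ := hg _ hXj
      simp only [Function.comp_apply] at hQ
      have hQn : Q.natDegree < r := natDegree_lt_of_degree_lt' (by omega) hQdeg
      have h0 : γ ^ (j + 1) - Q = 0 := by
        apply poly_eq_zero (p := p)
        · refine lt_of_le_of_lt (natDegree_sub_le _ _) ?_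
          rw [hdeg]
          have : (j + 1) * γ.natDegree = j * γ.natDegree + γ.natDegree := by ring
          omega
        · intro x
          rw [eval_sub, eval_pow, ← hγ, ← hQ, sub_self]
      have h1 : γ ^ (j + 1) = Q := sub_eq_zero.1 h0
      rw [← h1, hdeg] at hQn
      omega
  have hc1 : γ.natDegree ≤ 1 := by
    have := claim (r - 1) (by omega) le_rfl
    by_contra hcon
    push Not at hcon
    have : (r - 1) * 2 ≤ (r - 1) * γ.natDegree := Nat.mul_le_mul_left _ hcon
    omega
  have hγ2 := eq_X_add_C_of_natDegree_le_one hc1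
  have hval : ∀ x : ZMod p, (ZMod.cast (g x) : K) = γ.coeff 1 * (ZMod.cast x : K) + γ.coeff 0 := by
    intro x
    rw [hγ x]
    conv_lhs => rw [hγ2]
    simp
  have h0 := hval 0
  have h1 := hval 1
  rw [ZMod.cast_zero, mul_zero, zero_add] at h0
  rw [ZMod.cast_one (dvd_refl p), mul_one] at h1
  refine ⟨g 1 - g 0, g 0, fun x => ?_⟩
  apply cast_injective (p := p) (K := K)
  show (ZMod.cast (g x) : K) = (ZMod.cast ((g 1 - g 0) * x + g 0) : K)
  rw [ZMod.cast_add (dvd_refl p), ZMod.cast_mul (dvd_refl p), ZMod.cast_sub (dvd_refl p), hval x,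
    h1, h0]
  ring

/-- the dot product on functions. -/
noncomputable def dotB (p : ℕ) [Fact p.Prime] (K : Type*) [Field K] :
    LinearMap.BilinForm K (ZMod p → K) :=
  Matrix.toBilin' (1 : Matrix (ZMod p) (ZMod p) K)

omit [CharP K p] in
lemma dotB_apply (f h : ZMod p → K) : dotB p K f h = ∑ x, f x * h x := by
  unfold dotB
  rw [Matrix.toBilin'_apply']
  simp [dotProduct]

omit [CharP K p] in
lemma dotB_nondegenerate : (dotB p K).Nondegenerate := by
  unfold dotB
  rw [Matrix.nondegenerate_toBilin'_iff]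
  apply Matrix.nondegenerate_of_det_ne_zero
  simp

omit [CharP K p] in
lemma finrank_perp (W : Submodule K (ZMod p → K)) :
    finrank K ((dotB p K).orthogonal W) = p - finrank K W := by
  rw [LinearMap.BilinForm.finrank_orthogonal dotB_nondegenerate, Module.finrank_fintype_fun_eq_card K,
    ZMod.card]

omit [CharP K p] in
lemma mem_perp (W : Submodule K (ZMod p → K)) (h : ZMod p → K) :
    h ∈ (dotB p K).orthogonal W ↔ ∀ f ∈ W, ∑ x, f x * h x = 0 := by
  rw [LinearMap.BilinForm.mem_orthogonal_iff]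
  constructor
  · intro H f hf
    have := H f hf
    rwa [dotB_apply] at this
  · intro H f hf
    rw [dotB_apply]
    exact H f hf

/-- Main lemma: an invariant subspace of dimension between `2` and `p - 2` forces affine maps. -/
theorem affine_of_invariant (G : Subgroup (Equiv.Perm (ZMod p))) (ht : tau p ∈ G)
    (W : Submodule K (ZMod p → K)) (hW : ∀ g ∈ G, ∀ f ∈ W, f ∘ g ∈ W)
    (h2 : 2 ≤ finrank K W) (hp2 : finrank K W + 2 ≤ p) :
    ∀ g ∈ G, ∃ a b : ZMod p, ∀ x, g x = a * x + b := by
  have hodd : p % 2 = 1 := by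
    rcases (Fact.out : p.Prime).eq_two_or_odd with h | h
    · omega
    · exact h
  -- reduce to dimension at most (p-1)/2
  obtain ⟨W', hW', h2', hp2'⟩ : ∃ W' : Submodule K (ZMod p → K), (∀ g ∈ G, ∀ f ∈ W', f ∘ g ∈ W') ∧
      2 ≤ finrank K W' ∧ 2 * finrank K W' + 1 ≤ p := by
    by_cases hc : 2 * finrank K W + 1 ≤ p
    · exact ⟨W, hW, h2, hc⟩
    · refine ⟨(dotB p K).orthogonal W, ?_, ?_, ?_⟩
      · intro g hg h hh
        rw [mem_perp] at hh ⊢
        intro f hf
        have h1 := hh (f ∘ (g⁻¹ : Equiv.Perm (ZMod p))) (hW g⁻¹ (G.inv_mem hg) f hf)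
        rw [← h1]
        symm
        apply Fintype.sum_equiv g.symm
        intro x
        simp
      · rw [finrank_perp]; omega
      · rw [finrank_perp]; omega
  obtain ⟨-, hWr⟩ := exists_r W' (fun f hf => hW' _ (G.inv_mem ht) f hf)
  intro g hg
  apply core (K := K) (finrank K W') h2' hp2' g
  intro f hf
  rw [← hWr] at hf ⊢
  exact hW' g hg f hf

/-- a group of affine permutations of `ZMod p` is solvable. -/
theorem solvable_of_affine (G : Subgroup (Equiv.Perm (ZMod p)))
    (h : ∀ g ∈ G, ∃ a b : ZMod p, ∀ x, g x = a * x + b) : Group.IsSolvable G := by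
  have hdiff : ∀ g ∈ G, ∀ u v : ZMod p, g u - g v = (g 1 - g 0) * (u - v) := by
    intro g hg u v
    obtain ⟨a, b, hab⟩ := h g hg
    rw [hab u, hab v, hab 1, hab 0]
    ring
  have hne : ∀ g : G, (g : Equiv.Perm (ZMod p)) 1 - (g : Equiv.Perm (ZMod p)) 0 ≠ 0 := by
    intro g hcon
    have := (g : Equiv.Perm (ZMod p)).injective (sub_eq_zero.1 hcon)
    exact one_ne_zero this
  let φ : G →* (ZMod p)ˣ :=
    { toFun := fun g => Units.mk0 _ (hne g)
      map_one' := by
        apply Units.ext
        simp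
      map_mul' := by
        intro g g'
        apply Units.ext
        simp only [Units.val_mk0, Units.val_mul, Subgroup.coe_mul, Equiv.Perm.coe_mul,
          Function.comp_apply]
        rw [hdiff g.1 g.2] }
  have hker : ∀ g : G, g ∈ φ.ker → ∀ x, (g : Equiv.Perm (ZMod p)) x = x + (g : Equiv.Perm (ZMod p)) 0 := by
    intro g hg x
    rw [MonoidHom.mem_ker] at hg
    have h1 : (g : Equiv.Perm (ZMod p)) 1 - (g : Equiv.Perm (ZMod p)) 0 = 1 := by
      have := congrArg Units.val hg
      simpa [φ] using this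
    have h2 := hdiff g.1 g.2 x 0
    rw [h1, one_mul, sub_zero] at h2
    linear_combination h2
  have : Group.IsSolvable φ.ker := by
    apply Group.isSolvable_of_comm
    intro a b
    apply Subtype.ext
    apply Subtype.ext
    apply Equiv.ext
    intro x
    simp only [Subgroup.coe_mul, Equiv.Perm.coe_mul, Function.comp_apply]
    have ha := hker a.1 a.2
    have hb := hker b.1 b.2
    rw [ha (b.1.1 x), hb x, hb (a.1.1 x), ha x]
    ring
  exact Group.isSolvable_of_ker_le_range φ.ker.subtype φ (by simp)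

/-- in a transitive group of prime degree there is a `p`-cycle, which identifies the set with
`ZMod p`. -/
theorem exists_equiv_tau {α : Type*} [Fintype α] [DecidableEq α] (hα : Fintype.card α = p)
    (G : Subgroup (Equiv.Perm α)) [MulAction.IsPretransitive G α] :
    ∃ e : α ≃ ZMod p, ∃ t ∈ G, ∀ x, e (t x) = e x + 1 := by
  have hp : p.Prime := Fact.out
  have : Nonempty α := by
    rw [← Fintype.card_pos_iff, hα]; exact hp.pos
  obtain ⟨a₀⟩ := ‹Nonempty α›
  -- p divides |G|
  have hdvd : p ∣ Nat.card G := by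
    have h1 := MulAction.index_stabilizer G a₀
    have h2 : MulAction.orbit G a₀ = Set.univ := MulAction.orbit_eq_univ G a₀
    rw [h2, Set.ncard_univ, Nat.card_eq_fintype_card, hα] at h1
    rw [← h1]
    exact Subgroup.index_dvd_card _
  obtain ⟨s, hs⟩ := exists_prime_orderOf_dvd_card' p hdvd
  set t : Equiv.Perm α := (s : Equiv.Perm α) with ht
  have hto : orderOf t = p := by rw [ht, Subgroup.orderOf_coe, hs]
  have hcyc : t.IsCycle := Equiv.Perm.isCycle_of_prime_order'' (by rw [hα]; exact hp) (by rw [hto, hα])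
  have hsupp : t.support = Finset.univ := by
    apply Finset.eq_univ_of_card
    rw [← hcyc.orderOf, hto, hα]
  have hmove : ∀ x, t x ≠ x := by
    intro x
    rw [← Equiv.Perm.mem_support, hsupp]; exact Finset.mem_univ x
  let φ : ZMod p → α := fun i => (t ^ i.val) a₀
  have hφsucc : ∀ i : ZMod p, φ (i + 1) = t (φ i) := by
    intro i
    show (t ^ (i + 1).val) a₀ = t ((t ^ i.val) a₀)
    rw [← Equiv.Perm.mul_apply, ← pow_succ']
    have h1 : (i + 1).val = (i.val + 1) % p := by
      rw [ZMod.val_add, ZMod.val_one_eq_one_mod, Nat.add_mod_mod]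
    rw [h1]
    have h3 := pow_mod_orderOf t (i.val + 1)
    rw [hto] at h3
    rw [h3]
  have hφsurj : Function.Surjective φ := by
    intro y
    obtain ⟨n, hn⟩ := hcyc.exists_pow_eq (hmove a₀) (hmove y)
    refine ⟨(n : ZMod p), ?_⟩
    show (t ^ ((n : ZMod p)).val) a₀ = y
    rw [ZMod.val_natCast]
    have h3 := pow_mod_orderOf t n
    rw [hto] at h3
    rw [h3]
    exact hn
  have hφbij : Function.Bijective φ := by
    rw [Fintype.bijective_iff_surjective_and_card]
    exact ⟨hφsurj, by rw [ZMod.card, hα]⟩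
  refine ⟨(Equiv.ofBijective φ hφbij).symm, t, s.2, fun x => ?_⟩
  obtain ⟨i, rfl⟩ := hφsurj x
  rw [← hφsucc]
  have h1 : ∀ j, (Equiv.ofBijective φ hφbij).symm (φ j) = j := fun j =>
    (Equiv.ofBijective φ hφbij).symm_apply_apply j
  rw [h1, h1]

/-- Transport of the main lemma to an arbitrary set of prime cardinality. -/
theorem solvable_of_invariant {α : Type*} [Fintype α] [DecidableEq α] (hα : Fintype.card α = p)
    (G : Subgroup (Equiv.Perm α)) [MulAction.IsPretransitive G α]
    (W : Submodule K (α → K)) (hW : ∀ g ∈ G, ∀ f ∈ W, f ∘ g ∈ W)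
    (h2 : 2 ≤ finrank K W) (hp2 : finrank K W + 2 ≤ p) : Group.IsSolvable G := by
  obtain ⟨e, t, htG, ht⟩ := exists_equiv_tau (p := p) hα G
  let F : Equiv.Perm α →* Equiv.Perm (ZMod p) := e.permCongrHom.toMonoidHom
  have hF : ∀ (g : Equiv.Perm α) (x : ZMod p), F g x = e (g (e.symm x)) := fun g x => rfl
  let G' : Subgroup (Equiv.Perm (ZMod p)) := G.map F
  let L : (α → K) ≃ₗ[K] (ZMod p → K) := LinearEquiv.funCongrLeft K K e.symm
  have hL : ∀ (f : α → K) (x : ZMod p), L f x = f (e.symm x) := fun f x => rfl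
  let W' : Submodule K (ZMod p → K) := W.map (L : (α → K) →ₗ[K] (ZMod p → K))
  have hfr : finrank K W' = finrank K W := LinearEquiv.finrank_map_eq L W
  have htau : tau p ∈ G' := by
    refine ⟨t, htG, ?_⟩
    ext x
    rw [hF, ht, Equiv.apply_symm_apply, tau_apply]
  have hW' : ∀ g ∈ G', ∀ f ∈ W', f ∘ g ∈ W' := by
    rintro _ ⟨g, hg, rfl⟩ _ ⟨f, hf, rfl⟩
    refine ⟨f ∘ g, hW g hg f hf, ?_⟩
    ext x
    simp only [LinearEquiv.coe_coe, Function.comp_apply, hL, hF, Equiv.symm_apply_apply]
  have haff := affine_of_invariant (K := K) G' htau W' hW' (by rw [hfr]; exact h2) (by rw [hfr]; exact hp2)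
  have := solvable_of_affine G' haff
  have hinj : Function.Injective (F.subgroupMap G) := by
    intro a b hab
    have := congrArg Subtype.val hab
    simp only [MonoidHom.subgroupMap] at this
    exact Subtype.ext (e.permCongrHom.injective this)
  exact Group.isSolvable_of_isSolvable_injective hinj

/-- invariant subspaces are spaces of polynomial functions after a suitable identification of the
set with `ZMod p`. -/
theorem exists_equiv_poly {α : Type*} [Fintype α] [DecidableEq α] (hα : Fintype.card α = p)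
    (G : Subgroup (Equiv.Perm α)) [MulAction.IsPretransitive G α] :
    ∃ e : α ≃ ZMod p, ∀ W : Submodule K (α → K), (∀ g ∈ G, ∀ f ∈ W, f ∘ g ∈ W) →
      ∀ f : α → K, f ∈ W ↔ IsPolyLT p K (finrank K W) (f ∘ e.symm) := by
  obtain ⟨e, t, htG, ht⟩ := exists_equiv_tau (p := p) hα G
  refine ⟨e, fun W hW f => ?_⟩
  let L : (α → K) ≃ₗ[K] (ZMod p → K) := LinearEquiv.funCongrLeft K K e.symm
  have hL : ∀ (f : α → K) (x : ZMod p), L f x = f (e.symm x) := fun f x => rfl
  let W' : Submodule K (ZMod p → K) := W.map (L : (α → K) →ₗ[K] (ZMod p → K))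
  have hfr : finrank K W' = finrank K W := LinearEquiv.finrank_map_eq L W
  have hinv : ∀ f ∈ W', (fun x => f ((tau p)⁻¹ x)) ∈ W' := by
    rintro _ ⟨f, hf, rfl⟩
    refine ⟨f ∘ (t⁻¹ : Equiv.Perm α), hW _ (G.inv_mem htG) f hf, ?_⟩
    ext x
    simp only [LinearEquiv.coe_coe, Function.comp_apply, hL, tau_inv_apply]
    congr 1
    rw [Equiv.Perm.inv_eq_iff_eq]
    apply e.injective
    rw [ht, Equiv.apply_symm_apply, Equiv.apply_symm_apply]
    ring
  obtain ⟨-, hr⟩ := exists_r W' hinv
  rw [← hfr, ← hr]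
  constructor
  · intro hf
    exact ⟨f, hf, rfl⟩
  · rintro ⟨f', hf', h⟩
    have : f' = f := L.injective h
    rwa [← this]

/-- the invariant subspaces form a chain. -/
theorem invariant_le_of_finrank_le {α : Type*} [Fintype α] [DecidableEq α]
    (hα : Fintype.card α = p) (G : Subgroup (Equiv.Perm α)) [MulAction.IsPretransitive G α]
    (W₁ W₂ : Submodule K (α → K)) (h₁ : ∀ g ∈ G, ∀ f ∈ W₁, f ∘ g ∈ W₁)
    (h₂ : ∀ g ∈ G, ∀ f ∈ W₂, f ∘ g ∈ W₂) (h : finrank K W₁ ≤ finrank K W₂) : W₁ ≤ W₂ := by
  obtain ⟨e, he⟩ := exists_equiv_poly (p := p) (K := K) hα G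
  intro f hf
  rw [he W₁ h₁] at hf
  rw [he W₂ h₂]
  obtain ⟨P, hP, hP2⟩ := hf
  refine ⟨P, lt_of_lt_of_le hP ?_, hP2⟩
  exact_mod_cast h

omit [Fact p.Prime] [CharP K p] in
lemma finrank_comap_le {V : Type*} [AddCommGroup V] [Module K V] [FiniteDimensional K V]
    (g : Module.End K V) (S : Submodule K V) :
    finrank K (S.comap g) ≤ finrank K S + finrank K (LinearMap.ker g) := by
  let h : (S.comap g) →ₗ[K] S := g.restrict (fun x hx => hx)
  have h1 := h.finrank_range_add_finrank_ker
  have h2 : finrank K (LinearMap.range h) ≤ finrank K S := Submodule.finrank_le _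
  have h3 : finrank K (LinearMap.ker h) ≤ finrank K (LinearMap.ker g) := by
    let i : LinearMap.ker h →ₗ[K] LinearMap.ker g :=
      { toFun := fun x => ⟨x.1.1, by
          have := x.2
          rw [LinearMap.mem_ker] at this ⊢
          have h4 : ((h x.1 : S) : V) = 0 := by rw [this]; rfl
          exact h4⟩
        map_add' := by intros; rfl
        map_smul' := by intros; rfl }
    apply LinearMap.finrank_le_finrank_of_injective (f := i)
    intro x y hxy
    have := congrArg Subtype.val hxy
    exact Subtype.ext (Subtype.ext this)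
  omega

end

end Cfsg.Agent.Lib.Helper18.PrimeDegree
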