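import Mathlib
import Cfsg.Agent.Lib.Helper44.PrnADefs

set_option autoImplicit false
set_option linter.unusedSectionVars false
set_option linter.unusedVariables false
set_option linter.style.longLine false

/-! Keystone K-PrnA-SW3 (222206, architect helper44): the transpositions of a Sylow 2-subgroup of `Perm α` form a matching
of size `|α| / 2`, missing at most one point. -/

namespace Cfsg.Agent.Lib.Helper18.PrnA

open Equiv Equiv.Perm Cfsg.Agent.Lib.Helper44.PrnA

universe u

/-- the supports of a family of pairwise disjoint transpositions cover `2 * m` points -/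
theorem card_biUnion_support_swaps {α : Type u} [Fintype α] [DecidableEq α] (m : ℕ)
    (f : Fin m → α × α) (hne : ∀ i, (f i).1 ≠ (f i).2)
    (hdis : ∀ i j, i ≠ j →
      (f i).1 ≠ (f j).1 ∧ (f i).1 ≠ (f j).2 ∧ (f i).2 ≠ (f j).1 ∧ (f i).2 ≠ (f j).2) :
    (Finset.univ.biUnion (fun i : Fin m => (swap (f i).1 (f i).2).support)).card = 2 * m := by
  rw [Finset.card_biUnion]
  · have h2 : ∀ i ∈ (Finset.univ : Finset (Fin m)), (swap (f i).1 (f i).2).support.card = 2 := by
      intro i _
      rw [Equiv.Perm.card_support_eq_two]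
      exact ⟨_, _, hne i, rfl⟩
    rw [Finset.sum_congr rfl h2, Finset.sum_const, Finset.card_univ, Fintype.card_fin, smul_eq_mul,
      mul_comm]
  · intro i _ j _ hij
    show Disjoint (swap (f i).1 (f i).2).support (swap (f j).1 (f j).2).support
    rw [Equiv.Perm.support_swap (hne i), Equiv.Perm.support_swap (hne j), Finset.disjoint_left]
    obtain ⟨h1, h2, h3, h4⟩ := hdis i j hij
    intro a ha hb
    simp only [Finset.mem_insert, Finset.mem_singleton] at ha hb
    rcases ha with rfl | rfl <;> rcases hb with hb | hb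
    · exact h1 hb
    · exact h2 hb
    · exact h3 hb
    · exact h4 hb

theorem card_swapsIn {α : Type u} [Fintype α] [DecidableEq α] (P : Sylow 2 (Perm α))
    (hSW1 : ∀ a b c d : α, a ≠ b → c ≠ d → swap a b ∈ (P : Subgroup (Perm α)) →
      swap c d ∈ (P : Subgroup (Perm α)) → swap a b = swap c d ∨ (a ≠ c ∧ a ≠ d ∧ b ≠ c ∧ b ≠ d))
    (hSW2 : ∃ f : Fin (Fintype.card α / 2) → α × α, (∀ i, (f i).1 ≠ (f i).2) ∧
      (∀ i, swap (f i).1 (f i).2 ∈ (P : Subgroup (Perm α))) ∧
      ∀ i j, i ≠ j → (f i).1 ≠ (f j).1 ∧ (f i).1 ≠ (f j).2 ∧ (f i).2 ≠ (f j).1 ∧ (f i).2 ≠ (f j).2) :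
    (swapsIn (P : Subgroup (Perm α))).card = Fintype.card α / 2 := by
  apply le_antisymm
  · -- the supports are pairwise disjoint of size two
    have hcard : ((swapsIn (P : Subgroup (Perm α))).biUnion (fun τ => τ.support)).card =
        2 * (swapsIn (P : Subgroup (Perm α))).card := by
      rw [Finset.card_biUnion]
      · have h2 : ∀ τ ∈ swapsIn (P : Subgroup (Perm α)), τ.support.card = 2 := by
          intro τ hτ
          rw [Equiv.Perm.card_support_eq_two]
          exact ((mem_swapsIn _ τ).mp hτ).2
        rw [Finset.sum_congr rfl h2, Finset.sum_const, smul_eq_mul, mul_comm]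
      · intro σ hσ τ hτ hστ
        obtain ⟨hσP, a, b, hab, rfl⟩ := (mem_swapsIn _ σ).mp hσ
        obtain ⟨hτP, c, d, hcd, rfl⟩ := (mem_swapsIn _ τ).mp hτ
        rcases hSW1 a b c d hab hcd hσP hτP with h | ⟨h1, h2, h3, h4⟩
        · exact absurd h hστ
        · show Disjoint (swap a b).support (swap c d).support
          rw [Equiv.Perm.support_swap hab, Equiv.Perm.support_swap hcd, Finset.disjoint_left]
          intro x ha hb
          simp only [Finset.mem_insert, Finset.mem_singleton] at ha hb
          rcases ha with rfl | rfl <;> rcases hb with hb | hb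
          · exact h1 hb
          · exact h2 hb
          · exact h3 hb
          · exact h4 hb
    have hle : ((swapsIn (P : Subgroup (Perm α))).biUnion (fun τ => τ.support)).card ≤
        Fintype.card α := Finset.card_le_univ _
    rw [hcard] at hle
    omega
  · obtain ⟨f, hne, hmem, hdis⟩ := hSW2
    have hinj : Set.InjOn (fun i : Fin (Fintype.card α / 2) => swap (f i).1 (f i).2)
        (↑(Finset.univ : Finset (Fin (Fintype.card α / 2)))) := by
      intro i _ j _ hij
      by_contra hne'
      obtain ⟨h1, h2, h3, h4⟩ := hdis i j hne'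
      have h5 : swap (f i).1 (f i).2 (f i).1 = swap (f j).1 (f j).2 (f i).1 := by
        have := hij
        simp only at this
        rw [this]
      rw [Equiv.swap_apply_left, Equiv.swap_apply_of_ne_of_ne h1 h2] at h5
      exact hne i h5.symm
    have := Finset.card_le_card_of_injOn (s := (Finset.univ : Finset (Fin (Fintype.card α / 2))))
      (t := swapsIn (P : Subgroup (Perm α))) (fun i => swap (f i).1 (f i).2)
      (fun i _ => (mem_swapsIn _ _).mpr ⟨hmem i, _, _, hne i, rfl⟩) hinj
    rwa [Finset.card_univ, Fintype.card_fin] at this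

theorem unmatched_unique {α : Type u} [Fintype α] [DecidableEq α] (P : Sylow 2 (Perm α))
    (hSW2 : ∃ f : Fin (Fintype.card α / 2) → α × α, (∀ i, (f i).1 ≠ (f i).2) ∧
      (∀ i, swap (f i).1 (f i).2 ∈ (P : Subgroup (Perm α))) ∧
      ∀ i j, i ≠ j → (f i).1 ≠ (f j).1 ∧ (f i).1 ≠ (f j).2 ∧ (f i).2 ≠ (f j).1 ∧ (f i).2 ≠ (f j).2)
    (x y : α) (hx : ∀ τ ∈ swapsIn (P : Subgroup (Perm α)), τ x = x)
    (hy : ∀ τ ∈ swapsIn (P : Subgroup (Perm α)), τ y = y) : x = y := by
  by_contra hxy
  obtain ⟨f, hne, hmem, hdis⟩ := hSW2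
  have hT := card_biUnion_support_swaps (Fintype.card α / 2) f hne hdis
  have hnot : ∀ z : α, (∀ τ ∈ swapsIn (P : Subgroup (Perm α)), τ z = z) →
      z ∉ Finset.univ.biUnion (fun i : Fin (Fintype.card α / 2) =>
        (swap (f i).1 (f i).2).support) := by
    intro z hz hmemz
    rw [Finset.mem_biUnion] at hmemz
    obtain ⟨i, _, hi⟩ := hmemz
    rw [Equiv.Perm.mem_support] at hi
    exact hi (hz _ ((mem_swapsIn _ _).mpr ⟨hmem i, _, _, hne i, rfl⟩))
  have hyT := hnot y hy
  have hxT : x ∉ insert y (Finset.univ.biUnion (fun i : Fin (Fintype.card α / 2) =>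
        (swap (f i).1 (f i).2).support)) := by
    rw [Finset.mem_insert]
    rintro (h | h)
    · exact hxy h
    · exact hnot x hx h
  have hcard : (insert x (insert y (Finset.univ.biUnion (fun i : Fin (Fintype.card α / 2) =>
        (swap (f i).1 (f i).2).support)))).card = 2 * (Fintype.card α / 2) + 2 := by
    rw [Finset.card_insert_of_notMem hxT, Finset.card_insert_of_notMem hyT, hT]
  have hle := Finset.card_le_univ (insert x (insert y (Finset.univ.biUnion
    (fun i : Fin (Fintype.card α / 2) => (swap (f i).1 (f i).2).support))))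
  rw [hcard] at hle
  omega

end Cfsg.Agent.Lib.Helper18.PrnA
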