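import Mathlib
import Cfsg.Agent.Lib.Helper49.RSU3Defs
import Cfsg.Agent.Lib.Helper40.GUConj
import Cfsg.Agent.Lib.Helper21.RSU3L04

/-!
# K-RSU3-L22 (keystone 228322): the torus lies in the subgroup generated by the two opposite
root groups: `hM q m = n(a,b) * n(0,b0)⁻¹` with
`n(a,b) = xM (a^q/b^q) (1/b^q) * yM a b * xM (a^q/b) (1/b^q)`.
-/

set_option autoImplicit false
set_option linter.unusedSectionVars false
set_option linter.unusedVariables false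

namespace Cfsg.Agent.Lib.Helper18.RSU3

open Matrix Cfsg.Agent.Lib.Helper49.StSU Cfsg.Agent.Lib.Helper49.RSU3

variable {F : Type*} [Field F] [Fintype F] {q : ℕ}

theorem l22_ydet (a b : F) : (yM q a b).det = 1 := by
  unfold yM
  rw [Matrix.det_fin_three]
  simp

theorem l22_ymulVec (a b : F) (u : Fin 3 → F) :
    yM q a b *ᵥ u = ![u 0, a * u 0 + u 1, b * u 0 - a ^ q * u 1 + u 2] := by
  unfold yM
  ext i
  fin_cases i <;> simp [Matrix.mulVec, dotProduct, Fin.sum_univ_three] <;> ring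

theorem l22_exists_y (hF : Fintype.card F = q ^ 2) (a b : F) (h : Val q a b) :
    ∃ g : GJ 3 F q, mat g = yM q a b := by
  obtain ⟨φ, hφ, hφφ, -⟩ := Cfsg.Agent.Lib.Helper40.GUConj.exists_frob hF
  have h' : b + φ b + a * φ a = 0 := by
    rw [hφ b, hφ a]; exact h
  have hM : ∀ u v, hJ 3 F q (yM q a b *ᵥ u) (yM q a b *ᵥ v) = hJ 3 F q u v := by
    intro u v
    rw [Cfsg.Agent.Lib.Helper21.RSU3.l04_hJ φ hφ, Cfsg.Agent.Lib.Helper21.RSU3.l04_hJ φ hφ,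
      l22_ymulVec, l22_ymulVec, ← hφ a]
    simp only [Matrix.cons_val_zero, Matrix.cons_val_one, Matrix.cons_val_two, Matrix.head_cons,
      Matrix.tail_cons, map_add, map_sub, map_mul, hφφ]
    linear_combination (u 0 * φ (v 0)) * h'
  exact ⟨⟨⟨yM q a b, l22_ydet a b⟩, hM⟩, rfl⟩

/-- the matrix identity `n(a,b) = x * y * x` in `φ`-form -/
theorem l22_nmat (φ : F →+* F) (hφ : ∀ x, φ x = x ^ q) (hφφ : ∀ x, φ (φ x) = x) (a b : F)
    (hb : b ≠ 0) (h : b + φ b + a * φ a = 0) :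
    xM q (φ a / φ b) (1 / φ b) * yM q a b * xM q (φ a / b) (1 / φ b)
      = !![0, 0, 1 / φ b; 0, -(φ b / b), 0; b, 0, 0] := by
  have hφb : φ b ≠ 0 := by rw [map_ne_zero]; exact hb
  have e1 : (φ a / φ b) ^ q = a / b := by rw [← hφ, map_div₀, hφφ, hφφ]
  have e2 : (φ a / b) ^ q = a / φ b := by rw [← hφ, map_div₀, hφφ]
  have e3 : a ^ q = φ a := (hφ a).symm
  unfold xM yM
  rw [e1, e2, e3]
  ext i j
  fin_cases i <;> fin_cases j <;>
    simp [Matrix.mul_apply, Fin.sum_univ_three] <;> field_simp <;>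
    first
      | linear_combination h
      | linear_combination (-1 : F) * h
      | linear_combination φ b * h
      | linear_combination b * h
      | linear_combination φ a * h
      | linear_combination (-a) * h
      | linear_combination a * h
      | linear_combination (-φ a) * h
      | ring

theorem l22_val1 (φ : F →+* F) (hφ : ∀ x, φ x = x ^ q) (hφφ : ∀ x, φ (φ x) = x) (a b : F)
    (hb : b ≠ 0) (h : b + φ b + a * φ a = 0) : Val q (φ a / φ b) (1 / φ b) := by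
  have hφb : φ b ≠ 0 := by rw [map_ne_zero]; exact hb
  unfold Val
  rw [← hφ, ← hφ, map_div₀, map_div₀, hφφ, hφφ, map_one]
  field_simp
  linear_combination h

theorem l22_val2 (φ : F →+* F) (hφ : ∀ x, φ x = x ^ q) (hφφ : ∀ x, φ (φ x) = x) (a b : F)
    (hb : b ≠ 0) (h : b + φ b + a * φ a = 0) : Val q (φ a / b) (1 / φ b) := by
  have hφb : φ b ≠ 0 := by rw [map_ne_zero]; exact hb
  unfold Val
  rw [← hφ, ← hφ, map_div₀, map_div₀, hφφ, hφφ, map_one]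
  field_simp
  linear_combination h

/-- L22 -/
theorem torus_mem (hq : 3 ≤ q) (hF : Fintype.card F = q ^ 2) (H : Subgroup (GJ 3 F q))
    (hU : ∀ (X : GJ 3 F q) (a b : F), mat X = xM q a b → X ∈ H)
    (hY : ∀ (Y : GJ 3 F q) (a b : F), mat Y = yM q a b → Y ∈ H)
    (t : GJ 3 F q) (m : F) (ht : mat t = hM q m) : t ∈ H := by
  obtain ⟨φ, hφ, hφφ, θ₀, hθ⟩ := Cfsg.Agent.Lib.Helper40.GUConj.exists_frob hF
  have hm : m ≠ 0 := by
    rintro rfl
    have h1 := det_mat t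
    rw [ht] at h1
    have h0 : (hM q (0 : F)).det = 0 := by
      unfold hM
      rw [Matrix.det_fin_three]
      simp
    rw [h0] at h1
    exact zero_ne_one h1
  obtain ⟨b0, hb0def⟩ : ∃ b0, b0 = θ₀ - φ θ₀ := ⟨_, rfl⟩
  have hb0ne : b0 ≠ 0 := by rw [hb0def]; exact sub_ne_zero.mpr (Ne.symm hθ)
  have hφb0 : φ b0 = -b0 := by rw [hb0def, map_sub, hφφ]; ring
  have hφm : φ m ≠ 0 := by rw [map_ne_zero]; exact hm
  obtain ⟨b, hbdef⟩ : ∃ b, b = b0 / φ m := ⟨_, rfl⟩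
  have hbne : b ≠ 0 := by rw [hbdef]; exact div_ne_zero hb0ne hφm
  have hφb : φ b = -b0 / m := by rw [hbdef, map_div₀, hφb0, hφφ]
  obtain ⟨a, ha⟩ : ∃ a, a * φ a = -(b + φ b) := by
    by_cases hc : -(b + φ b) = 0
    · exact ⟨0, by rw [hc]; simp⟩
    · exact Cfsg.Agent.Lib.Helper40.GUNorm.norm_surjective φ hφφ θ₀
        (by rw [← hb0def]; exact hb0ne.isUnit) _ (Ne.isUnit hc)
        (by rw [map_neg, map_add, hφφ]; ring)
  have hval : b + φ b + a * φ a = 0 := by rw [ha]; ring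
  have hval0 : b0 + φ b0 + (0 : F) * φ 0 = 0 := by rw [hφb0]; ring
  obtain ⟨X1, hX1⟩ := Cfsg.Agent.Lib.Helper21.RSU3.exists_x hF (φ a / φ b) (1 / φ b)
    (l22_val1 φ hφ hφφ a b hbne hval)
  obtain ⟨Y1, hY1⟩ := l22_exists_y hF a b (by unfold Val; rw [← hφ, ← hφ]; exact hval)
  obtain ⟨X2, hX2⟩ := Cfsg.Agent.Lib.Helper21.RSU3.exists_x hF (φ a / b) (1 / φ b)
    (l22_val2 φ hφ hφφ a b hbne hval)
  obtain ⟨X3, hX3⟩ := Cfsg.Agent.Lib.Helper21.RSU3.exists_x hF (φ 0 / φ b0) (1 / φ b0)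
    (l22_val1 φ hφ hφφ 0 b0 hb0ne hval0)
  obtain ⟨Y0, hY0⟩ := l22_exists_y hF 0 b0 (by unfold Val; rw [← hφ, ← hφ]; exact hval0)
  obtain ⟨X4, hX4⟩ := Cfsg.Agent.Lib.Helper21.RSU3.exists_x hF (φ 0 / b0) (1 / φ b0)
    (l22_val2 φ hφ hφφ 0 b0 hb0ne hval0)
  have hG1 : X1 * Y1 * X2 ∈ H :=
    H.mul_mem (H.mul_mem (hU X1 _ _ hX1) (hY Y1 _ _ hY1)) (hU X2 _ _ hX2)
  have hG0 : X3 * Y0 * X4 ∈ H :=
    H.mul_mem (H.mul_mem (hU X3 _ _ hX3) (hY Y0 _ _ hY0)) (hU X4 _ _ hX4)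
  have key : t * (X3 * Y0 * X4) = X1 * Y1 * X2 := by
    apply mat_injective
    rw [mat_mul, mat_mul, mat_mul, mat_mul, mat_mul, ht, hX1, hY1, hX2, hX3, hY0, hX4,
      l22_nmat φ hφ hφφ a b hbne hval, l22_nmat φ hφ hφφ 0 b0 hb0ne hval0, hφb0, hφb, hbdef]
    unfold hM
    rw [← hφ]
    ext i j
    fin_cases i <;> fin_cases j <;>
      simp [Matrix.mul_apply, Fin.sum_univ_three] <;> field_simp
  have ht' : t = (X1 * Y1 * X2) * (X3 * Y0 * X4)⁻¹ := by rw [← key]; group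
  rw [ht']
  exact H.mul_mem hG1 (H.inv_mem hG0)

end Cfsg.Agent.Lib.Helper18.RSU3
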