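import Mathlib

/-!
Keystone K-S2716-G3: images of a subgroup under two homomorphisms with equal kernels are isomorphic.
-/

set_option autoImplicit false

namespace Cfsg.Agent.Lib.Helper18.S2716K

/-- K-S2716-G3. -/
theorem map_equiv_of_ker_eq {G A B : Type*} [Group G] [Group A] [Group B]
    (f : G →* A) (f' : G →* B) (hk : f.ker = f'.ker) (D : Subgroup G) :
    Nonempty (↥(D.map f) ≃* ↥(D.map f')) := by
  have hker : (f.comp D.subtype).ker = (f'.comp D.subtype).ker := by
    ext x
    rw [MonoidHom.mem_ker, MonoidHom.mem_ker, MonoidHom.comp_apply, MonoidHom.comp_apply,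
      ← MonoidHom.mem_ker, ← MonoidHom.mem_ker, hk]
  have e1 : ↥D ⧸ (f.comp D.subtype).ker ≃* ↥(f.comp D.subtype).range :=
    QuotientGroup.quotientKerEquivRange (f.comp D.subtype)
  have e2 : ↥D ⧸ (f'.comp D.subtype).ker ≃* ↥(f'.comp D.subtype).range :=
    QuotientGroup.quotientKerEquivRange (f'.comp D.subtype)
  have e3 : ↥D ⧸ (f.comp D.subtype).ker ≃* ↥D ⧸ (f'.comp D.subtype).ker :=
    QuotientGroup.quotientMulEquivOfEq hker
  have h4 : (f.comp D.subtype).range = D.map f := by
    rw [MonoidHom.range_comp, Subgroup.range_subtype]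
  have h5 : (f'.comp D.subtype).range = D.map f' := by
    rw [MonoidHom.range_comp, Subgroup.range_subtype]
  have e4 : ↥(f.comp D.subtype).range ≃* ↥(D.map f) := MulEquiv.subgroupCongr h4
  have e5 : ↥(f'.comp D.subtype).range ≃* ↥(D.map f') := MulEquiv.subgroupCongr h5
  exact ⟨e4.symm.trans (e1.symm.trans (e3.trans (e2.trans e5)))⟩

end Cfsg.Agent.Lib.Helper18.S2716K
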