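import Mathlib
import Cfsg.Prelude.Def_LocalEven
import Cfsg.Agent.Lib.Helper53.S4Inv
import Cfsg.Agent.Lib.Helper53.ThompsonTwo
import Cfsg.Agent.Lib.Helper90.Involves

set_option autoImplicit false

/-!
Keystone K53-B (sub-task of S2799): the S4 configuration modulo an odd normalized subgroup.
-/

namespace Cfsg.Agent.Lib.Helper18.S4Mod

universe u v

/-- A group involved in a section `N ⧸ K` of `G` is involved in `G`. -/
theorem involves_of_quotient {H : Type v} [Group H] {G : Type u} [Group G] (N : Subgroup G)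
    (K : Subgroup N) [K.Normal] (h : Cfsg.Involves H (N ⧸ K)) : Cfsg.Involves H G := by
  obtain ⟨L, f, hf⟩ := Cfsg.Agent.Lib.Helper90.exists_hom_of_involves h
  let π : N →* N ⧸ K := QuotientGroup.mk' K
  let L' : Subgroup N := L.comap π
  let g : L' →* L := (π.comp L'.subtype).codRestrict L (fun x => x.2)
  refine Cfsg.Agent.Lib.Helper90.involves_of_hom (N.subtype.comp L'.subtype) (f.comp g) ?_ ?_
  · exact (Subgroup.subtype_injective N).comp (Subgroup.subtype_injective L')
  · intro y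
    obtain ⟨l, rfl⟩ := hf y
    obtain ⟨n, hn⟩ := QuotientGroup.mk'_surjective K l.1
    have hnL : n ∈ L' := by
      show π n ∈ L
      rw [hn]; exact l.2
    refine ⟨⟨n, hnL⟩, ?_⟩
    show f (g ⟨n, hnL⟩) = f l
    congr 1
    exact Subtype.ext hn

/-- the image of a subgroup meeting the kernel trivially has the same order -/
theorem card_map_of_disjoint {A B : Type*} [Group A] [Group B] (f : A →* B) (W : Subgroup A)
    (h : Disjoint W f.ker) : Nat.card (W.map f) = Nat.card W := by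
  have hinj : Function.Injective (f.comp W.subtype) := by
    rw [injective_iff_map_eq_one]
    intro w hw
    have h1 : (w : A) ∈ f.ker := hw
    have h2 : (w : A) = 1 := Subgroup.disjoint_def.mp h w.2 h1
    exact Subtype.ext h2
  have hrange : W.map f = (f.comp W.subtype).range := by
    rw [← MonoidHom.map_range, Subgroup.range_subtype]
  rw [hrange]
  exact (Nat.card_congr (MonoidHom.ofInjective hinj).toEquiv).symm

theorem involves_perm4_of_config_mod {G : Type u} [Group G] [Finite G]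
    (U : Subgroup G) [U.Normal]
    (hUc : ∀ a ∈ U, ∀ b ∈ U, a * b = b * a) (hU2 : IsPGroup 2 U)
    (X₀ : Subgroup G) (hX₀U : X₀ ≤ Subgroup.centralizer (U : Set G))
    (r : ℕ) (hr : r.Prime) (hr2 : r ≠ 2) (hX₀r : IsPGroup r X₀)
    (x t : G) (hxN : x ∈ Subgroup.normalizer (X₀ : Set G)) (htN : t ∈ Subgroup.normalizer (X₀ : Set G))
    (hxr : x ^ r ∈ X₀) (hxU : x ∉ Subgroup.centralizer (U : Set G))
    (ht2 : ∃ j : ℕ, t ^ 2 ^ j = 1) (htx : t * x * t⁻¹ * x ∈ X₀)
    (hidx : (U ⊓ Subgroup.centralizer {t}).relIndex U = 2) :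
    Cfsg.Involves (Equiv.Perm (Fin 4)) G := by
  classical
  have : Fact r.Prime := ⟨hr⟩
  have : Fact (Nat.Prime 2) := ⟨Nat.prime_two⟩
  -- the trivial intersection
  have hdis : ∀ g : G, g ∈ U → g ∈ X₀ → g = 1 := by
    intro g hgU hgX
    have := IsPGroup.disjoint_of_ne 2 r (Ne.symm hr2) U X₀ hU2 hX₀r
    exact Subgroup.disjoint_def.mp this hgU hgX
  set N : Subgroup G := Subgroup.normalizer (X₀ : Set G) with hN
  have hUN : U ≤ N := by
    have h1 : U ≤ Subgroup.centralizer (X₀ : Set G) := Subgroup.le_centralizer_iff.mp hX₀U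
    exact h1.trans (Subgroup.centralizer_le_normalizer _)
  let K : Subgroup N := X₀.subgroupOf N
  have hKn : K.Normal := Subgroup.normal_in_normalizer
  let π : N →* N ⧸ K := QuotientGroup.mk' K
  have hπ1 : ∀ n : N, π n = 1 ↔ (n : G) ∈ X₀ := by
    intro n
    rw [QuotientGroup.mk'_apply, QuotientGroup.eq_one_iff]
    exact Subgroup.mem_subgroupOf
  have hπsurj : Function.Surjective π := QuotientGroup.mk'_surjective K
  have hπker : π.ker = K := QuotientGroup.ker_mk' K
  let x' : N := ⟨x, hxN⟩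
  let t' : N := ⟨t, htN⟩
  have hUNn : (U.subgroupOf N).Normal := inferInstance
  let Ub : Subgroup (N ⧸ K) := (U.subgroupOf N).map π
  have hUbn : Ub.Normal := Subgroup.Normal.map hUNn π hπsurj
  have hmemUb : ∀ γ : N ⧸ K, γ ∈ Ub ↔ ∃ n : N, (n : G) ∈ U ∧ π n = γ := by
    intro γ
    constructor
    · rintro ⟨n, hn, rfl⟩
      exact ⟨n, Subgroup.mem_subgroupOf.mp hn, rfl⟩
    · rintro ⟨n, hn, rfl⟩
      exact ⟨n, Subgroup.mem_subgroupOf.mpr hn, rfl⟩
  -- the hypotheses in the quotient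
  have hUbc : ∀ a ∈ Ub, ∀ b ∈ Ub, a * b = b * a := by
    intro a ha b hb
    obtain ⟨n, hn, rfl⟩ := (hmemUb a).mp ha
    obtain ⟨m, hm, rfl⟩ := (hmemUb b).mp hb
    rw [← map_mul, ← map_mul]
    congr 1
    exact Subtype.ext (hUc _ hn _ hm)
  have hUb2 : IsPGroup 2 Ub := (hU2.comap_subtype).map π
  have hxbr : (π x') ^ r = 1 := by
    rw [← map_pow, hπ1]
    exact hxr
  have htxb : π t' * π x' * (π t')⁻¹ = (π x')⁻¹ := by
    have h1 : π (t' * x' * t'⁻¹ * x') = 1 := by
      rw [hπ1]; exact htx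
    rw [map_mul, map_mul, map_mul, map_inv] at h1
    exact eq_inv_of_mul_eq_one_left h1
  have htb2 : ∃ j : ℕ, (π t') ^ 2 ^ j = 1 := by
    obtain ⟨j, hj⟩ := ht2
    refine ⟨j, ?_⟩
    rw [← map_pow, hπ1]
    show t ^ 2 ^ j ∈ X₀
    rw [hj]; exact X₀.one_mem
  have hxbU : π x' ∉ Subgroup.centralizer (Ub : Set (N ⧸ K)) := by
    intro hc
    apply hxU
    rw [Subgroup.mem_centralizer_iff]
    intro u hu
    let u' : N := ⟨u, hUN hu⟩
    have huUb : π u' ∈ Ub := (hmemUb _).mpr ⟨u', hu, rfl⟩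
    have h1 := (Subgroup.mem_centralizer_iff.mp hc) (π u') huUb
    have h2 : π (u' * x' * u'⁻¹ * x'⁻¹) = 1 := by
      rw [map_mul, map_mul, map_mul, map_inv, map_inv, h1]
      group
    rw [hπ1] at h2
    have h3 : u * x * u⁻¹ * x⁻¹ ∈ U := by
      have : x * u⁻¹ * x⁻¹ ∈ U := ‹U.Normal›.conj_mem _ (U.inv_mem hu) x
      have := U.mul_mem hu this
      have h4 : u * (x * u⁻¹ * x⁻¹) = u * x * u⁻¹ * x⁻¹ := by group
      rwa [h4] at this
    have h5 := hdis _ h3 h2
    have h6 : u * x = (u * x * u⁻¹ * x⁻¹) * (x * u) := by group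
    rw [h6, h5, one_mul]
  -- cardinalities
  have hcardW : ∀ W : Subgroup G, W ≤ U →
      Nat.card ((W.subgroupOf N).map π) = Nat.card W := by
    intro W hW
    rw [card_map_of_disjoint]
    · exact Nat.card_congr (Subgroup.subgroupOfEquivOfLe (hW.trans hUN)).toEquiv
    · rw [hπker, Subgroup.disjoint_def]
      intro n hn1 hn2
      have h1 : (n : G) ∈ U := hW (Subgroup.mem_subgroupOf.mp hn1)
      have h2 : (n : G) ∈ X₀ := Subgroup.mem_subgroupOf.mp hn2
      exact Subtype.ext (hdis _ h1 h2)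
  have hcent : Ub ⊓ Subgroup.centralizer {π t'} =
      (((U ⊓ Subgroup.centralizer {t} : Subgroup G)).subgroupOf N).map π := by
    ext γ
    constructor
    · rintro ⟨hγ1, hγ2⟩
      obtain ⟨n, hn, rfl⟩ := (hmemUb γ).mp hγ1
      refine ⟨n, ?_, rfl⟩
      rw [SetLike.mem_coe, Subgroup.mem_subgroupOf]
      refine ⟨hn, ?_⟩
      refine Subgroup.mem_centralizer_singleton_iff.mpr ?_
      have h1 : π n * π t' = π t' * π n := Subgroup.mem_centralizer_singleton_iff.mp hγ2
      have h2 : π (t' * n * t'⁻¹ * n⁻¹) = 1 := by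
        rw [map_mul, map_mul, map_mul, map_inv, map_inv, ← h1]
        group
      rw [hπ1] at h2
      have h3 : t * (n : G) * t⁻¹ * (n : G)⁻¹ ∈ U := by
        have : t * (n : G) * t⁻¹ ∈ U := ‹U.Normal›.conj_mem _ hn t
        exact U.mul_mem this (U.inv_mem hn)
      have h5 := hdis _ h3 h2
      have h6 : (n : G) * t = (t * (n : G) * t⁻¹ * (n : G)⁻¹)⁻¹ * (t * (n : G)) := by group
      rw [h6, h5, inv_one, one_mul]
    · rintro ⟨n, hn, rfl⟩
      rw [SetLike.mem_coe, Subgroup.mem_subgroupOf] at hn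
      refine ⟨(hmemUb _).mpr ⟨n, hn.1, rfl⟩, ?_⟩
      refine Subgroup.mem_centralizer_singleton_iff.mpr ?_
      have h1 : (n : G) * t = t * (n : G) := Subgroup.mem_centralizer_singleton_iff.mp hn.2
      rw [← map_mul, ← map_mul]
      congr 1
      exact Subtype.ext h1
  have hcard : Nat.card Ub = 2 * Nat.card (Ub ⊓ Subgroup.centralizer {π t'} : Subgroup (N ⧸ K)) := by
    rw [hcent, hcardW _ inf_le_left, hcardW U le_rfl]
    have h1 := Subgroup.card_mul_index ((U ⊓ Subgroup.centralizer {t}).subgroupOf U)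
    have h2 : ((U ⊓ Subgroup.centralizer {t}).subgroupOf U).index = 2 := hidx
    have h3 : Nat.card ((U ⊓ Subgroup.centralizer {t}).subgroupOf U) =
        Nat.card (U ⊓ Subgroup.centralizer {t} : Subgroup G) :=
      Nat.card_congr (Subgroup.subgroupOfEquivOfLe inf_le_left).toEquiv
    rw [h2, h3] at h1
    omega
  have hfour := Cfsg.Agent.Lib.Helper53.relIndex_eq_four Ub hUbc hUb2 (π x') (π t') r hr hr2 hxbr
    hxbU htxb hcard
  have hinv := Cfsg.Agent.Lib.Helper53.involves_perm4_of_config Ub hUbc hUb2 (π x') (π t') r hr hr2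
    hxbr hfour htb2 htxb
  exact involves_of_quotient N K hinv

end Cfsg.Agent.Lib.Helper18.S4Mod
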