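import Mathlib

/-!
# K-S5060-B: final assembly for S5060

From "`a(x) ∈ G` for all `x ∈ L = k(α)`" to `G = SL₂(L)` inside `SL₂(K)`, where `G` is generated by the
`a(c) = (1 c; 0 1)` and `b(cα) = (1 0; cα 1)`, `c ∈ k`.
-/

set_option autoImplicit false

namespace Cfsg.Agent.Lib.Helper18.SL2Gen

open Matrix

variable {K : Type*} [Field K]

/-- upper unitriangular element -/
def upA (x : K) : Matrix.SpecialLinearGroup (Fin 2) K :=
  ⟨!![1, x; 0, 1], by simp [Matrix.det_fin_two]⟩

/-- lower unitriangular element -/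
def lowB (y : K) : Matrix.SpecialLinearGroup (Fin 2) K :=
  ⟨!![1, 0; y, 1], by simp [Matrix.det_fin_two]⟩

theorem upA_coe (x : K) : ((upA x : Matrix.SpecialLinearGroup (Fin 2) K) : Matrix (Fin 2) (Fin 2) K)
    = !![1, x; 0, 1] := rfl

theorem lowB_coe (y : K) : ((lowB y : Matrix.SpecialLinearGroup (Fin 2) K) : Matrix (Fin 2) (Fin 2) K)
    = !![1, 0; y, 1] := rfl

theorem eq_of_coe_eq {g h : Matrix.SpecialLinearGroup (Fin 2) K}
    (e : (g : Matrix (Fin 2) (Fin 2) K) = (h : Matrix (Fin 2) (Fin 2) K)) : g = h := Subtype.ext e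

/-- the monomial element `n(t) = a(t) b(-1/t) a(t)` conjugates `a(x)` to `b(-x/t²)` -/
theorem lowB_mul_weyl (t : K) (ht : t ≠ 0) (x : K) :
    lowB (-x / t ^ 2) * (upA t * lowB (-1 / t) * upA t)
      = (upA t * lowB (-1 / t) * upA t) * upA x := by
  apply eq_of_coe_eq
  simp only [Matrix.SpecialLinearGroup.coe_mul, upA_coe, lowB_coe, Matrix.mul_fin_two]
  ext i j
  fin_cases i <;> fin_cases j <;> dsimp
  · field_simp; ring
  · field_simp; ring
  · field_simp; ring
  · field_simp; ring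

/-- decomposition of an element with nonzero bottom-left entry -/
theorem eq_upA_lowB_upA (g : Matrix.SpecialLinearGroup (Fin 2) K)
    (hr : (g : Matrix (Fin 2) (Fin 2) K) 1 0 ≠ 0) :
    g = upA (((g : Matrix (Fin 2) (Fin 2) K) 0 0 - 1) / (g : Matrix (Fin 2) (Fin 2) K) 1 0)
      * lowB ((g : Matrix (Fin 2) (Fin 2) K) 1 0)
      * upA (((g : Matrix (Fin 2) (Fin 2) K) 1 1 - 1) / (g : Matrix (Fin 2) (Fin 2) K) 1 0) := by
  have hdet : (g : Matrix (Fin 2) (Fin 2) K) 0 0 * (g : Matrix (Fin 2) (Fin 2) K) 1 1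
      - (g : Matrix (Fin 2) (Fin 2) K) 0 1 * (g : Matrix (Fin 2) (Fin 2) K) 1 0 = 1 := by
    have := g.2
    rw [Matrix.det_fin_two] at this
    exact this
  apply eq_of_coe_eq
  simp only [Matrix.SpecialLinearGroup.coe_mul, upA_coe, lowB_coe, Matrix.mul_fin_two]
  generalize (g : Matrix (Fin 2) (Fin 2) K) = M at hr hdet ⊢
  ext i j
  fin_cases i <;> fin_cases j <;> dsimp
  · field_simp; ring
  · field_simp
    linear_combination (-1 : K) * hdet
  · ring
  · field_simp; ring

/-- the subgroup of matrices with entries in an intermediate field -/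
def entrySub {k : Type*} [Field k] [Algebra k K] (L : IntermediateField k K) :
    Subgroup (Matrix.SpecialLinearGroup (Fin 2) K) where
  carrier := {g | ∀ i j : Fin 2, (g : Matrix (Fin 2) (Fin 2) K) i j ∈ L}
  one_mem' := by
    intro i j
    fin_cases i <;> fin_cases j <;> simp [zero_mem, one_mem]
  mul_mem' := by
    intro a b ha hb i j
    rw [Matrix.SpecialLinearGroup.coe_mul, Matrix.mul_apply, Fin.sum_univ_two]
    exact add_mem (mul_mem (ha _ _) (hb _ _)) (mul_mem (ha _ _) (hb _ _))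
  inv_mem' := by
    intro a ha i j
    rw [Matrix.SpecialLinearGroup.coe_inv, Matrix.adjugate_fin_two]
    fin_cases i <;> fin_cases j <;> simp [ha _ _]

theorem mem_entrySub {k : Type*} [Field k] [Algebra k K] (L : IntermediateField k K)
    (g : Matrix.SpecialLinearGroup (Fin 2) K) :
    g ∈ entrySub L ↔ ∀ i j : Fin 2, (g : Matrix (Fin 2) (Fin 2) K) i j ∈ L := Iff.rfl

theorem upA_mem_entrySub {k : Type*} [Field k] [Algebra k K] (L : IntermediateField k K) {x : K}
    (hx : x ∈ L) : upA x ∈ entrySub L := by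
  intro i j
  fin_cases i <;> fin_cases j <;> simp [upA_coe, zero_mem, one_mem, hx]

theorem lowB_mem_entrySub {k : Type*} [Field k] [Algebra k K] (L : IntermediateField k K) {y : K}
    (hy : y ∈ L) : lowB y ∈ entrySub L := by
  intro i j
  fin_cases i <;> fin_cases j <;> simp [lowB_coe, zero_mem, one_mem, hy]

/-- K-S5060-B: final assembly. -/
theorem closure_eq_of_upper {k K : Type*} [Field k] [Field K] [Algebra k K]
    (α : K) (hα0 : α ≠ 0)
    (hup : ∀ x : K, x ∈ IntermediateField.adjoin k ({α} : Set K) →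
      ∀ g : Matrix.SpecialLinearGroup (Fin 2) K, (g : Matrix (Fin 2) (Fin 2) K) = !![1, x; 0, 1] →
      g ∈ Subgroup.closure
      ({g : Matrix.SpecialLinearGroup (Fin 2) K | ∃ c : k, (g : Matrix (Fin 2) (Fin 2) K) = !![1, algebraMap k K c; 0, 1]} ∪
        {g : Matrix.SpecialLinearGroup (Fin 2) K | ∃ c : k, (g : Matrix (Fin 2) (Fin 2) K) = !![1, 0; algebraMap k K c * α, 1]})) :
    (Subgroup.closure ({g : Matrix.SpecialLinearGroup (Fin 2) K | ∃ c : k, (g : Matrix (Fin 2) (Fin 2) K) = !![1, algebraMap k K c; 0, 1]} ∪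
        {g : Matrix.SpecialLinearGroup (Fin 2) K | ∃ c : k, (g : Matrix (Fin 2) (Fin 2) K) = !![1, 0; algebraMap k K c * α, 1]}) :
      Set (Matrix.SpecialLinearGroup (Fin 2) K)) =
    {g : Matrix.SpecialLinearGroup (Fin 2) K | ∀ i j : Fin 2, (g : Matrix (Fin 2) (Fin 2) K) i j ∈ IntermediateField.adjoin k ({α} : Set K)} := by
  set S : Set (Matrix.SpecialLinearGroup (Fin 2) K) :=
    ({g : Matrix.SpecialLinearGroup (Fin 2) K | ∃ c : k, (g : Matrix (Fin 2) (Fin 2) K) = !![1, algebraMap k K c; 0, 1]} ∪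
        {g : Matrix.SpecialLinearGroup (Fin 2) K | ∃ c : k, (g : Matrix (Fin 2) (Fin 2) K) = !![1, 0; algebraMap k K c * α, 1]}) with hS
  set L : IntermediateField k K := IntermediateField.adjoin k ({α} : Set K) with hL
  have hαL : α ∈ L := IntermediateField.mem_adjoin_simple_self k α
  -- the generators lie in `entrySub L`
  have hle : Subgroup.closure S ≤ entrySub L := by
    rw [Subgroup.closure_le]
    rintro g (⟨c, hc⟩ | ⟨c, hc⟩)
    · have : g = upA (algebraMap k K c) := eq_of_coe_eq hc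
      rw [this]
      exact upA_mem_entrySub L (L.algebraMap_mem c)
    · have : g = lowB (algebraMap k K c * α) := eq_of_coe_eq hc
      rw [this]
      exact lowB_mem_entrySub L (mul_mem (L.algebraMap_mem c) hαL)
  -- upper unitriangular elements
  have hA : ∀ x : K, x ∈ L → upA x ∈ Subgroup.closure S := fun x hx => hup x hx (upA x) rfl
  -- the generator `b(α)`
  have hBα : lowB α ∈ Subgroup.closure S := by
    apply Subgroup.subset_closure
    right
    refine ⟨1, ?_⟩
    rw [map_one, one_mul]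
    rfl
  -- the monomial element
  have hαi : (-1 / α : K) ∈ L := div_mem (neg_mem (one_mem L)) hαL
  have ht0 : (-1 / α : K) ≠ 0 := div_ne_zero (neg_ne_zero.mpr one_ne_zero) hα0
  have htα : (-1 / (-1 / α) : K) = α := by field_simp
  have hn : upA (-1 / α) * lowB (-1 / (-1 / α)) * upA (-1 / α) ∈ Subgroup.closure S := by
    rw [htα]
    exact Subgroup.mul_mem _ (Subgroup.mul_mem _ (hA _ hαi) hBα) (hA _ hαi)
  -- lower unitriangular elements
  have hB : ∀ y : K, y ∈ L → lowB y ∈ Subgroup.closure S := by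
    intro y hy
    have h1 := lowB_mul_weyl (-1 / α) ht0 (-y * (-1 / α) ^ 2)
    have h2 : (-(-y * (-1 / α) ^ 2) / (-1 / α) ^ 2 : K) = y := by
      field_simp
    rw [h2] at h1
    have h3 : lowB y = (upA (-1 / α) * lowB (-1 / (-1 / α)) * upA (-1 / α))
        * upA (-y * (-1 / α) ^ 2) * (upA (-1 / α) * lowB (-1 / (-1 / α)) * upA (-1 / α))⁻¹ := by
      rw [← h1, mul_inv_cancel_right]
    rw [h3]
    refine Subgroup.mul_mem _ (Subgroup.mul_mem _ hn (hA _ ?_)) (Subgroup.inv_mem _ hn)
    exact mul_mem (neg_mem hy) (pow_mem hαi 2)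
  -- elements with nonzero bottom-left entry
  have hmain : ∀ g : Matrix.SpecialLinearGroup (Fin 2) K, g ∈ entrySub L →
      (g : Matrix (Fin 2) (Fin 2) K) 1 0 ≠ 0 → g ∈ Subgroup.closure S := by
    intro g hg hr
    rw [eq_upA_lowB_upA g hr]
    refine Subgroup.mul_mem _ (Subgroup.mul_mem _ (hA _ ?_) (hB _ (hg 1 0))) (hA _ ?_)
    · exact div_mem (sub_mem (hg 0 0) (one_mem L)) (hg 1 0)
    · exact div_mem (sub_mem (hg 1 1) (one_mem L)) (hg 1 0)
  ext g
  constructor
  · intro hg
    exact hle hg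
  · intro hg
    have hg' : g ∈ entrySub L := hg
    by_cases hr : (g : Matrix (Fin 2) (Fin 2) K) 1 0 = 0
    · have hdet : (g : Matrix (Fin 2) (Fin 2) K) 0 0 * (g : Matrix (Fin 2) (Fin 2) K) 1 1
          - (g : Matrix (Fin 2) (Fin 2) K) 0 1 * (g : Matrix (Fin 2) (Fin 2) K) 1 0 = 1 := by
        have := g.2
        rw [Matrix.det_fin_two] at this
        exact this
      have hp : (g : Matrix (Fin 2) (Fin 2) K) 0 0 ≠ 0 := by
        intro h0
        rw [h0, hr] at hdet
        simp at hdet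
      have h1 : lowB 1 * g ∈ Subgroup.closure S := by
        apply hmain _ (Subgroup.mul_mem _ (lowB_mem_entrySub L (one_mem L)) hg')
        rw [Matrix.SpecialLinearGroup.coe_mul, Matrix.mul_apply, Fin.sum_univ_two, lowB_coe]
        simp [hr, hp]
      have h2 : g = (lowB 1)⁻¹ * (lowB 1 * g) := by rw [inv_mul_cancel_left]
      rw [SetLike.mem_coe, h2]
      exact Subgroup.mul_mem _ (Subgroup.inv_mem _ (hB 1 (one_mem L))) h1
    · exact hmain g hg' hr

end Cfsg.Agent.Lib.Helper18.SL2Gen
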