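import Mathlib
import Cfsg.Prelude.Def_GeometricClasses
import Cfsg.Agent.Lib.Helper69.SLTDefs

/-!
# K-SLT-1a (keystone 597901): a Kronecker product acting as a nonzero scalar on a subspace of
codimension `< b` has a scalar left factor
-/

set_option autoImplicit false

namespace Cfsg.Agent.Lib.Helper18.SLT

open Matrix Cfsg.Agent.Lib.Helper69.SLT
open scoped Kronecker

variable {F : Type*} [Field F]

/-- the pure tensor `u ⊗ w` -/
def tens {a b : ℕ} (u : Fin a → F) : (Fin b → F) →ₗ[F] (Fin a × Fin b → F) where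
  toFun w := fun ij => u ij.1 * w ij.2
  map_add' w w' := by funext ij; simp [mul_add]
  map_smul' c w := by funext ij; simp [mul_left_comm]

theorem tens_apply {a b : ℕ} (u : Fin a → F) (w : Fin b → F) (ij : Fin a × Fin b) :
    tens u w ij = u ij.1 * w ij.2 := rfl

theorem tens_injective {a b : ℕ} {u : Fin a → F} (hu : u ≠ 0) :
    Function.Injective (tens (b := b) u) := by
  obtain ⟨i, hi⟩ := Function.ne_iff.mp hu
  intro w w' h
  funext j
  have := congrFun h (i, j)
  rw [tens_apply, tens_apply] at this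
  exact mul_left_cancel₀ hi this

theorem kron_mulVec_tens {a b : ℕ} (A : Matrix (Fin a) (Fin a) F) (B : Matrix (Fin b) (Fin b) F)
    (u : Fin a → F) (w : Fin b → F) :
    (A ⊗ₖ B) *ᵥ (tens u w) = tens (A *ᵥ u) (B *ᵥ w) := by
  funext ⟨i, j⟩
  rw [tens_apply]
  simp only [Matrix.mulVec, dotProduct, Matrix.kroneckerMap_apply, tens_apply]
  rw [Fintype.sum_prod_type, Finset.sum_mul_sum]
  refine Finset.sum_congr rfl fun i' _ => Finset.sum_congr rfl fun j' _ => ?_
  ring

/-- every nonzero vector is an eigenvector of `A` -/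
theorem exists_eigen {a b : ℕ} (A : Matrix (Fin a) (Fin a) F) (B : Matrix (Fin b) (Fin b) F)
    (μ : F) (hμ : μ ≠ 0) (c : ℕ) (hc : c < b) (h : a * b ≤ eigDim (A ⊗ₖ B) μ + c)
    (u : Fin a → F) (hu : u ≠ 0) : ∃ l : F, A *ᵥ u = l • u := by
  set E := Module.End.eigenspace (Matrix.toLin' (A ⊗ₖ B)) μ with hE
  set R := LinearMap.range (tens (b := b) u) with hR
  have hRdim : Module.finrank F R = b := by
    rw [hR, LinearMap.finrank_range_of_inj (tens_injective hu)]
    simp
  have hVdim : Module.finrank F (Fin a × Fin b → F) = a * b := by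
    simp
  have hsum := Submodule.finrank_sup_add_finrank_inf_eq R E
  have hle : Module.finrank F ↥(R ⊔ E) ≤ a * b := by
    rw [← hVdim]; exact Submodule.finrank_le _
  have hEdim : a * b ≤ Module.finrank F E + c := h
  have hpos : 0 < Module.finrank F ↥(R ⊓ E) := by omega
  obtain ⟨⟨v, hv⟩, hv0⟩ := Module.finrank_pos_iff_exists_ne_zero.mp hpos
  have hvR : v ∈ R := (Submodule.mem_inf.mp hv).1
  have hvE : v ∈ E := (Submodule.mem_inf.mp hv).2
  have hv0' : v ≠ 0 := fun h0 => hv0 (Subtype.ext h0)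
  rw [hR, LinearMap.mem_range] at hvR
  obtain ⟨w, rfl⟩ := hvR
  have hw0 : w ≠ 0 := by
    intro h0
    apply hv0'
    rw [h0, map_zero]
  rw [hE, mem_eigenspace_toLin', kron_mulVec_tens] at hvE
  obtain ⟨i₀, hi₀⟩ := Function.ne_iff.mp hu
  obtain ⟨j₀, hj₀⟩ := Function.ne_iff.mp hw0
  have key : ∀ i j, (A *ᵥ u) i * (B *ᵥ w) j = μ * (u i * w j) := by
    intro i j
    have := congrFun hvE (i, j)
    simpa [tens_apply] using this
  have hB0 : (B *ᵥ w) j₀ ≠ 0 := by
    intro h0
    have := key i₀ j₀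
    rw [h0, mul_zero] at this
    exact mul_ne_zero hμ (mul_ne_zero hi₀ hj₀) this.symm
  refine ⟨μ * w j₀ / (B *ᵥ w) j₀, ?_⟩
  funext i
  have := key i j₀
  rw [Pi.smul_apply, smul_eq_mul]
  field_simp
  rw [this]
  ring

/-- **K-SLT-1a** (keystone 597901). -/
theorem kron_left_scalar {a b : ℕ} (A : Matrix (Fin a) (Fin a) F) (B : Matrix (Fin b) (Fin b) F)
    (μ : F) (hμ : μ ≠ 0) (c : ℕ) (hc : c < b) (h : a * b ≤ eigDim (A ⊗ₖ B) μ + c) :
    ∃ l : F, A = l • (1 : Matrix (Fin a) (Fin a) F) := by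
  have heig := exists_eigen A B μ hμ c hc h
  rcases Nat.eq_zero_or_pos a with ha | ha
  · subst ha
    exact ⟨0, by ext i; exact i.elim0⟩
  -- eigenvalue on each basis vector
  have hsingle : ∀ i : Fin a, (Pi.single i (1 : F) : Fin a → F) ≠ 0 := by
    intro i h0
    have := congrFun h0 i
    simp at this
  choose lam hlam using fun i : Fin a => heig (Pi.single i 1) (hsingle i)
  -- A is diagonal with entries `lam`
  have hcol : ∀ i k : Fin a, A k i = if k = i then lam i else 0 := by
    intro i k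
    have := congrFun (hlam i) k
    rw [Matrix.mulVec_single_one] at this
    simpa [Pi.single_apply, Matrix.col_apply] using this
  -- all `lam` are equal
  have hconst : ∀ i j : Fin a, lam i = lam j := by
    intro i j
    by_cases hij : i = j
    · rw [hij]
    have hne : (Pi.single i (1 : F) + Pi.single j (1 : F) : Fin a → F) ≠ 0 := by
      intro h0
      have := congrFun h0 i
      simp [hij] at this
    obtain ⟨l, hl⟩ := heig _ hne
    rw [Matrix.mulVec_add, hlam i, hlam j] at hl
    have h1 := congrFun hl i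
    have h2 := congrFun hl j
    simp [hij, Ne.symm hij] at h1 h2
    rw [h1, h2]
  refine ⟨lam ⟨0, ha⟩, ?_⟩
  ext k i
  rw [hcol i k, Matrix.smul_apply, Matrix.one_apply, smul_eq_mul, hconst i ⟨0, ha⟩]
  split_ifs <;> simp

end Cfsg.Agent.Lib.Helper18.SLT
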