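import Mathlib

set_option autoImplicit false

namespace Cfsg.Agent.Lib.Helper18.SNDih

open DihedralGroup

/-- In a dihedral group `D_k` with `k` odd, a normal non-commutative subgroup is everything. -/
theorem eq_top_of_normal_of_not_comm (k : ℕ) (hk : Odd k) (N : Subgroup (DihedralGroup k))
    [hN : N.Normal] (hna : ¬ IsMulCommutative N) : N = ⊤ := by
  -- N contains a reflection
  have h1 : ∃ i : ZMod k, sr i ∈ N := by
    by_contra hcon
    push Not at hcon
    apply hna
    refine ⟨⟨?_⟩⟩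
    rintro ⟨a, ha⟩ ⟨b, hb⟩
    apply Subtype.ext
    cases a with
    | r i =>
      cases b with
      | r j => simp [add_comm]
      | sr j => exact absurd hb (hcon j)
    | sr i => exact absurd ha (hcon i)
  obtain ⟨i, hi⟩ := h1
  obtain ⟨m, rfl⟩ := hk
  have h2 : ((2 : ZMod (2 * m + 1)) * ((m + 1 : ℕ) : ZMod (2 * m + 1))) = 1 := by
    have : ((2 * (m + 1) : ℕ) : ZMod (2 * m + 1)) = 1 := by
      have h3 : (2 * (m + 1) : ℕ) = (2 * m + 1) + 1 := by ring
      rw [h3, Nat.cast_add, ZMod.natCast_self]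
      simp
    rw [← this]; push_cast; ring
  have hall : ∀ j : ZMod (2 * m + 1), sr j ∈ N := by
    intro j
    obtain ⟨t, ht⟩ : ∃ t : ZMod (2 * m + 1), i + t + t = j := by
      refine ⟨(j - i) * ((m + 1 : ℕ) : ZMod (2 * m + 1)), ?_⟩
      have : (j - i) * ((m + 1 : ℕ) : ZMod (2 * m + 1)) + (j - i) * ((m + 1 : ℕ) : ZMod (2 * m + 1))
          = (j - i) * (2 * ((m + 1 : ℕ) : ZMod (2 * m + 1))) := by ring
      rw [add_assoc, this, h2]; ring
    have hc := hN.conj_mem (sr i) hi (r (-t))
    have : r (-t) * sr i * (r (-t))⁻¹ = sr j := by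
      simp only [inv_r, neg_neg, r_mul_sr, sr_mul_r]
      rw [← ht]; congr 1; ring
    rw [this] at hc
    exact hc
  rw [eq_top_iff]
  intro g _
  cases g with
  | r j =>
    have : r j = sr 0 * sr j := by simp
    rw [this]
    exact N.mul_mem (hall 0) (hall j)
  | sr j => exact hall j

end Cfsg.Agent.Lib.Helper18.SNDih

namespace Cfsg.Agent.Lib.Helper18.SNDih

/-- Transported version: a group isomorphic to `D_k`, `k` odd. -/
theorem eq_top_of_equiv_dihedral {M : Type*} [Group M] (k : ℕ) (hk : Odd k)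
    (e : M ≃* DihedralGroup k) (H : Subgroup M) [hH : H.Normal] (hna : ¬ IsMulCommutative H) :
    H = ⊤ := by
  have hN : (H.map e.toMonoidHom).Normal := hH.map _ e.surjective
  have h1 : ¬ IsMulCommutative (H.map e.toMonoidHom) := by
    intro hc
    apply hna
    refine ⟨⟨?_⟩⟩
    rintro ⟨a, ha⟩ ⟨b, hb⟩
    apply Subtype.ext
    have hea : e a ∈ H.map e.toMonoidHom := ⟨a, ha, rfl⟩
    have heb : e b ∈ H.map e.toMonoidHom := ⟨b, hb, rfl⟩
    have := hc.is_comm.comm ⟨e a, hea⟩ ⟨e b, heb⟩
    have h2 : e a * e b = e b * e a := congrArg Subtype.val this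
    apply e.injective
    simpa using h2
  have h3 := eq_top_of_normal_of_not_comm k hk (H.map e.toMonoidHom) h1
  rw [eq_top_iff]
  intro x _
  have : e x ∈ H.map e.toMonoidHom := by rw [h3]; trivial
  obtain ⟨y, hy, hyx⟩ := this
  have : y = x := e.injective hyx
  rwa [← this]

end Cfsg.Agent.Lib.Helper18.SNDih
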