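import Mathlib

set_option autoImplicit false
set_option linter.style.haveILetI false

namespace Cfsg.Agent.Lib.Helper18.SNSmall

/-- A finite group with fewer than six elements is commutative. -/
theorem mul_comm_of_card_lt_six {M : Type*} [Group M] [Finite M] (h : Nat.card M < 6)
    (a b : M) : a * b = b * a := by
  have hpos : 0 < Nat.card M := Nat.card_pos
  have hcases : Nat.card M = 1 ∨ Nat.card M = 2 ∨ Nat.card M = 3 ∨ Nat.card M = 4 ∨
      Nat.card M = 5 := by omega
  have hprime : ∀ p : ℕ, p.Prime → Nat.card M = p → a * b = b * a := by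
    intro p hp hc
    haveI : Fact p.Prime := ⟨hp⟩
    haveI := isCyclic_of_prime_card hc
    exact (IsCyclic.isMulCommutative (α := M)).is_comm.comm a b
  rcases hcases with h1 | h2 | h3 | h4 | h5
  · haveI : Subsingleton M := (Nat.card_eq_one_iff_unique.mp h1).1
    rw [Subsingleton.elim a b]
  · exact hprime 2 Nat.prime_two h2
  · exact hprime 3 Nat.prime_three h3
  · haveI : Fact (Nat.Prime 2) := ⟨Nat.prime_two⟩
    have h4' : Nat.card M = 2 ^ 2 := by rw [h4]; norm_num
    exact (IsPGroup.isMulCommutative_of_card_eq_prime_sq h4').is_comm.comm a b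
  · exact hprime 5 (by norm_num) h5

/-- A non-commutative subgroup of a finite group has at least six elements. -/
theorem six_le_card_of_not_comm {M : Type*} [Group M] [Finite M] (H : Subgroup M)
    (hna : ¬ IsMulCommutative H) : 6 ≤ Nat.card H := by
  by_contra hlt
  push Not at hlt
  apply hna
  exact ⟨⟨fun a b => mul_comm_of_card_lt_six hlt a b⟩⟩

/-- In a group of order six, a non-commutative subgroup is everything. -/
theorem eq_top_of_card_six {M : Type*} [Group M] (hM : Nat.card M = 6) (H : Subgroup M)
    (hna : ¬ IsMulCommutative H) : H = ⊤ := by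
  haveI : Finite M := Nat.finite_of_card_ne_zero (by rw [hM]; norm_num)
  have h6 := six_le_card_of_not_comm H hna
  apply Subgroup.eq_top_of_card_eq
  have hle : Nat.card H ≤ Nat.card M := Subgroup.card_le_card_group H
  omega

theorem card_alternatingGroup_four : Nat.card (alternatingGroup (Fin 4)) = 12 := by
  rw [Nat.card_eq_fintype_card]; decide +kernel

theorem card_image_sq_alternatingGroup_four :
    (Finset.univ.image (fun g : alternatingGroup (Fin 4) => g ^ 2)).card = 9 := by
  decide +kernel

/-- `A₄` has no subgroup of index two. -/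
theorem index_ne_two_alternatingGroup_four (N : Subgroup (alternatingGroup (Fin 4))) :
    N.index ≠ 2 := by
  intro h
  have hsq : ∀ g : alternatingGroup (Fin 4), g ^ 2 ∈ N := Subgroup.sq_mem_of_index_two h
  have hcard : Nat.card N = 6 := by
    have := N.card_mul_index
    rw [h, card_alternatingGroup_four] at this
    omega
  classical
  have hsub : (Finset.univ.image (fun g : alternatingGroup (Fin 4) => g ^ 2)) ⊆
      (Finset.univ.filter (fun g => g ∈ N)) := by
    intro x hx
    rw [Finset.mem_image] at hx
    obtain ⟨g, _, rfl⟩ := hx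
    simp [hsq g]
  have h9 := Finset.card_le_card hsub
  rw [card_image_sq_alternatingGroup_four] at h9
  have : (Finset.univ.filter (fun g : alternatingGroup (Fin 4) => g ∈ N)).card = Nat.card N := by
    rw [Nat.card_eq_fintype_card, Fintype.card_subtype]
  rw [this, hcard] at h9
  omega


/-- In a group isomorphic to `A₄`, a non-commutative subgroup is everything. -/
theorem eq_top_of_equiv_alternatingFour {M : Type*} [Group M]
    (e : M ≃* alternatingGroup (Fin 4)) (H : Subgroup M) (hna : ¬ IsMulCommutative H) :
    H = ⊤ := by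
  have hM : Nat.card M = 12 := by
    rw [Nat.card_congr e.toEquiv, card_alternatingGroup_four]
  haveI : Finite M := Nat.finite_of_card_ne_zero (by rw [hM]; norm_num)
  have h6 := six_le_card_of_not_comm H hna
  have hdvd : Nat.card H ∣ 12 := hM ▸ Subgroup.card_subgroup_dvd_card H
  have hmul := H.card_mul_index
  rw [hM] at hmul
  have hidx : H.index ≠ 2 := by
    intro h2
    apply index_ne_two_alternatingGroup_four (H.map (e : M →* alternatingGroup (Fin 4)))
    rw [Subgroup.index_map_equiv]
    exact h2
  have hle : Nat.card H ≤ 12 := Nat.le_of_dvd (by norm_num) hdvd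
  have hcard : Nat.card H = 12 := by
    have hpos : 0 < H.index := Nat.pos_of_ne_zero (fun h0 => by rw [h0] at hmul; omega)
    interval_cases hc : Nat.card H
    · exfalso; apply hidx; omega
    · exfalso; omega
    · exfalso; omega
    · exfalso; omega
    · exfalso; omega
    · exfalso; omega
    · rfl
  apply Subgroup.eq_top_of_card_eq
  rw [hcard, hM]

/-- `S₄` is not a CA-group: a group containing a copy of `S₄` does not have transitive
commuting on non-identity elements. -/
theorem not_commTrans_of_equiv_permFour {G : Type*} [Group G] (M : Subgroup G)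
    (e : M ≃* Equiv.Perm (Fin 4))
    (hCA : ∀ a b c : G, a ≠ 1 → b ≠ 1 → c ≠ 1 → Commute a b → Commute b c → Commute a c) :
    False := by
  obtain ⟨a, b, c, ha, hb, hc, hab, hbc, hac⟩ : ∃ a b c : Equiv.Perm (Fin 4),
      a ≠ 1 ∧ b ≠ 1 ∧ c ≠ 1 ∧ a * b = b * a ∧ b * c = c * b ∧ a * c ≠ c * a := by
    decide +kernel
  have key : ∀ x : Equiv.Perm (Fin 4), x ≠ 1 → ((e.symm x : M) : G) ≠ 1 := by
    intro x hx h1
    apply hx
    have : (e.symm x : M) = 1 := Subtype.ext h1
    have h2 : e (e.symm x) = e 1 := by rw [this]
    simpa using h2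
  have hcomm : ∀ x y : Equiv.Perm (Fin 4), x * y = y * x →
      Commute ((e.symm x : M) : G) ((e.symm y : M) : G) := by
    intro x y hxy
    have : e.symm x * e.symm y = e.symm y * e.symm x := by
      rw [← map_mul, ← map_mul, hxy]
    exact congrArg Subtype.val this
  have h := hCA _ _ _ (key a ha) (key b hb) (key c hc) (hcomm a b hab) (hcomm b c hbc)
  apply hac
  have h2 : (e.symm a : M) * e.symm c = e.symm c * e.symm a := Subtype.ext h
  have h3 : e.symm (a * c) = e.symm (c * a) := by rw [map_mul, map_mul, h2]
  exact e.symm.injective h3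

end Cfsg.Agent.Lib.Helper18.SNSmall
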