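import Cfsg.Agent.Lib.Helper24.CellsB
import Cfsg.Agent.Lib.Helper24.UCard
import Cfsg.Agent.Lib.Helper24.Words
import Cfsg.Agent.Lib.Helper38.SQ.Defs

/-!
# K-SQ (S4625, architect helper38): the GENERIC lemmas for the untwisted exceptional families G2, F4, E6, E7, E8.

* `unip2_posUnipotent E k hk` : for any `Helper24.Env D F tab orb` over a field with `2 ^ k` elements of characteristic two,
  `Unip2 (D.group F) (2 ^ (k * (D.nroots / 2)))` (the positive unipotent subgroup, generated by the involutions `x_r(t)`).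
* `twoPart_of_formula` : `g * N = (2 ^ k) ^ a * P`, `g`, `P` odd `⟹` `N = 2 ^ (k * a) * m`, `m` odd.
* `sylSq_of_env E k hk0 hk g P hg hP hord` : the leaf, from the order formula `g * |D.group F| = q ^ (nroots / 2) * P`.
* `not_two_dvd_pow_sub_one`, `not_two_dvd_mul` : oddness of the factors `q ^ i - 1` and of products.
Imports only the light part of Helper24 (no E8 tables).
-/

set_option autoImplicit false
set_option linter.unusedVariables false
set_option linter.unusedSectionVars false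
set_option linter.style.longLine false

namespace Cfsg.Agent.Lib.Helper18.SQ

open Cfsg Cfsg.Lie Cfsg.Agent.Lib.Helper38.SQ Cfsg.Agent.Lib.Helper24

/-- GENERIC: the positive unipotent subgroup of a Chevalley group in characteristic two is a 2-group of order
`q ^ (number of positive roots)` generated by involutions. -/
theorem unip2_posUnipotent {F : Type*} [Field F] [Fintype F] [CharP F 2] {D : ChevalleyDatum}
    {tab : List ℕ} {orb : List (ℕ × ℕ × ℕ)} (E : Env D F tab orb) (k : ℕ)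
    (hk : Fintype.card F = 2 ^ k) : Unip2 ↥(D.group F) (2 ^ (k * (D.nroots / 2))) := by
  have hcard : Nat.card (D.posUnipotent F) = 2 ^ (k * (D.nroots / 2)) := by
    rw [E.hF.card_posUnipotent E.hC E.hU E.hNR E.hcomm, hk, ← pow_mul]
  have hfact : Fact (Nat.Prime 2) := ⟨Nat.prime_two⟩
  have hP : IsPGroup 2 ↥(D.posUnipotent F) := IsPGroup.of_card hcard
  have h1 : Unip2 ↥(D.posUnipotent F) (2 ^ (k * (D.nroots / 2))) := by
    refine ⟨⊤, hP.to_subgroup ⊤, ?_, ?_⟩
    · rw [Subgroup.card_top, hcard]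
    · intro x _
      have hS : Subgroup.closure ((fun s : ↥(D.posUnipotent F) => (s : GL D.Idx F)) ⁻¹'
          {g : GL D.Idx F | ∃ (r : ℕ) (t : F), D.IsPosRoot r ∧
            (g : Matrix D.Idx D.Idx F) = D.x F r t}) = ⊤ :=
        Subgroup.closure_closure_coe_preimage
      have hS2 : ∀ s ∈ ((fun s : ↥(D.posUnipotent F) => (s : GL D.Idx F)) ⁻¹'
          {g : GL D.Idx F | ∃ (r : ℕ) (t : F), D.IsPosRoot r ∧
            (g : Matrix D.Idx D.Idx F) = D.x F r t}), s ^ 2 ∈ commutator ↥(D.posUnipotent F) := by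
        rintro s ⟨r, t, -, hs⟩
        have h2 : s ^ 2 = 1 := by
          apply Subtype.ext
          apply Units.ext
          show (((s : GL D.Idx F) ^ 2 : GL D.Idx F) : Matrix D.Idx D.Idx F) = 1
          rw [Units.val_pow_eq_pow_val, hs, sq, E.hF.x_add, CharTwo.add_self_eq_zero, x_zero]
        rw [h2]
        exact Subgroup.one_mem _
      exact sq_mem_commutator_of_closure_top _ hS hS2 x
  exact Unip2.of_injective _ (Subgroup.inclusion E.hF.pos_le_group)
    (Subgroup.inclusion_injective _) h1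


/-- `q ^ i - 1` is odd for `q` even -/
theorem not_two_dvd_pow_sub_one {q : ℕ} (hq : 2 ∣ q) (hq0 : 0 < q) (i : ℕ) (hi : 0 < i) :
    ¬ 2 ∣ q ^ i - 1 := by
  have h1 : 2 ∣ q ^ i := dvd_pow hq (by omega)
  have h2 : 0 < q ^ i := pow_pos hq0 i
  omega

/-- `q ^ i + 1` is odd for `q` even -/
theorem not_two_dvd_pow_add_one {q : ℕ} (hq : 2 ∣ q) (i : ℕ) (hi : 0 < i) :
    ¬ 2 ∣ q ^ i + 1 := by
  have h1 : 2 ∣ q ^ i := dvd_pow hq (by omega)
  omega

/-- a product of odd numbers is odd -/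
theorem not_two_dvd_mul {a b : ℕ} (ha : ¬ 2 ∣ a) (hb : ¬ 2 ∣ b) : ¬ 2 ∣ a * b := by
  intro h
  rcases (Nat.prime_two.dvd_mul).mp h with h | h
  · exact ha h
  · exact hb h

/-- the 2-part from an order formula `g * N = q ^ a * P` with `g`, `P` odd, `q = 2 ^ k` -/
theorem twoPart_of_formula (N g P k a : ℕ) (hg : ¬ 2 ∣ g) (hP : ¬ 2 ∣ P)
    (h : g * N = (2 ^ k) ^ a * P) : ∃ m : ℕ, ¬ 2 ∣ m ∧ N = 2 ^ (k * a) * m := by
  have hqq : 2 ^ (k * a) = (2 ^ k) ^ a := by rw [pow_mul]
  rw [hqq]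
  have hcop : Nat.Coprime ((2 ^ k) ^ a) g := by
    rw [← pow_mul]
    apply Nat.Coprime.pow_left
    exact (Nat.Prime.coprime_iff_not_dvd Nat.prime_two).mpr hg
  have hdvd : (2 ^ k) ^ a ∣ N := by
    apply hcop.dvd_of_dvd_mul_left
    rw [h]
    exact ⟨P, rfl⟩
  obtain ⟨m, hm⟩ := hdvd
  refine ⟨m, ?_, hm⟩
  intro h2m
  rw [hm] at h
  have hqpos : 0 < (2 ^ k) ^ a := by positivity
  have h3 : g * m = P := by
    apply Nat.eq_of_mul_eq_mul_left hqpos
    rw [← mul_assoc, mul_comm ((2 ^ k) ^ a), mul_assoc, h]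
  apply hP
  rw [← h3]
  exact dvd_mul_of_dvd_right h2m _

/-- GENERIC LEAF: `SylSq (D.group F)` from an `Env` and the order formula `g * |D.group F| = q ^ (nroots / 2) * P`
with `g`, `P` odd. -/
theorem sylSq_of_env {F : Type*} [Field F] [Fintype F] [CharP F 2] {D : ChevalleyDatum}
    {tab : List ℕ} {orb : List (ℕ × ℕ × ℕ)} (E : Env D F tab orb) (k : ℕ)
    (hk : Fintype.card F = 2 ^ k) (g P : ℕ) (hg : ¬ 2 ∣ g) (hP : ¬ 2 ∣ P)
    (hord : g * Nat.card ↥(D.group F) = (2 ^ k) ^ (D.nroots / 2) * P) : SylSq ↥(D.group F) := by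
  obtain ⟨m, hm, hN⟩ := twoPart_of_formula (Nat.card ↥(D.group F)) g P k (D.nroots / 2) hg hP hord
  exact SylSq.of_unip_twoPart (k * (D.nroots / 2)) (unip2_posUnipotent E k hk) ⟨m, hm, hN⟩

end Cfsg.Agent.Lib.Helper18.SQ
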