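import Cfsg.Agent.S1063
import Cfsg.Agent.Lib.Helper24.Ord_E6
import Cfsg.Agent.Lib.Helper18.SQChev

/-!
# K-SQ-E6 (keystone 462509, pack K-SQ of helper38 for S4625): `E₆(2^k)` has a Sylow 2-subgroup `U` (the positive
unipotent subgroup, generated by the involutions `x_r(t)`, `r > 0`) with `x ^ 2 ∈ ⁅U, U⁆` for all `x ∈ U`.
-/

set_option autoImplicit false
set_option linter.unusedVariables false
set_option linter.unusedSectionVars false
set_option linter.style.longLine false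

namespace Cfsg.Agent.Lib.Helper18.SQ

open Cfsg Cfsg.Lie Cfsg.Agent.Lib.Helper38.SQ Cfsg.Agent.Lib.Helper24

/-- **K-SQ-E6** (462509). -/
theorem sylSq_e6 (F : Type) [Field F] [Fintype F] [CharP F 2] :
    SylSq (Cfsg.Lie.chevE6.group F) := by
  have hfact : Fact (Nat.Prime 2) := ⟨Nat.prime_two⟩
  obtain ⟨n, -, hn⟩ := FiniteField.card F 2
  obtain ⟨E⟩ := env_of_facts (F := F) chevE6 (by simp) nTabE6 orbTabE6 nfacts_E6 hnfacts_E6 cfacts_E6
  have e : chevE6.nroots / 2 = 36 := by decide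
  have hord := Cfsg.Agent.S1063.result (F := F) hn
  have hq2 : 2 ∣ 2 ^ (n : ℕ) := dvd_pow_self 2 (by have := n.pos; omega)
  have hq0 : 0 < 2 ^ (n : ℕ) := by positivity
  have hg : ¬ 2 ∣ Nat.gcd 3 (2 ^ (n : ℕ) - 1) := by
    intro h
    have : 2 ∣ 3 := dvd_trans h (Nat.gcd_dvd_left 3 _)
    omega
  have hP : ¬ 2 ∣ ((2 ^ (n : ℕ)) ^ 2 - 1) * ((2 ^ (n : ℕ)) ^ 5 - 1) * ((2 ^ (n : ℕ)) ^ 6 - 1) *
      ((2 ^ (n : ℕ)) ^ 8 - 1) * ((2 ^ (n : ℕ)) ^ 9 - 1) * ((2 ^ (n : ℕ)) ^ 12 - 1) := by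
    refine not_two_dvd_mul (not_two_dvd_mul (not_two_dvd_mul (not_two_dvd_mul (not_two_dvd_mul
      ?_ ?_) ?_) ?_) ?_) ?_
    · exact not_two_dvd_pow_sub_one hq2 hq0 2 (by omega)
    · exact not_two_dvd_pow_sub_one hq2 hq0 5 (by omega)
    · exact not_two_dvd_pow_sub_one hq2 hq0 6 (by omega)
    · exact not_two_dvd_pow_sub_one hq2 hq0 8 (by omega)
    · exact not_two_dvd_pow_sub_one hq2 hq0 9 (by omega)
    · exact not_two_dvd_pow_sub_one hq2 hq0 12 (by omega)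
  refine sylSq_of_env E (n : ℕ) hn _ _ hg hP ?_
  rw [e, hord]
  ring

end Cfsg.Agent.Lib.Helper18.SQ
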