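import Mathlib
import Cfsg.Prelude.Def_GeometricClasses
import Cfsg.Agent.Lib.Helper87.SU3Defs
import Cfsg.Agent.Lib.Helper57.SU3KC1

/-!
# K-SU3-C2 (keystone 577802): the centraliser of the element `x5m ω` of order 7 in `SU_3(5)`

`x = x5m ω` has the cyclic vector `e₀`, so a matrix commuting with `x` is `α + β x + γ x²`; the unitary
ones of determinant one among the `25³` candidates are the 21 matrices `ω^a x^b` (kernel-checked over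
`F25 = QuadraticAlgebra (ZMod 5) 2 0`, for both roots `ω`), and the statement is transported along a ring
isomorphism `F ≃+* F25`.
-/

set_option autoImplicit false
set_option linter.unusedSectionVars false
set_option linter.style.longLine false
set_option linter.unusedVariables false

namespace Cfsg.Agent.Lib.Helper18.SU3K

open Cfsg Cfsg.Geo Matrix Cfsg.Agent.Lib.Helper87.SU3 Cfsg.Agent.Lib.Helper57.SU3K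

/-- A matrix commuting with `X`, where `e₀, X e₀, X² e₀` is a basis (`C` = the matrix with these
columns, `D` its inverse), is a polynomial in `X` of degree at most two. -/
theorem eq_poly_of_commute {R : Type*} [CommRing R] (X Y G C D : Matrix (Fin 3) (Fin 3) R)
    (hY : X * X = Y) (hG : G * X = X * G)
    (hC0 : ∀ k, C k 0 = (1 : Matrix (Fin 3) (Fin 3) R) k 0) (hC1 : ∀ k, C k 1 = X k 0)
    (hC2 : ∀ k, C k 2 = Y k 0) (hCD : C * D = 1) :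
    ∃ α β γ : R, G = α • (1 : Matrix (Fin 3) (Fin 3) R) + β • X + γ • Y := by
  obtain ⟨t, htdef⟩ : ∃ t : Fin 3 → R, t = D *ᵥ (fun k => G k 0) := ⟨_, rfl⟩
  refine ⟨t 0, t 1, t 2, ?_⟩
  obtain ⟨H, hH⟩ : ∃ H : Matrix (Fin 3) (Fin 3) R, H = t 0 • 1 + t 1 • X + t 2 • Y := ⟨_, rfl⟩
  rw [← hH]
  have hHX : H * X = X * H := by
    rw [hH, ← hY]
    simp only [add_mul, mul_add, smul_mul_assoc, mul_smul_comm, one_mul, mul_one, mul_assoc]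
  have key : ∀ M : Matrix (Fin 3) (Fin 3) R, M * X = X * M → ∀ i,
      (M * C) i 0 = M i 0 ∧ (M * C) i 1 = (X * M) i 0 ∧ (M * C) i 2 = (Y * M) i 0 := by
    intro M hM i
    have hMY : M * Y = Y * M := by rw [← hY, ← mul_assoc, hM, mul_assoc, hM, mul_assoc]
    refine ⟨?_, ?_, ?_⟩
    · have : (M * C) i 0 = (M * (1 : Matrix (Fin 3) (Fin 3) R)) i 0 := by
        simp only [Matrix.mul_apply, hC0]
      rw [this, mul_one]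
    · rw [← hM]; simp only [Matrix.mul_apply, hC1]
    · rw [← hMY]; simp only [Matrix.mul_apply, hC2]
  have hcol : ∀ k, H k 0 = G k 0 := by
    intro k
    have h1 : (C *ᵥ t) k = G k 0 := by
      rw [htdef, Matrix.mulVec_mulVec, hCD, Matrix.one_mulVec]
    rw [← h1, hH]
    simp only [Matrix.mulVec, dotProduct, Fin.sum_univ_three, hC0, hC1, hC2, Matrix.add_apply,
      Matrix.smul_apply, smul_eq_mul]
    ring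
  have hGC : G * C = H * C := by
    ext i j
    obtain ⟨g0, g1, g2⟩ := key G hG i
    obtain ⟨h0, h1, h2⟩ := key H hHX i
    fin_cases j
    · change (G * C) i 0 = (H * C) i 0
      rw [g0, h0, hcol]
    · change (G * C) i 1 = (H * C) i 1
      rw [g1, h1]; simp only [Matrix.mul_apply, hcol]
    · change (G * C) i 2 = (H * C) i 2
      rw [g2, h2]; simp only [Matrix.mul_apply, hcol]
  calc G = G * (C * D) := by rw [hCD, mul_one]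
    _ = H * (C * D) := by rw [← mul_assoc, hGC, mul_assoc]
    _ = H := by rw [hCD, mul_one]

/-- `3 × 3` matrices over `F25`. -/
abbrev M25 := Matrix (Fin 3) (Fin 3) F25

/-- the Frobenius `x ↦ x ^ 5` of `F25`, as conjugation. -/
def cj5 (x : F25) : F25 := ⟨x.re, -x.im⟩

theorem pow5 : ∀ x : F25, x ^ 5 = cj5 x := by decide +kernel

/-- the hermitian product of two columns. -/
def herm (x0 x1 x2 y0 y1 y2 : F25) : F25 := x0 * cj5 y0 + x1 * cj5 y1 + x2 * cj5 y2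

/-- the `3 × 3` determinant. -/
def det3 (a b c d e f g h i : F25) : F25 :=
  a * (e * i - f * h) - b * (d * i - f * g) + c * (d * h - e * g)

theorem roots25 : ∀ w : F25, w ^ 2 + w + 1 = 0 → w = ⟨2, 2⟩ ∨ w = ⟨2, 3⟩ := by decide +kernel

/-- the generic assembly: from the kernel-checked data for one root `w` to the centraliser statement
over `F25`. -/
theorem main_of_data (w : F25) (X Y C D : M25) (mk : F25 → F25 → F25 → M25)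
    (tab : Fin 3 → Fin 7 → F25 × F25 × F25)
    (hX : x5m w = X) (hY : X * X = Y)
    (hC0 : ∀ k, C k 0 = (1 : M25) k 0) (hC1 : ∀ k, C k 1 = X k 0) (hC2 : ∀ k, C k 2 = Y k 0)
    (hCD : C * D = 1)
    (hmk : ∀ α β γ : F25, α • (1 : M25) + β • X + γ • Y = mk α β γ)
    (hdec : ∀ α β γ : F25,
      herm (mk α β γ 0 0) (mk α β γ 1 0) (mk α β γ 2 0) (mk α β γ 0 0) (mk α β γ 1 0) (mk α β γ 2 0) = 1 →
      herm (mk α β γ 0 1) (mk α β γ 1 1) (mk α β γ 2 1) (mk α β γ 0 1) (mk α β γ 1 1) (mk α β γ 2 1) = 1 →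
      herm (mk α β γ 0 0) (mk α β γ 1 0) (mk α β γ 2 0) (mk α β γ 0 1) (mk α β γ 1 1) (mk α β γ 2 1) = 0 →
      herm (mk α β γ 0 2) (mk α β γ 1 2) (mk α β γ 2 2) (mk α β γ 0 2) (mk α β γ 1 2) (mk α β γ 2 2) = 1 →
      herm (mk α β γ 0 0) (mk α β γ 1 0) (mk α β γ 2 0) (mk α β γ 0 2) (mk α β γ 1 2) (mk α β γ 2 2) = 0 →
      herm (mk α β γ 0 1) (mk α β γ 1 1) (mk α β γ 2 1) (mk α β γ 0 2) (mk α β γ 1 2) (mk α β γ 2 2) = 0 →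
      det3 (mk α β γ 0 0) (mk α β γ 0 1) (mk α β γ 0 2) (mk α β γ 1 0) (mk α β γ 1 1) (mk α β γ 1 2)
        (mk α β γ 2 0) (mk α β γ 2 1) (mk α β γ 2 2) = 1 →
      ∃ a : Fin 3, ∃ b : Fin 7, (α, β, γ) = tab a b)
    (htab : ∀ a : Fin 3, ∀ b : Fin 7,
      mk (tab a b).1 (tab a b).2.1 (tab a b).2.2 = w ^ (a : ℕ) • X ^ (b : ℕ))
    (G : M25) (hc : G * x5m w = x5m w * G)
    (hU : ∀ a b : Fin 3, ∑ i, G i a * G i b ^ 5 = if a = b then 1 else 0) (hdet : G.det = 1) :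
    ∃ a b : ℕ, G = w ^ a • x5m w ^ b := by
  rw [hX] at hc ⊢
  obtain ⟨α, β, γ, hG⟩ := eq_poly_of_commute X Y G C D hY hc hC0 hC1 hC2 hCD
  rw [hmk] at hG
  subst hG
  have hU' : ∀ a b : Fin 3, herm (mk α β γ 0 a) (mk α β γ 1 a) (mk α β γ 2 a)
      (mk α β γ 0 b) (mk α β γ 1 b) (mk α β γ 2 b) = if a = b then 1 else 0 := by
    intro a b
    rw [← hU a b, Fin.sum_univ_three]
    simp only [herm, pow5]
  have hd : det3 (mk α β γ 0 0) (mk α β γ 0 1) (mk α β γ 0 2) (mk α β γ 1 0) (mk α β γ 1 1)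
      (mk α β γ 1 2) (mk α β γ 2 0) (mk α β γ 2 1) (mk α β γ 2 2) = 1 := by
    rw [← hdet, Matrix.det_fin_three, det3]
    ring
  obtain ⟨a, b, hab⟩ := hdec α β γ (by simpa using hU' 0 0) (by simpa using hU' 1 1)
    (by simpa using hU' 0 1) (by simpa using hU' 2 2) (by simpa using hU' 0 2)
    (by simpa using hU' 1 2) hd
  refine ⟨a, b, ?_⟩
  have h1 : α = (tab a b).1 := congrArg Prod.fst hab
  have h2 : β = (tab a b).2.1 := congrArg (fun p => p.2.1) hab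
  have h3 : γ = (tab a b).2.2 := congrArg (fun p => p.2.2) hab
  rw [h1, h2, h3]
  exact htab a b

/-! ### data for the root `ω = ⟨2, 2⟩` -/

def wA : F25 := ⟨2, 2⟩
def XA : M25 := !![⟨1, 4⟩, ⟨2, 2⟩, ⟨4, 0⟩; ⟨3, 2⟩, ⟨2, 2⟩, ⟨3, 0⟩; ⟨3, 2⟩, ⟨4, 4⟩, ⟨4, 0⟩]
def YA : M25 := !![⟨4, 1⟩, ⟨1, 4⟩, ⟨1, 2⟩; ⟨2, 0⟩, ⟨3, 0⟩, ⟨0, 4⟩; ⟨4, 2⟩, ⟨4, 2⟩, ⟨0, 0⟩]
def CA : M25 := !![⟨1, 0⟩, ⟨1, 4⟩, ⟨4, 1⟩; ⟨0, 0⟩, ⟨3, 2⟩, ⟨2, 0⟩; ⟨0, 0⟩, ⟨3, 2⟩, ⟨4, 2⟩]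
def DA : M25 := !![⟨1, 0⟩, ⟨4, 2⟩, ⟨4, 3⟩; ⟨0, 0⟩, ⟨1, 3⟩, ⟨2, 0⟩; ⟨0, 0⟩, ⟨3, 2⟩, ⟨2, 3⟩]
def eA00 (α β γ : F25) : F25 := α + β * (⟨1, 4⟩ : F25) + γ * (⟨4, 1⟩ : F25)
def eA01 (α β γ : F25) : F25 := β * (⟨2, 2⟩ : F25) + γ * (⟨1, 4⟩ : F25)
def eA02 (α β γ : F25) : F25 := β * (⟨4, 0⟩ : F25) + γ * (⟨1, 2⟩ : F25)
def eA10 (α β γ : F25) : F25 := β * (⟨3, 2⟩ : F25) + γ * (⟨2, 0⟩ : F25)
def eA11 (α β γ : F25) : F25 := α + β * (⟨2, 2⟩ : F25) + γ * (⟨3, 0⟩ : F25)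
def eA12 (α β γ : F25) : F25 := β * (⟨3, 0⟩ : F25) + γ * (⟨0, 4⟩ : F25)
def eA20 (α β γ : F25) : F25 := β * (⟨3, 2⟩ : F25) + γ * (⟨4, 2⟩ : F25)
def eA21 (α β γ : F25) : F25 := β * (⟨4, 4⟩ : F25) + γ * (⟨4, 2⟩ : F25)
def eA22 (α β γ : F25) : F25 := α + β * (⟨4, 0⟩ : F25) + γ * (⟨0, 0⟩ : F25)
def mkA (α β γ : F25) : M25 := !![eA00 α β γ, eA01 α β γ, eA02 α β γ; eA10 α β γ, eA11 α β γ, eA12 α β γ; eA20 α β γ, eA21 α β γ, eA22 α β γ]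
def tabA (a : Fin 3) (b : Fin 7) : F25 × F25 × F25 :=
  (![![(⟨1, 0⟩, ⟨0, 0⟩, ⟨0, 0⟩), (⟨0, 0⟩, ⟨1, 0⟩, ⟨0, 0⟩), (⟨0, 0⟩, ⟨0, 0⟩, ⟨1, 0⟩), (⟨1, 0⟩, ⟨3, 1⟩, ⟨2, 1⟩), (⟨2, 1⟩, ⟨4, 0⟩, ⟨4, 0⟩), (⟨4, 0⟩, ⟨4, 0⟩, ⟨2, 4⟩), (⟨2, 4⟩, ⟨3, 4⟩, ⟨1, 0⟩)],
    ![(⟨2, 2⟩, ⟨0, 0⟩, ⟨0, 0⟩), (⟨0, 0⟩, ⟨2, 2⟩, ⟨0, 0⟩), (⟨0, 0⟩, ⟨0, 0⟩, ⟨2, 2⟩), (⟨2, 2⟩, ⟨0, 3⟩, ⟨3, 1⟩), (⟨3, 1⟩, ⟨3, 3⟩, ⟨3, 3⟩), (⟨3, 3⟩, ⟨3, 3⟩, ⟨0, 2⟩), (⟨0, 2⟩, ⟨2, 4⟩, ⟨2, 2⟩)],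
    ![(⟨2, 3⟩, ⟨0, 0⟩, ⟨0, 0⟩), (⟨0, 0⟩, ⟨2, 3⟩, ⟨0, 0⟩), (⟨0, 0⟩, ⟨0, 0⟩, ⟨2, 3⟩), (⟨2, 3⟩, ⟨2, 1⟩, ⟨0, 3⟩), (⟨0, 3⟩, ⟨3, 2⟩, ⟨3, 2⟩), (⟨3, 2⟩, ⟨3, 2⟩, ⟨3, 4⟩), (⟨3, 4⟩, ⟨0, 2⟩, ⟨2, 3⟩)]] : Fin 3 → Fin 7 → F25 × F25 × F25) a b

set_option maxRecDepth 100000 in
set_option maxHeartbeats 40000000 in
theorem decA : ∀ α β γ : F25,
    herm (eA00 α β γ) (eA10 α β γ) (eA20 α β γ) (eA00 α β γ) (eA10 α β γ) (eA20 α β γ) = 1 →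
    herm (eA01 α β γ) (eA11 α β γ) (eA21 α β γ) (eA01 α β γ) (eA11 α β γ) (eA21 α β γ) = 1 →
    herm (eA00 α β γ) (eA10 α β γ) (eA20 α β γ) (eA01 α β γ) (eA11 α β γ) (eA21 α β γ) = 0 →
    herm (eA02 α β γ) (eA12 α β γ) (eA22 α β γ) (eA02 α β γ) (eA12 α β γ) (eA22 α β γ) = 1 →
    herm (eA00 α β γ) (eA10 α β γ) (eA20 α β γ) (eA02 α β γ) (eA12 α β γ) (eA22 α β γ) = 0 →
    herm (eA01 α β γ) (eA11 α β γ) (eA21 α β γ) (eA02 α β γ) (eA12 α β γ) (eA22 α β γ) = 0 →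
    det3 (eA00 α β γ) (eA01 α β γ) (eA02 α β γ) (eA10 α β γ) (eA11 α β γ) (eA12 α β γ) (eA20 α β γ) (eA21 α β γ) (eA22 α β γ) = 1 →
    ∃ a : Fin 3, ∃ b : Fin 7, (α, β, γ) = tabA a b := by
  decide +kernel


set_option maxRecDepth 100000 in
theorem xA_eq : x5m wA = XA := by decide +kernel

set_option maxRecDepth 100000 in
theorem yA_eq : XA * XA = YA := by decide +kernel

set_option maxRecDepth 100000 in
theorem cA_facts : (∀ k, CA k 0 = (1 : M25) k 0) ∧ (∀ k, CA k 1 = XA k 0) ∧ (∀ k, CA k 2 = YA k 0) ∧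
    CA * DA = 1 := by decide +kernel

theorem mkA_eq (α β γ : F25) : α • (1 : M25) + β • XA + γ • YA = mkA α β γ := by
  refine Matrix.ext fun i j => ?_
  fin_cases i <;> fin_cases j <;>
    simp [mkA, XA, YA, eA00, eA01, eA02, eA10, eA11, eA12, eA20, eA21, eA22]

set_option maxRecDepth 100000 in
set_option maxHeartbeats 4000000 in
theorem tabA_ok : ∀ a : Fin 3, ∀ b : Fin 7,
    mkA (tabA a b).1 (tabA a b).2.1 (tabA a b).2.2 = wA ^ (a : ℕ) • XA ^ (b : ℕ) := by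
  decide +kernel

theorem mainA (G : M25) (hc : G * x5m wA = x5m wA * G)
    (hU : ∀ a b : Fin 3, ∑ i, G i a * G i b ^ 5 = if a = b then 1 else 0) (hdet : G.det = 1) :
    ∃ a b : ℕ, G = wA ^ a • x5m wA ^ b :=
  main_of_data wA XA YA CA DA mkA tabA xA_eq yA_eq cA_facts.1 cA_facts.2.1 cA_facts.2.2.1
    cA_facts.2.2.2 mkA_eq (fun α β γ => decA α β γ) tabA_ok G hc hU hdet

/-! ### data for the root `ω = ⟨2, 3⟩` -/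

def wB : F25 := ⟨2, 3⟩
def XB : M25 := !![⟨1, 1⟩, ⟨2, 3⟩, ⟨4, 0⟩; ⟨3, 3⟩, ⟨2, 3⟩, ⟨3, 0⟩; ⟨3, 3⟩, ⟨4, 1⟩, ⟨4, 0⟩]
def YB : M25 := !![⟨4, 4⟩, ⟨1, 1⟩, ⟨1, 3⟩; ⟨2, 0⟩, ⟨3, 0⟩, ⟨0, 1⟩; ⟨4, 3⟩, ⟨4, 3⟩, ⟨0, 0⟩]
def CB : M25 := !![⟨1, 0⟩, ⟨1, 1⟩, ⟨4, 4⟩; ⟨0, 0⟩, ⟨3, 3⟩, ⟨2, 0⟩; ⟨0, 0⟩, ⟨3, 3⟩, ⟨4, 3⟩]
def DB : M25 := !![⟨1, 0⟩, ⟨4, 3⟩, ⟨4, 2⟩; ⟨0, 0⟩, ⟨1, 2⟩, ⟨2, 0⟩; ⟨0, 0⟩, ⟨3, 3⟩, ⟨2, 2⟩]
def eB00 (α β γ : F25) : F25 := α + β * (⟨1, 1⟩ : F25) + γ * (⟨4, 4⟩ : F25)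
def eB01 (α β γ : F25) : F25 := β * (⟨2, 3⟩ : F25) + γ * (⟨1, 1⟩ : F25)
def eB02 (α β γ : F25) : F25 := β * (⟨4, 0⟩ : F25) + γ * (⟨1, 3⟩ : F25)
def eB10 (α β γ : F25) : F25 := β * (⟨3, 3⟩ : F25) + γ * (⟨2, 0⟩ : F25)
def eB11 (α β γ : F25) : F25 := α + β * (⟨2, 3⟩ : F25) + γ * (⟨3, 0⟩ : F25)
def eB12 (α β γ : F25) : F25 := β * (⟨3, 0⟩ : F25) + γ * (⟨0, 1⟩ : F25)
def eB20 (α β γ : F25) : F25 := β * (⟨3, 3⟩ : F25) + γ * (⟨4, 3⟩ : F25)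
def eB21 (α β γ : F25) : F25 := β * (⟨4, 1⟩ : F25) + γ * (⟨4, 3⟩ : F25)
def eB22 (α β γ : F25) : F25 := α + β * (⟨4, 0⟩ : F25) + γ * (⟨0, 0⟩ : F25)
def mkB (α β γ : F25) : M25 := !![eB00 α β γ, eB01 α β γ, eB02 α β γ; eB10 α β γ, eB11 α β γ, eB12 α β γ; eB20 α β γ, eB21 α β γ, eB22 α β γ]
def tabB (a : Fin 3) (b : Fin 7) : F25 × F25 × F25 :=
  (![![(⟨1, 0⟩, ⟨0, 0⟩, ⟨0, 0⟩), (⟨0, 0⟩, ⟨1, 0⟩, ⟨0, 0⟩), (⟨0, 0⟩, ⟨0, 0⟩, ⟨1, 0⟩), (⟨1, 0⟩, ⟨3, 4⟩, ⟨2, 4⟩), (⟨2, 4⟩, ⟨4, 0⟩, ⟨4, 0⟩), (⟨4, 0⟩, ⟨4, 0⟩, ⟨2, 1⟩), (⟨2, 1⟩, ⟨3, 1⟩, ⟨1, 0⟩)],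
    ![(⟨2, 3⟩, ⟨0, 0⟩, ⟨0, 0⟩), (⟨0, 0⟩, ⟨2, 3⟩, ⟨0, 0⟩), (⟨0, 0⟩, ⟨0, 0⟩, ⟨2, 3⟩), (⟨2, 3⟩, ⟨0, 2⟩, ⟨3, 4⟩), (⟨3, 4⟩, ⟨3, 2⟩, ⟨3, 2⟩), (⟨3, 2⟩, ⟨3, 2⟩, ⟨0, 3⟩), (⟨0, 3⟩, ⟨2, 1⟩, ⟨2, 3⟩)],
    ![(⟨2, 2⟩, ⟨0, 0⟩, ⟨0, 0⟩), (⟨0, 0⟩, ⟨2, 2⟩, ⟨0, 0⟩), (⟨0, 0⟩, ⟨0, 0⟩, ⟨2, 2⟩), (⟨2, 2⟩, ⟨2, 4⟩, ⟨0, 2⟩), (⟨0, 2⟩, ⟨3, 3⟩, ⟨3, 3⟩), (⟨3, 3⟩, ⟨3, 3⟩, ⟨3, 1⟩), (⟨3, 1⟩, ⟨0, 3⟩, ⟨2, 2⟩)]] : Fin 3 → Fin 7 → F25 × F25 × F25) a b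

set_option maxRecDepth 100000 in
set_option maxHeartbeats 40000000 in
theorem decB : ∀ α β γ : F25,
    herm (eB00 α β γ) (eB10 α β γ) (eB20 α β γ) (eB00 α β γ) (eB10 α β γ) (eB20 α β γ) = 1 →
    herm (eB01 α β γ) (eB11 α β γ) (eB21 α β γ) (eB01 α β γ) (eB11 α β γ) (eB21 α β γ) = 1 →
    herm (eB00 α β γ) (eB10 α β γ) (eB20 α β γ) (eB01 α β γ) (eB11 α β γ) (eB21 α β γ) = 0 →
    herm (eB02 α β γ) (eB12 α β γ) (eB22 α β γ) (eB02 α β γ) (eB12 α β γ) (eB22 α β γ) = 1 →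
    herm (eB00 α β γ) (eB10 α β γ) (eB20 α β γ) (eB02 α β γ) (eB12 α β γ) (eB22 α β γ) = 0 →
    herm (eB01 α β γ) (eB11 α β γ) (eB21 α β γ) (eB02 α β γ) (eB12 α β γ) (eB22 α β γ) = 0 →
    det3 (eB00 α β γ) (eB01 α β γ) (eB02 α β γ) (eB10 α β γ) (eB11 α β γ) (eB12 α β γ) (eB20 α β γ) (eB21 α β γ) (eB22 α β γ) = 1 →
    ∃ a : Fin 3, ∃ b : Fin 7, (α, β, γ) = tabB a b := by
  decide +kernel

set_option maxRecDepth 100000 in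
theorem xB_eq : x5m wB = XB := by decide +kernel

set_option maxRecDepth 100000 in
theorem yB_eq : XB * XB = YB := by decide +kernel

set_option maxRecDepth 100000 in
theorem cB_facts : (∀ k, CB k 0 = (1 : M25) k 0) ∧ (∀ k, CB k 1 = XB k 0) ∧ (∀ k, CB k 2 = YB k 0) ∧
    CB * DB = 1 := by decide +kernel

theorem mkB_eq (α β γ : F25) : α • (1 : M25) + β • XB + γ • YB = mkB α β γ := by
  refine Matrix.ext fun i j => ?_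
  fin_cases i <;> fin_cases j <;>
    simp [mkB, XB, YB, eB00, eB01, eB02, eB10, eB11, eB12, eB20, eB21, eB22]

set_option maxRecDepth 100000 in
set_option maxHeartbeats 4000000 in
theorem tabB_ok : ∀ a : Fin 3, ∀ b : Fin 7,
    mkB (tabB a b).1 (tabB a b).2.1 (tabB a b).2.2 = wB ^ (a : ℕ) • XB ^ (b : ℕ) := by
  decide +kernel

theorem mainB (G : M25) (hc : G * x5m wB = x5m wB * G)
    (hU : ∀ a b : Fin 3, ∑ i, G i a * G i b ^ 5 = if a = b then 1 else 0) (hdet : G.det = 1) :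
    ∃ a b : ℕ, G = wB ^ a • x5m wB ^ b :=
  main_of_data wB XB YB CB DB mkB tabB xB_eq yB_eq cB_facts.1 cB_facts.2.1 cB_facts.2.2.1
    cB_facts.2.2.2 mkB_eq (fun α β γ => decB α β γ) tabB_ok G hc hU hdet

variable {F : Type*} [Field F] [Fintype F]

theorem x5m_map {K : Type*} [Field K] (e : F →+* K) (ω : F) :
    (x5m ω).map e = x5m (e ω) := by
  ext i j
  fin_cases i <;> fin_cases j <;>
    simp [x5m, r5m, mA5, Matrix.mul_apply, Fin.sum_univ_three, map_ofNat]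

/-- 577802 K-SU3-C2. -/
theorem centralizer_x5 (hF : Fintype.card F = 25) (ω : F) (hω : ω ^ 2 + ω + 1 = 0)
    (g : GL (Fin 3) F) (hg : g ∈ SU3 F 5)
    (hc : (g : Matrix (Fin 3) (Fin 3) F) * x5m ω = x5m ω * (g : Matrix (Fin 3) (Fin 3) F)) :
    ∃ a b : ℕ, (g : Matrix (Fin 3) (Fin 3) F) = ω ^ a • x5m ω ^ b := by
  classical
  have hcard : Fintype.card F = Fintype.card F25 := by rw [hF, f25_card]
  obtain ⟨e⟩ : Nonempty (F ≃+* F25) := ⟨FiniteField.ringEquivOfCardEq hcard⟩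
  obtain ⟨G, hGdef⟩ : ∃ G : M25, G = (g : Matrix (Fin 3) (Fin 3) F).map e := ⟨_, rfl⟩
  have hxm : (x5m ω).map e = x5m (e ω) := x5m_map (e : F →+* F25) ω
  -- commutation
  have hc' : G * x5m (e ω) = x5m (e ω) * G := by
    rw [hGdef, ← hxm]
    have := congrArg (fun M : Matrix (Fin 3) (Fin 3) F => M.map e) hc
    simpa [Matrix.map_mul] using this
  -- unitarity
  have hU : ∀ a b : Fin 3, ∑ i, G i a * G i b ^ 5 = if a = b then 1 else 0 := by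
    intro a b
    have h := hg.1 (Pi.single a 1) (Pi.single b 1)
    simp only [Units.coeHom_apply, hermForm, Matrix.mulVec_single_one, Matrix.col_apply] at h
    have h2 : (∑ i, (Pi.single a (1 : F) : Fin 3 → F) i * (Pi.single b (1 : F) : Fin 3 → F) i ^ 5)
        = if a = b then 1 else 0 := by
      fin_cases a <;> fin_cases b <;> simp [Pi.single_apply]
    rw [h2] at h
    have h3 := congrArg e h
    rw [hGdef]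
    simpa [map_sum, apply_ite] using h3
  -- determinant
  have hdet : G.det = 1 := by
    have h1 : (g : Matrix (Fin 3) (Fin 3) F).det = 1 := by
      have := hg.2
      have h2 : Matrix.GeneralLinearGroup.det g = 1 := this
      have h3 := congrArg Units.val h2
      simpa using h3
    rw [hGdef]
    have := (RingHom.map_det (e : F →+* F25) (g : Matrix (Fin 3) (Fin 3) F)).symm
    rw [RingHom.mapMatrix_apply] at this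
    rw [show ((g : Matrix (Fin 3) (Fin 3) F).map e) = (g : Matrix (Fin 3) (Fin 3) F).map (e : F →+* F25) from rfl, this, h1]
    simp
  have hw : e ω ^ 2 + e ω + 1 = 0 := by
    have := congrArg e hω
    simpa using this
  have hmain : ∃ a b : ℕ, G = e ω ^ a • x5m (e ω) ^ b := by
    rcases roots25 (e ω) hw with h | h
    · rw [h] at hc' ⊢
      exact mainA G hc' hU hdet
    · rw [h] at hc' ⊢
      exact mainB G hc' hU hdet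
  obtain ⟨a, b, hab⟩ := hmain
  refine ⟨a, b, ?_⟩
  have hinj : Function.Injective (fun M : Matrix (Fin 3) (Fin 3) F => M.map e) :=
    Matrix.map_injective e.injective
  apply hinj
  change (g : Matrix (Fin 3) (Fin 3) F).map e = (ω ^ a • x5m ω ^ b).map e
  rw [← hGdef, hab, ← hxm]
  rw [Matrix.map_smul' (e : F → F25) (ω ^ a) (x5m ω ^ b) (fun x y => map_mul e x y), map_pow]
  congr 1
  have h5 : ∀ M : Matrix (Fin 3) (Fin 3) F, M.map e = (e : F →+* F25).mapMatrix M := fun _ => rfl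
  rw [h5, h5, map_pow]

end Cfsg.Agent.Lib.Helper18.SU3K
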