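import Mathlib

/-!
# Splitting a central involution with the sign of a coset action

If `z` is a central involution of a finite group `H` and `K` is a subgroup with `z ∉ K`
whose index is `2 mod 4`, then the sign of the action of `H` on `H ⧸ K` is a homomorphism to
`ℤˣ` that sends `z` to `-1`.  Its kernel is then a subgroup of index two that avoids `z`.
-/

set_option autoImplicit false

namespace Cfsg.Agent.Lib.Helper18.SignSplit

open Equiv

/-- A fixed point free involution on a finite type of cardinality `2 mod 4` is odd. -/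
theorem sign_eq_neg_one_of_fpf {α : Type*} [Fintype α] [DecidableEq α] (σ : Perm α)
    (hσ2 : σ ^ 2 = 1) (hfpf : ∀ x, σ x ≠ x) (hcard : Fintype.card α % 4 = 2) :
    Perm.sign σ = -1 := by
  have hne : σ ≠ 1 := by
    intro h
    have hpos : 0 < Fintype.card α := by omega
    obtain ⟨x⟩ := Fintype.card_pos_iff.mp hpos
    exact hfpf x (by simp [h])
  have hord : orderOf σ = 2 := orderOf_eq_prime hσ2 hne
  obtain ⟨k, hk⟩ := Perm.cycleType_prime_order (σ := σ) (by rw [hord]; exact Nat.prime_two)
  rw [hord] at hk
  have hsupp : σ.support = Finset.univ := by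
    ext x
    simp [Perm.mem_support, hfpf x]
  have hsum : σ.cycleType.sum = Fintype.card α := by
    rw [Perm.sum_cycleType, hsupp, Finset.card_univ]
  rw [hk] at hsum
  simp only [Multiset.sum_replicate, smul_eq_mul] at hsum
  rw [Perm.sign_of_cycleType, hk]
  simp only [Multiset.sum_replicate, smul_eq_mul, Multiset.card_replicate]
  have hodd : Odd ((k + 1) * 2 + (k + 1)) := by
    have : (k + 1) % 2 = 1 := by omega
    rw [Nat.odd_iff]; omega
  exact hodd.neg_one_pow

/-- The sign character: a subgroup `K` avoiding the central involution `z`, of index `2 mod 4`,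
produces a homomorphism to `ℤˣ` sending `z` to `-1`. -/
theorem exists_hom {H : Type*} [Group H] [Finite H] (z : H) (hz : z ∈ Subgroup.center H)
    (hz2 : z ^ 2 = 1) (K : Subgroup H) (hzK : z ∉ K) (hidx : K.index % 4 = 2) :
    ∃ χ : H →* ℤˣ, χ z = -1 := by
  classical
  letI : Fintype (H ⧸ K) := Fintype.ofFinite _
  refine ⟨(Perm.sign).comp (MulAction.toPermHom H (H ⧸ K)), ?_⟩
  apply sign_eq_neg_one_of_fpf
  · rw [← map_pow, hz2, map_one]
  · intro q
    induction q using QuotientGroup.induction_on with
    | H g =>
      intro h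
      have h1 : (MulAction.toPermHom H (H ⧸ K) z) (g : H ⧸ K) = ((z * g : H) : H ⧸ K) := rfl
      rw [h1] at h
      have h2 := QuotientGroup.eq.mp h
      have h3 : (z * g)⁻¹ * g = z⁻¹ := by
        rw [mul_inv_rev, Subgroup.mem_center_iff.mp (Subgroup.inv_mem _ hz) g⁻¹]
        group
      rw [h3] at h2
      exact hzK (by simpa using K.inv_mem h2)
  · rw [← Nat.card_eq_fintype_card]
    exact hidx

/-- The sign trick: a subgroup `K` avoiding the central involution `z`, of index `2 mod 4`,
produces a subgroup of index two avoiding `z`. -/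
theorem exists_index_two {H : Type*} [Group H] [Finite H] (z : H) (hz : z ∈ Subgroup.center H)
    (hz2 : z ^ 2 = 1) (K : Subgroup H) (hzK : z ∉ K) (hidx : K.index % 4 = 2) :
    ∃ L : Subgroup H, z ∉ L ∧ L.index = 2 := by
  obtain ⟨χ, hχz⟩ := exists_hom z hz hz2 K hzK hidx
  refine ⟨χ.ker, ?_, ?_⟩
  · rw [MonoidHom.mem_ker, hχz]
    decide
  · rw [Subgroup.index_ker]
    have hr : χ.range = ⊤ := by
      rw [eq_top_iff]
      intro u _
      rcases Int.units_eq_one_or u with h | h
      · rw [h]; exact one_mem _
      · rw [h]; exact ⟨z, hχz⟩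
    rw [hr, Subgroup.card_top]
    simp

/-- A subgroup of index two avoiding a generator of a centre of order two is a complement
of the centre. -/
theorem isComplement'_center {H : Type*} [Group H] [Finite H] (hc : Nat.card (Subgroup.center H) = 2)
    (z : H) (hz : z ∈ Subgroup.center H) (L : Subgroup H) (hzL : z ∉ L) (hL : L.index = 2) :
    (Subgroup.center H).IsComplement' L := by
  have hz1 : z ≠ 1 := fun h => hzL (h ▸ L.one_mem)
  apply Subgroup.isComplement'_of_card_mul_and_disjoint
  · rw [hc, mul_comm, ← hL, Subgroup.card_mul_index]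
  · rw [Subgroup.disjoint_def]
    intro g hgc hgL
    by_contra hg1
    obtain ⟨y, -, hy⟩ := (Nat.card_eq_two_iff' (1 : Subgroup.center H)).mp hc
    have e1 : (⟨g, hgc⟩ : Subgroup.center H) = y := hy _ (fun h => hg1 (congrArg Subtype.val h))
    have e2 : (⟨z, hz⟩ : Subgroup.center H) = y := hy _ (fun h => hz1 (congrArg Subtype.val h))
    have : g = z := congrArg Subtype.val (e1.trans e2.symm)
    exact hzL (this ▸ hgL)

end Cfsg.Agent.Lib.Helper18.SignSplit
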