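import Mathlib
import Cfsg.Prelude.Def_GeometricClasses
import Cfsg.Agent.Lib.Helper61.AschDefs
import Cfsg.Agent.Lib.Helper61.AschBasic
import Cfsg.Agent.Lib.Helper61.AschGlueA
import Cfsg.Agent.Lib.Helper61.AschGlueC
import Cfsg.Agent.Lib.Helper61.AschGlueF
import Cfsg.Agent.Lib.Helper43.SpAschDefs
import Cfsg.Agent.Lib.Helper43.SpAschDefs2
import Cfsg.Agent.Lib.Helper80.AschD1

/-!
Keystone K-SpAsch-D2a: the extraspecial group `R = N ⊓ isoGL f` attached to a minimal normal subgroup `N` that is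
abelian modulo scalars, inside the similarity group of a symplectic form (even dimension).
-/

set_option autoImplicit false
set_option linter.unusedSectionVars false
set_option linter.style.haveILetI false

namespace Cfsg.Agent.Lib.Helper18.SpAsch

open Cfsg Cfsg.Geo Cfsg.Agent.Lib.Helper61.Asch Cfsg.Agent.Lib.Helper43.SpAsch
open scoped Matrix Kronecker MatrixGroups

variable {F : Type*} [Field F] [Fintype F] {n : ℕ}

local notation "V" => (Fin n → F)
local notation "Mat" => Matrix (Fin n) (Fin n) F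
local notation "Z" => scalars (Fin n) F

theorem neg_one_coe : ((-1 : GL (Fin n) F) : Mat) = -1 := by
  rw [Units.val_neg, Units.val_one]

theorem neg_one_mem_scalars : (-1 : GL (Fin n) F) ∈ Z := by
  rw [mem_scalars_iff]
  refine ⟨-1, ?_⟩
  rw [neg_one_coe, Units.val_neg, Units.val_one, neg_smul, one_smul]

theorem neg_one_mem_isoGL {f : V → V → F} (hf : IsBilinearForm f) : (-1 : GL (Fin n) F) ∈ isoGL f := by
  rw [mem_isoGL_iff]
  intro u v
  rw [neg_one_coe, Matrix.neg_mulVec, Matrix.neg_mulVec, Matrix.one_mulVec, Matrix.one_mulVec,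
    ← neg_one_smul F u, ← neg_one_smul F v, hf.smul_left, hf.smul_right]
  ring

/-- a scalar isometry of a symplectic form is `±1`. -/
theorem scalar_iso_eq {f : V → V → F} (hf : IsSymplecticForm f) (hn : 0 < n) {z : GL (Fin n) F}
    (hz : z ∈ Z) (hzf : z ∈ isoGL f) : z = 1 ∨ z = -1 := by
  obtain ⟨c, hc⟩ := (mem_scalars_iff z).mp hz
  let v : Fin n → F := Pi.single ⟨0, hn⟩ 1
  have hv : v ≠ 0 := by
    intro h0
    have := congrFun h0 ⟨0, hn⟩
    simp [v] at this
  obtain ⟨x, hx⟩ := (hf.nondegenerate v hv).1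
  have h := (mem_isoGL_iff f z).mp hzf x v
  rw [hc, Matrix.smul_mulVec, Matrix.one_mulVec, Matrix.smul_mulVec, Matrix.one_mulVec,
    hf.bilinear.smul_left, hf.bilinear.smul_right] at h
  have hc2 : (c : F) * c = 1 := by
    have h' : ((c : F) * c - 1) * f x v = 0 := by linear_combination h
    rcases mul_eq_zero.mp h' with h0 | h0
    · linear_combination h0
    · exact absurd h0 hx
  have h'' : ((c : F) - 1) * (c + 1) = 0 := by linear_combination hc2
  rcases mul_eq_zero.mp h'' with h0 | h0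
  · left
    apply Units.ext
    rw [hc, sub_eq_zero.mp h0, one_smul, Units.val_one]
  · right
    apply Units.ext
    rw [hc, eq_neg_of_add_eq_zero_left h0, neg_smul, one_smul, neg_one_coe]

/-- `-1 ≠ 1` in `GL` when `2 ≠ 0`. -/
theorem neg_one_ne_one (h2 : (2 : F) ≠ 0) (hn : 0 < n) : (-1 : GL (Fin n) F) ≠ 1 := by
  intro h
  have h1 := congrArg (fun g : GL (Fin n) F => (g : Mat) ⟨0, hn⟩ ⟨0, hn⟩) h
  simp only [neg_one_coe, Units.val_one, Matrix.neg_apply, Matrix.one_apply_eq] at h1
  apply h2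
  linear_combination -h1

/-- conjugation by an element normalizing `R`, as an automorphism of `R`. -/
def conjEquiv {G : Type*} [Group G] (R : Subgroup G) (k : G) (hk : ∀ x ∈ R, k * x * k⁻¹ ∈ R)
    (hk' : ∀ x ∈ R, k⁻¹ * x * k ∈ R) : R ≃* R where
  toFun x := ⟨k * x * k⁻¹, hk x x.2⟩
  invFun x := ⟨k⁻¹ * x * k, hk' x x.2⟩
  left_inv x := by
    apply Subtype.ext
    simp only
    group
  right_inv x := by
    apply Subtype.ext
    simp only
    group
  map_mul' x y := by
    apply Subtype.ext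
    simp only [Subgroup.coe_mul]
    group

/-- the centre of an absolutely irreducible group consists of its scalars. -/
theorem center_eq_subgroupOf {R : Subgroup (GL (Fin n) F)} (hR : spanAlg R = ⊤) :
    Subgroup.center R = (Z).subgroupOf R := by
  ext x
  rw [Subgroup.mem_center_iff, Subgroup.mem_subgroupOf]
  constructor
  · intro h
    apply mem_scalars_of_commute hR
    intro y hy
    have := h ⟨y, hy⟩
    exact (congrArg Subtype.val this).symm
  · intro h g
    apply Subtype.ext
    exact (scalar_comm h (g : GL (Fin n) F)).symm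

/-- K-SpAsch-D2a. -/
theorem extraspecial_data {f : V → V → F} (hf : IsSymplecticForm f) (hn : 4 ≤ n) (hev : Even n)
    (H K N : Subgroup (GL (Fin n) F)) (hH : H ≤ isoGL f) (hK : K = H ⊔ Z) (hZN : Z ≤ N) (hNK : N ≤ K)
    (hKN : NormBy K N) (hspan : spanAlg N = ⊤) (r : ℕ) (hr : r.Prime)
    (hcomm : ∀ x ∈ N, ∀ y ∈ N, x * y * x⁻¹ * y⁻¹ ∈ Z) (hexp : ∀ x ∈ N, x ^ r ∈ Z)
    (hmin : ∀ M : Subgroup (GL (Fin n) F), Z ≤ M → M ≤ N → NormBy K M → M = Z ∨ M = N)
    (hab : ∀ B : Subgroup (GL (Fin n) F), B ≤ N → NormBy K B → (∀ x ∈ B, ∀ y ∈ B, x * y = y * x) → B ≤ Z) :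
    Odd (Fintype.card F) ∧ ∃ (R : Subgroup (GL (Fin n) F)) (k : ℕ), R ≤ isoGL f ∧ NormBy K R ∧ spanAlg R = ⊤ ∧
      IsSymplecticTypeGroup 2 R ∧ n = 2 ^ k ∧ Nat.card R = 2 ^ (1 + 2 * k) ∧
      Nat.card (Subgroup.center R) = 2 ∧ (-1 : GL (Fin n) F) ∈ R ∧
      (∀ x ∈ R, x ∈ Z ∨ Matrix.trace ((x : GL (Fin n) F) : Mat) = 0) := by
  classical
  have hn2 : 2 ≤ n := by omega
  have hn0 : 0 < n := by omega
  obtain ⟨R₁, hR₁N, hR₁K, hR₁span, hR₁symp, hrq, hR₁tr, hR₁exp, m, hm1, hnm, hR₁cen, hR₁card⟩ :=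
    Cfsg.Agent.Lib.Helper80.Asch.exists_symplecticType K N hn2 hZN hNK hKN hspan r hr hcomm hexp hmin hab
  -- r = 2
  have hr2 : r = 2 := by
    obtain ⟨j, hj⟩ := hev
    have h2dvd : 2 ∣ r ^ m := by
      rw [← hnm]
      exact ⟨j, by omega⟩
    exact ((Nat.prime_dvd_prime_iff_eq Nat.prime_two hr).mp (Nat.prime_two.dvd_of_dvd_pow h2dvd)).symm
  subst hr2
  have hodd : Odd (Fintype.card F) := by
    rcases Nat.even_or_odd (Fintype.card F) with h | h
    · exact absurd (even_iff_two_dvd.mp h) hrq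
    · exact h
  have h2F : (2 : F) ≠ 0 := by
    intro h0
    obtain ⟨j, hj⟩ := hodd
    have hcast := FiniteField.cast_card_eq_zero F
    rw [hj] at hcast
    push_cast at hcast
    rw [h0, zero_mul, zero_add] at hcast
    exact one_ne_zero hcast
  have hne1 : (-1 : GL (Fin n) F) ≠ 1 := neg_one_ne_one h2F hn0
  refine ⟨hodd, N ⊓ isoGL f, m, inf_le_right, ?_⟩
  set R : Subgroup (GL (Fin n) F) := N ⊓ isoGL f with hRdef
  have hRN : R ≤ N := inf_le_left
  have hRf : R ≤ isoGL f := inf_le_right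
  have hnegR : (-1 : GL (Fin n) F) ∈ R := ⟨hZN neg_one_mem_scalars, neg_one_mem_isoGL hf.bilinear⟩
  -- decomposition of N
  have hdec : ∀ x ∈ N, ∃ a ∈ R, ∃ z ∈ Z, x = a * z := by
    intro x hx
    have hxK : x ∈ H ⊔ Z := by rw [← hK]; exact hNK hx
    obtain ⟨a, ha, z, hz, rfl⟩ := mem_sup_scalars hxK
    refine ⟨a, ⟨?_, hH ha⟩, z, hz, rfl⟩
    have : a = a * z * z⁻¹ := by group
    rw [this]
    exact N.mul_mem hx (N.inv_mem (hZN hz))
  have hRZ : R ⊔ Z = N := by
    apply le_antisymm (sup_le hRN hZN)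
    intro x hx
    obtain ⟨a, ha, z, hz, rfl⟩ := hdec x hx
    exact Subgroup.mul_mem_sup ha hz
  have hRK : NormBy K R := by
    intro k hk x hx
    refine ⟨hKN k hk x hx.1, ?_⟩
    have hkK : k ∈ H ⊔ Z := by rw [← hK]; exact hk
    obtain ⟨a, ha, z, hz, rfl⟩ := mem_sup_scalars hkK
    have hzx : z * x = x * z := scalar_comm hz x
    have : a * z * x * (a * z)⁻¹ = a * x * a⁻¹ := by
      rw [mul_assoc a z x, hzx]
      group
    rw [this]
    exact (isoGL f).mul_mem ((isoGL f).mul_mem (hH ha) hx.2) ((isoGL f).inv_mem (hH ha))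
  have hRspan : spanAlg R = ⊤ := by
    rw [← spanAlg_sup_scalars R, hRZ]
    exact hspan
  -- squares are ±1
  have hsq : ∀ x ∈ R, x ^ 2 = 1 ∨ x ^ 2 = -1 := by
    intro x hx
    exact scalar_iso_eq hf hn0 (hexp x hx.1) ((isoGL f).pow_mem hx.2 2)
  have hpow4 : ∀ x ∈ R, x ^ 4 = 1 := by
    intro x hx
    have h4 : x ^ 4 = (x ^ 2) ^ 2 := by rw [← pow_mul]
    rcases hsq x hx with h | h
    · rw [h4, h, one_pow]
    · rw [h4, h, neg_one_sq]
  -- scalars of R are ±1
  have hRsc : ∀ x ∈ R, x ∈ Z → x = 1 ∨ x = -1 := by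
    intro x hx hxZ
    exact scalar_iso_eq hf hn0 hxZ hx.2
  have hRnotZ : ¬ R ≤ Z :=
    not_le_scalars_of_irreducible hn2 (actsIrreducibly_of_spanAlg_eq_top hRspan)
  have hR₁notZ : ¬ R₁ ≤ Z :=
    not_le_scalars_of_irreducible hn2 (actsIrreducibly_of_spanAlg_eq_top hR₁span)
  have hR₁Z : R₁ ⊔ Z = N := by
    rcases hmin (R₁ ⊔ Z) le_sup_right (sup_le hR₁N hZN) (hR₁K.sup (normBy_scalars K)) with h | h
    · exact absurd (h ▸ le_sup_left) hR₁notZ
    · exact h
  -- the scalar subgroup of R has order two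
  have hcardZR : Nat.card ((Z).subgroupOf R) = 2 := by
    have heq : (Z).subgroupOf R = Subgroup.zpowers (⟨-1, hnegR⟩ : R) := by
      ext x
      rw [Subgroup.mem_subgroupOf]
      constructor
      · intro hx
        rcases hRsc x x.2 hx with h | h
        · have : x = 1 := Subtype.ext h
          rw [this]
          exact one_mem _
        · have : x = ⟨-1, hnegR⟩ := Subtype.ext h
          rw [this]
          exact Subgroup.mem_zpowers _
      · intro hx
        obtain ⟨j, rfl⟩ := Subgroup.mem_zpowers_iff.mp hx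
        rw [Subgroup.coe_zpow]
        exact (Z).zpow_mem neg_one_mem_scalars j
    rw [heq, Nat.card_zpowers]
    apply orderOf_eq_prime
    · apply Subtype.ext
      rw [Subgroup.coe_pow, Subgroup.coe_one]
      exact neg_one_sq
    · intro h
      exact hne1 (congrArg Subtype.val h)
  have hcenR : Nat.card (Subgroup.center R) = 2 := by
    rw [center_eq_subgroupOf hRspan]
    exact hcardZR
  -- index computations
  have hrel₁ : (Z).relIndex R₁ = 2 ^ (2 * m) := by
    have h1 := Subgroup.card_mul_index ((Z).subgroupOf R₁)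
    rw [← center_eq_subgroupOf hR₁span] at h1
    rw [hR₁card] at h1
    have hpos : 0 < Nat.card (Subgroup.center R₁) := Nat.card_pos
    have := Nat.eq_of_mul_eq_mul_left hpos h1
    show ((Z).subgroupOf R₁).index = 2 ^ (2 * m)
    rw [← center_eq_subgroupOf hR₁span]
    exact this
  have hrelN : (Z).relIndex N = 2 ^ (2 * m) := by
    rw [← hR₁Z, Subgroup.relIndex_sup_right]
    exact hrel₁
  have hrelR : (Z).relIndex R = 2 ^ (2 * m) := by
    rw [← Subgroup.relIndex_sup_right (H := R) (K := Z), hRZ]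
    exact hrelN
  have hcardR : Nat.card R = 2 ^ (1 + 2 * m) := by
    have h1 := Subgroup.card_mul_index ((Z).subgroupOf R)
    rw [hcardZR] at h1
    have : ((Z).subgroupOf R).index = 2 ^ (2 * m) := hrelR
    rw [this] at h1
    rw [← h1, pow_add, pow_one]
  -- symplectic type
  have hsymp : IsSymplecticTypeGroup 2 R := by
    refine ⟨Nat.prime_two, ?_, ?_, ?_⟩
    · intro g
      refine ⟨2, ?_⟩
      apply Subtype.ext
      rw [Subgroup.coe_pow, Subgroup.coe_one]
      exact hpow4 g g.2
    · intro A hAchar hAcomm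
      have hpm : ∀ a : A, ((a : R) : GL (Fin n) F) = 1 ∨ ((a : R) : GL (Fin n) F) = -1 := by
        have hBZ : A.map R.subtype ≤ Z := by
          apply hab
          · rintro _ ⟨a, _, rfl⟩
            exact hRN a.2
          · intro k hk y hy
            obtain ⟨a, haA, rfl⟩ := hy
            have hk1 : ∀ x ∈ R, k * x * k⁻¹ ∈ R := fun x hx => hRK k hk x hx
            have hk2 : ∀ x ∈ R, k⁻¹ * x * k ∈ R := by
              intro x hx
              have := hRK k⁻¹ (K.inv_mem hk) x hx
              rwa [inv_inv] at this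
            have hle := (Subgroup.characteristic_iff_map_le.mp hAchar) (conjEquiv R k hk1 hk2)
            have hmem : conjEquiv R k hk1 hk2 a ∈ A := hle ⟨a, haA, rfl⟩
            exact ⟨conjEquiv R k hk1 hk2 a, hmem, rfl⟩
          · rintro _ ⟨a, haA, rfl⟩ _ ⟨b, hbA, rfl⟩
            have hc : (⟨a, haA⟩ : A) * ⟨b, hbA⟩ = ⟨b, hbA⟩ * ⟨a, haA⟩ := hAcomm.is_comm.comm _ _
            have hc' := congrArg (fun t : A => ((t : R) : GL (Fin n) F)) hc
            exact hc'
        intro a
        exact hRsc _ (a : R).2 (hBZ ⟨(a : R), a.2, rfl⟩)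
      have hAZ : ∀ a : A, (R.subtype.comp A.subtype) a ∈ Subgroup.zpowers (-1 : GL (Fin n) F) := by
        intro a
        rcases hpm a with h | h
        · show ((a : R) : GL (Fin n) F) ∈ _
          rw [h]
          exact one_mem _
        · show ((a : R) : GL (Fin n) F) ∈ _
          rw [h]
          exact Subgroup.mem_zpowers _
      let φ : A →* Subgroup.zpowers (-1 : GL (Fin n) F) :=
        (R.subtype.comp A.subtype).codRestrict (Subgroup.zpowers (-1 : GL (Fin n) F)) hAZ
      apply isCyclic_of_injective φ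
      intro a b hab'
      have h1 : ((a : R) : GL (Fin n) F) = ((b : R) : GL (Fin n) F) := by
        have := congrArg Subtype.val hab'
        exact this
      exact Subtype.ext (Subtype.ext h1)
    · -- exponent
      have hgcd : 2 * Nat.gcd 2 2 = 2 ^ 2 := by norm_num
      rw [hgcd]
      have hdvd : Monoid.exponent R ∣ 2 ^ 2 := by
        apply Monoid.exponent_dvd_of_forall_pow_eq_one
        intro g
        apply Subtype.ext
        rw [Subgroup.coe_pow, Subgroup.coe_one]
        exact hpow4 g g.2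
      obtain ⟨j, hj, hej⟩ := (Nat.dvd_prime_pow Nat.prime_two).mp hdvd
      have hnot2 : ¬ Monoid.exponent R ∣ 2 := by
        intro h2
        have hsq1 : ∀ x ∈ R, x * x = 1 := by
          intro x hx
          have h3 : (⟨x, hx⟩ : R) ^ 2 = 1 := by
            obtain ⟨d, hd⟩ := h2
            rw [hd, pow_mul, Monoid.pow_exponent_eq_one, one_pow]
          have h4 := congrArg Subtype.val h3
          rw [Subgroup.coe_pow, Subgroup.coe_one, pow_two] at h4
          exact h4
        apply hRnotZ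
        apply hab R hRN hRK
        intro x hx y hy
        exact Cfsg.Agent.Lib.Helper80.Asch.comm_of_sq_eq_one x y (hsq1 x hx) (hsq1 y hy)
          (hsq1 _ (R.mul_mem hx hy))
      interval_cases j
      · exfalso
        apply hnot2
        rw [hej]
        exact ⟨2, by norm_num⟩
      · exfalso
        apply hnot2
        rw [hej]
        exact ⟨1, by norm_num⟩
      · exact hej
  refine ⟨hRK, hRspan, hsymp, hnm, hcardR, hcenR, hnegR, ?_⟩
  -- traces
  intro x hx
  by_cases hxZ : x ∈ Z
  · exact Or.inl hxZ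
  · right
    have hex : ∃ y ∈ R, x * y ≠ y * x := by
      by_contra hcon
      push Not at hcon
      exact hxZ (mem_scalars_of_commute hRspan x hcon)
    obtain ⟨y, hy, hxy⟩ := hex
    have hcZ := hcomm x hx.1 y hy.1
    have hcf : x * y * x⁻¹ * y⁻¹ ∈ isoGL f :=
      (isoGL f).mul_mem ((isoGL f).mul_mem ((isoGL f).mul_mem hx.2 hy.2) ((isoGL f).inv_mem hx.2))
        ((isoGL f).inv_mem hy.2)
    rcases scalar_iso_eq hf hn0 hcZ hcf with h | h
    · exfalso
      apply hxy
      have : x * y = (x * y * x⁻¹ * y⁻¹) * (y * x) := by group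
      rw [this, h, one_mul]
    · have hxy' : x * y = (-1) * (y * x) := by
        have : x * y = (x * y * x⁻¹ * y⁻¹) * (y * x) := by group
        rw [this, h]
      have hmat : (x : Mat) * (y : Mat) = -((y : Mat) * (x : Mat)) := by
        have := congrArg (fun g : GL (Fin n) F => (g : Mat)) hxy'
        simp only [Units.val_mul, neg_one_coe] at this
        rw [this, neg_mul, one_mul]
      have hyy : (y : Mat) * ((y⁻¹ : GL (Fin n) F) : Mat) = 1 := by
        rw [← Units.val_mul, mul_inv_cancel, Units.val_one]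
      have hyy' : ((y⁻¹ : GL (Fin n) F) : Mat) * (y : Mat) = 1 := by
        rw [← Units.val_mul, inv_mul_cancel, Units.val_one]
      have h1 : (x : Mat) = -((y : Mat) * (x : Mat)) * ((y⁻¹ : GL (Fin n) F) : Mat) := by
        rw [← hmat, Matrix.mul_assoc, hyy, Matrix.mul_one]
      have h2 : Matrix.trace (x : Mat) = - Matrix.trace (x : Mat) := by
        conv_lhs => rw [h1]
        rw [Matrix.neg_mul, Matrix.trace_neg, Matrix.trace_mul_comm, ← Matrix.mul_assoc, hyy', Matrix.one_mul]
      have h3 : (2 : F) * Matrix.trace (x : Mat) = 0 := by linear_combination h2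
      rcases mul_eq_zero.mp h3 with h0 | h0
      · exact absurd h0 h2F
      · exact h0

end Cfsg.Agent.Lib.Helper18.SpAsch
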