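import Mathlib
import Cfsg.Agent.Lib.Helper69.StNDefs

/-!
# K-StN-A5 (keystone 240104, pack K-StN of helper69 for S2401; parallel hand): `HasActsW` from the four
conjugation formulas.
-/

set_option autoImplicit false
set_option linter.unusedVariables false
set_option linter.unusedSectionVars false
set_option linter.style.longLine false

namespace Cfsg.Agent.Lib.Helper18.StN

open Cfsg.Agent.Lib.Helper69.StN Matrix

variable {n : ℕ} {K : Type*} [Field K] {S : Type*} [Group S] {X : Fin n → Fin n → K → S}

-- LEAF A5
theorem acts_w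
    (hfar : ∀ {i j k l : Fin n}, i ≠ j → k ≠ l → k ≠ i → k ≠ j → l ≠ i → l ≠ j → ∀ u t : K,
      w X i j u * X k l t * (w X i j u)⁻¹ = X k l t)
    (hrow : ∀ {i j k : Fin n}, i ≠ j → i ≠ k → j ≠ k → ∀ {u : K}, u ≠ 0 → ∀ t : K,
      w X i j u * X i k t * (w X i j u)⁻¹ = X j k (-u⁻¹ * t) ∧
      w X i j u * X j k t * (w X i j u)⁻¹ = X i k (u * t))
    (hcol : ∀ {i j k : Fin n}, i ≠ j → i ≠ k → j ≠ k → ∀ {u : K}, u ≠ 0 → ∀ t : K,
      w X i j u * X k i t * (w X i j u)⁻¹ = X k j (-(t * u)) ∧
      w X i j u * X k j t * (w X i j u)⁻¹ = X k i (t * u⁻¹))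
    (hself : ∀ {i j : Fin n}, i ≠ j → ∀ {u : K}, u ≠ 0 → ∀ t : K,
      w X i j u * X i j t * (w X i j u)⁻¹ = X j i (-(u⁻¹ ^ 2 * t)) ∧
      w X i j u * X j i t * (w X i j u)⁻¹ = X i j (-(u ^ 2 * t))) :
    HasActsW X := by
  intro i j hij u hu
  have hji : j ≠ i := hij.symm
  have hdi : dW i j u i = -u⁻¹ := by simp [dW]
  have hdj : dW i j u j = u := by simp [dW, hji]
  have hdo : ∀ m, m ≠ i → m ≠ j → dW i j u m = 1 := by
    intro m h1 h2; simp [dW, h1, h2]
  refine ⟨?_, ?_⟩
  · intro k
    by_cases hki : k = i
    · subst hki; rw [hdi]; exact neg_ne_zero.mpr (inv_ne_zero hu)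
    · by_cases hkj : k = j
      · subst hkj; rw [hdj]; exact hu
      · rw [hdo k hki hkj]; exact one_ne_zero
  · intro k l hkl t
    by_cases hki : k = i
    · subst hki
      by_cases hlj : l = j
      · subst hlj
        rw [(hself hij hu t).1, Equiv.swap_apply_left, Equiv.swap_apply_right, hdi, hdj]
        congr 1
        field_simp
      · have hlk : l ≠ k := hkl.symm
        rw [(hrow hij hkl (fun e => hlj e.symm) hu t).1, Equiv.swap_apply_left,
          Equiv.swap_apply_of_ne_of_ne hlk hlj, hdi, hdo l hlk hlj]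
        congr 1
        simp
    · by_cases hkj : k = j
      · subst hkj
        by_cases hli : l = i
        · subst hli
          rw [(hself hij hu t).2, Equiv.swap_apply_left, Equiv.swap_apply_right, hdi, hdj]
          congr 1
          field_simp
        · have hlk : l ≠ k := hkl.symm
          rw [(hrow hij (fun e => hli e.symm) hkl hu t).2, Equiv.swap_apply_right,
            Equiv.swap_apply_of_ne_of_ne hli hlk, hdj, hdo l hli hlk]
          congr 1
          simp
      · by_cases hli : l = i
        · subst hli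
          rw [(hcol hij (fun e => hki e.symm) (fun e => hkj e.symm) hu t).1, Equiv.swap_apply_left,
            Equiv.swap_apply_of_ne_of_ne hki hkj, hdi, hdo k hki hkj]
          congr 1
          field_simp
        · by_cases hlj : l = j
          · subst hlj
            rw [(hcol hij (fun e => hki e.symm) (fun e => hkj e.symm) hu t).2, Equiv.swap_apply_right,
              Equiv.swap_apply_of_ne_of_ne hki hkj, hdj, hdo k hki hkj]
            congr 1
            simp
          · rw [hfar hij hkl hki hkj hli hlj u t, Equiv.swap_apply_of_ne_of_ne hki hkj,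
              Equiv.swap_apply_of_ne_of_ne hli hlj, hdo k hki hkj, hdo l hli hlj]
            congr 1
            simp

end Cfsg.Agent.Lib.Helper18.StN
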