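import Mathlib
import Cfsg.Agent.Lib.Helper69.StNDefs

/-!
# K-StN-B2 (keystone 240105, pack K-StN of helper69 for S2401): every element of the monomial subgroup
acts monomially on the root elements; elements of the torus act with trivial permutation.
-/

set_option autoImplicit false
set_option linter.unusedVariables false
set_option linter.unusedSectionVars false
set_option linter.style.longLine false

namespace Cfsg.Agent.Lib.Helper18.StN

open Cfsg.Agent.Lib.Helper69.StN Matrix

variable {n : ℕ} {K : Type*} [Field K] {S : Type*} [Group S] {X : Fin n → Fin n → K → S}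

-- LEAF B2
theorem hasActsN (hA : HasActsW X) : HasActsN X := by
  intro m hm
  unfold Nmon at hm
  induction hm using Subgroup.closure_induction with
  | mem g hg =>
    obtain ⟨i, j, u, hij, hu, rfl⟩ := hg
    exact ⟨_, _, hA i j hij u hu⟩
  | one => exact ⟨_, _, Acts.one X⟩
  | mul a b _ _ iha ihb =>
    obtain ⟨σ, d, h1⟩ := iha
    obtain ⟨σ', d', h2⟩ := ihb
    exact ⟨_, _, Acts.mul h1 h2⟩
  | inv a _ iha =>
    obtain ⟨σ, d, h1⟩ := iha
    exact ⟨_, _, Acts.inv h1⟩

theorem exists_acts_of_mem_Htor (hA : HasActsW X) {h : S} (hh' : h ∈ Htor X) :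
    ∃ d, Acts X h 1 d := by
  unfold Htor at hh'
  induction hh' using Subgroup.closure_induction with
  | mem g hg =>
    obtain ⟨i, j, u, hij, hu, rfl⟩ := hg
    have h1 := hA i j hij u hu
    have h2 := hA i j hij (-1) (neg_ne_zero.mpr one_ne_zero)
    have h3 := Acts.mul h1 h2
    rw [Equiv.swap_mul_self] at h3
    exact ⟨_, h3⟩
  | one => exact ⟨_, Acts.one X⟩
  | mul a b _ _ iha ihb =>
    obtain ⟨d, h1⟩ := iha
    obtain ⟨d', h2⟩ := ihb
    have h3 := Acts.mul h1 h2
    rw [one_mul] at h3
    exact ⟨_, h3⟩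
  | inv a _ iha =>
    obtain ⟨d, h1⟩ := iha
    have h3 := Acts.inv h1
    rw [inv_one] at h3
    exact ⟨_, h3⟩

end Cfsg.Agent.Lib.Helper18.StN
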