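import Mathlib
import Cfsg.Prelude.Def_Transfer
import Cfsg.Agent.Lib.Helper40.T1904Defs

/-!
# K-S1904-5: in case α the centre has exponent 2
-/

set_option autoImplicit false

namespace Cfsg.Agent.Lib.Helper18.T1904

open Cfsg.Agent.Lib.Helper40.T1904
open scoped commutatorElement

universe u_1

variable {X : Type u_1} [Group X]

/-- coprime action on an abelian quotient: an `A`-fixed coset of `N` is trivial (own copy of the
basic lemma `fix_quot`). -/
theorem fix_quot_aux [Finite X] {A : Subgroup (MulAut X)} (h : Ctx X A) (N : Subgroup X)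
    (hNn : N.Normal) (_hN : Inv A N) (hab : ∀ x y : X, ⁅x, y⁆ ∈ N) (x : X)
    (hx : ∀ φ ∈ A, x⁻¹ * φ x ∈ N) : x ∈ N := by
  classical
  have : Fintype A := Fintype.ofFinite A
  let _ : CommGroup (X ⧸ N) :=
    { (inferInstance : Group (X ⧸ N)) with
      mul_comm := by
        intro a b
        induction a using QuotientGroup.induction_on with | _ a => ?_
        induction b using QuotientGroup.induction_on with | _ b => ?_
        rw [← QuotientGroup.mk_mul, ← QuotientGroup.mk_mul, QuotientGroup.eq]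
        have := hab b⁻¹ a⁻¹
        rw [commutatorElement_def, inv_inv, inv_inv] at this
        have e : (a * b)⁻¹ * (b * a) = b⁻¹ * a⁻¹ * b * a := by group
        rw [e]; exact this }
  let ν : X →* X ⧸ N :=
    { toFun := fun y => ∏ φ : A, (QuotientGroup.mk ((φ : MulAut X) y) : X ⧸ N)
      map_one' := by simp
      map_mul' := fun a b => by simp [Finset.prod_mul_distrib] }
  have hν : ∀ y, ν y = ∏ φ : A, (QuotientGroup.mk ((φ : MulAut X) y) : X ⧸ N) := fun y => rfl
  -- ν ∘ ψ = ν
  have h1 : ∀ ψ : A, ∀ y, ν ((ψ : MulAut X) y) = ν y := by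
    intro ψ y
    rw [hν, hν]
    refine Fintype.prod_equiv (Equiv.mulRight ψ) _ _ ?_
    intro φ
    simp [MulAut.mul_apply]
  -- ν is trivial
  have h2 : ∀ y, ν y = 1 := by
    have hker : Subgroup.closure {g : X | ∃ φ ∈ A, ∃ x : X, g = x⁻¹ * φ x} ≤ ν.ker := by
      rw [Subgroup.closure_le]
      rintro g ⟨φ, hφ, y, rfl⟩
      rw [SetLike.mem_coe, MonoidHom.mem_ker, map_mul, map_inv, h1 ⟨φ, hφ⟩ y, inv_mul_cancel]
    intro y
    have : y ∈ ν.ker := hker (by rw [h.hgen]; trivial)
    exact MonoidHom.mem_ker.1 this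
  -- on `x` the map ν is the |A|-th power
  have h3 : ν x = (QuotientGroup.mk x : X ⧸ N) ^ Nat.card A := by
    rw [hν, Nat.card_eq_fintype_card, ← Finset.card_univ, ← Finset.prod_const]
    refine Finset.prod_congr rfl (fun φ _ => ?_)
    exact (QuotientGroup.eq.2 (hx φ φ.2)).symm
  have h4 : (QuotientGroup.mk x : X ⧸ N) ^ Nat.card A = 1 := by rw [← h3, h2]
  obtain ⟨k, hk⟩ := h.h2 x
  have h5 : (QuotientGroup.mk x : X ⧸ N) ^ (2 ^ k) = 1 := by
    rw [← QuotientGroup.mk_pow, hk, QuotientGroup.mk_one]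
  have h6 : orderOf (QuotientGroup.mk x : X ⧸ N) = 1 := by
    have d1 := orderOf_dvd_of_pow_eq_one h4
    have d2 := orderOf_dvd_of_pow_eq_one h5
    have hcop : Nat.Coprime (Nat.card A) (2 ^ k) :=
      Nat.Coprime.pow_right k (Nat.coprime_two_right.2 h.hodd)
    exact Nat.eq_one_of_dvd_coprimes hcop d1 d2
  rw [orderOf_eq_one_iff] at h6
  exact (QuotientGroup.eq_one_iff x).1 h6

/-- K5. -/
theorem alpha_center_exp2 [Finite X] {A : Subgroup (MulAut X)} (h : Ctx X A)
    (hfix : Fixes A (Subgroup.center X)) (hea : EAmodZ X) :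
    ∀ z ∈ Subgroup.center X, z * z = 1 := by
  -- the subgroup of central elements of square one
  let S : Subgroup X :=
    { carrier := {z | z ∈ Subgroup.center X ∧ z * z = 1}
      one_mem' := ⟨Subgroup.one_mem _, one_mul 1⟩
      mul_mem' := by
        rintro a b ⟨ha, ha2⟩ ⟨hb, hb2⟩
        refine ⟨Subgroup.mul_mem _ ha hb, ?_⟩
        have hc : b * a = a * b := (Subgroup.mem_center_iff.1 ha b)
        calc a * b * (a * b) = a * (b * a) * b := by group
          _ = a * (a * b) * b := by rw [hc]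
          _ = (a * a) * (b * b) := by group
          _ = 1 := by rw [ha2, hb2, one_mul]
      inv_mem' := by
        rintro a ⟨ha, ha2⟩
        refine ⟨Subgroup.inv_mem _ ha, ?_⟩
        rw [← mul_inv_rev, ha2, inv_one] }
  -- every commutator lies in `S`
  have hcomm : ∀ x y : X, ⁅x, y⁆ ∈ S := by
    intro x y
    refine ⟨hea.2 x y, ?_⟩
    have hc := hea.2 x y
    have hxx := hea.1 x
    -- ⁅x*x, y⁆ = ⁅x,y⁆ * ⁅x,y⁆
    have e1 : ⁅x * x, y⁆ = ⁅x, y⁆ * ⁅x, y⁆ := by
      have hcx : x * ⁅x, y⁆ = ⁅x, y⁆ * x := Subgroup.mem_center_iff.1 hc x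
      calc ⁅x * x, y⁆ = x * ⁅x, y⁆ * x⁻¹ * ⁅x, y⁆ := by
            simp only [commutatorElement_def]; group
        _ = ⁅x, y⁆ * x * x⁻¹ * ⁅x, y⁆ := by rw [hcx]
        _ = ⁅x, y⁆ * ⁅x, y⁆ := by group
    have e2 : ⁅x * x, y⁆ = 1 := by
      rw [commutatorElement_eq_one_iff_mul_comm]
      exact (Subgroup.mem_center_iff.1 hxx y).symm
    rw [← e1, e2]
  have hle : commutator X ≤ S := by
    rw [commutator_eq_closure, Subgroup.closure_le]
    rintro g ⟨x, y, rfl⟩
    exact hcomm x y
  -- the commutator subgroup is `A`-invariant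
  have hinv : Inv A (commutator X) := by
    intro φ _ n hn
    have hchar : (commutator X).Characteristic := by
      unfold commutator; infer_instance
    have := (Subgroup.characteristic_iff_map_le.1 hchar) φ
    exact this (Subgroup.mem_map_of_mem _ hn)
  intro z hz
  have hzN : z ∈ commutator X := by
    refine fix_quot_aux h (commutator X) inferInstance hinv ?_ z ?_
    · intro x y
      rw [commutator_eq_closure]
      exact Subgroup.subset_closure ⟨x, y, rfl⟩
    · intro φ hφ
      rw [hfix φ hφ z hz, inv_mul_cancel]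
      exact Subgroup.one_mem _
  exact (hle hzN).2

end Cfsg.Agent.Lib.Helper18.T1904
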