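import Mathlib

/-! Keystone K81-A for helper80 (S4081): twisted linear automorphisms over `ZMod p` for `T` with `Φ_q(T) = 0`. -/

set_option autoImplicit false

namespace Cfsg.Agent.Lib.Helper18.Twisted

section generic
variable {F K V : Type*} [Field F] [Field K] [Algebra F K] [AddCommGroup V] [Module F V]

/-- `V` seen as a `K`-vector space through an algebra hom `K → End_F V` -/
def Via (_f : K →ₐ[F] Module.End F V) : Type _ := V

namespace Via
variable (f : K →ₐ[F] Module.End F V)

instance instAddCommGroup : AddCommGroup (Via f) := inferInstanceAs (AddCommGroup V)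
instance instModuleF : Module F (Via f) := inferInstanceAs (Module F V)
instance instModuleK : Module K (Via f) := Module.compHom V (f : K →+* Module.End F V)

/-- the identity map -/
def of : V ≃ₗ[F] Via f := LinearEquiv.refl F V

theorem smul_of (x : K) (v : V) : x • of f v = of f (f x v) := rfl

theorem of_symm_smul (x : K) (v : Via f) : (of f).symm (x • v) = f x ((of f).symm v) := rfl

instance instIsScalarTower : IsScalarTower F K (Via f) :=
  ⟨fun c x v => by
    show f (c • x) v = c • f x v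
    rw [map_smul]; rfl⟩

instance instFinite [Finite V] : Finite (Via f) := inferInstanceAs (Finite V)

end Via

theorem exists_intertwiner [Finite K] [Finite V] (f g : K →ₐ[F] Module.End F V) :
    ∃ σ : V ≃ₗ[F] V, ∀ x v, σ (f x v) = g x (σ v) := by
  have hK : 1 < Nat.card K := Finite.one_lt_card
  have h1 : Nat.card (Via f) = Nat.card K ^ Module.finrank K (Via f) :=
    Module.natCard_eq_pow_finrank
  have h2 : Nat.card (Via g) = Nat.card K ^ Module.finrank K (Via g) :=
    Module.natCard_eq_pow_finrank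
  have h3 : Nat.card (Via f) = Nat.card (Via g) := rfl
  have h4 : Module.finrank K (Via f) = Module.finrank K (Via g) := by
    rw [h1, h2] at h3
    exact Nat.pow_right_injective hK h3
  let e : Via f ≃ₗ[K] Via g := LinearEquiv.ofFinrankEq _ _ h4
  refine ⟨(Via.of f).trans ((e.restrictScalars F).trans (Via.of g).symm), ?_⟩
  intro x v
  show (Via.of g).symm (e (Via.of f (f x v))) = g x ((Via.of g).symm (e (Via.of f v)))
  rw [← Via.smul_of, map_smul, Via.of_symm_smul]

theorem exists_commuting_aut [Finite V] (f : K →ₐ[F] Module.End F V) (v w : V)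
    (hv : v ≠ 0) (hw : w ≠ 0) :
    ∃ σ : V ≃ₗ[F] V, (∀ x u, σ (f x u) = f x (σ u)) ∧ σ v = w := by
  have hv' : Via.of f v ≠ 0 := fun h => hv ((Via.of f).map_eq_zero_iff.mp h)
  have hw' : Via.of f w ≠ 0 := fun h => hw ((Via.of f).map_eq_zero_iff.mp h)
  let e1 := LinearEquiv.toSpanNonzeroSingleton K (Via f) (Via.of f v) hv'
  let e2 := LinearEquiv.toSpanNonzeroSingleton K (Via f) (Via.of f w) hw'
  obtain ⟨g, hg⟩ := Submodule.exists_linearEquiv_restrict_eq (e1.symm.trans e2)
  refine ⟨(Via.of f).trans ((g.restrictScalars F).trans (Via.of f).symm), ?_, ?_⟩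
  · intro x u
    show (Via.of f).symm (g (Via.of f (f x u))) = f x ((Via.of f).symm (g (Via.of f u)))
    rw [← Via.smul_of, map_smul, Via.of_symm_smul]
  · show (Via.of f).symm (g (Via.of f v)) = w
    have := hg ⟨Via.of f v, Submodule.mem_span_singleton_self _⟩
    have h1 : e1.symm ⟨Via.of f v, Submodule.mem_span_singleton_self _⟩ = 1 := by
      rw [LinearEquiv.symm_apply_eq]
      apply Subtype.ext
      simp [e1]
    rw [LinearEquiv.trans_apply, h1] at this
    have h2 : ((e2 1 : Submodule.span K {Via.of f w}) : Via f) = Via.of f w := by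
      simp [e2]
    rw [← this, h2]
    rfl

end generic

section concrete
open Polynomial

variable {p q : ℕ} [Fact p.Prime] [Fact q.Prime]

theorem irreducible_cyclotomic (hpq : p ≠ q) (hprim : orderOf (p : ZMod q) = q - 1) :
    Irreducible (cyclotomic q (ZMod p)) := by
  have hpn : ¬ p ∣ q := fun h =>
    hpq ((Nat.prime_dvd_prime_iff_eq (Fact.out : p.Prime) (Fact.out : q.Prime)).mp h)
  apply ZMod.irreducible_of_dvd_cyclotomic_of_natDegree hpn dvd_rfl
  rw [natDegree_cyclotomic, Nat.totient_prime (Fact.out : q.Prime), ← hprim, ← orderOf_units,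
    ZMod.coe_unitOfCoprime]

variable {V : Type*} [AddCommGroup V] [Module (ZMod p) V]

/-- the algebra hom `F_p[X]/(Φ_q) → End V` attached to `S` with `Φ_q(S) = 0` -/
noncomputable def homOf (S : Module.End (ZMod p) V) (hS : aeval S (cyclotomic q (ZMod p)) = 0) :
    AdjoinRoot (cyclotomic q (ZMod p)) →ₐ[ZMod p] Module.End (ZMod p) V :=
  Ideal.Quotient.liftₐ (Ideal.span {cyclotomic q (ZMod p)}) (aeval S) (by
    intro a ha
    obtain ⟨b, rfl⟩ := Ideal.mem_span_singleton.mp ha
    rw [map_mul, hS, zero_mul])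

theorem homOf_root (S : Module.End (ZMod p) V) (hS : aeval S (cyclotomic q (ZMod p)) = 0) :
    homOf S hS (AdjoinRoot.root _) = S := by
  change aeval S (X : (ZMod p)[X]) = S
  simp

theorem aeval_cyclotomic_eq {A : Type*} [Ring A] [Algebra (ZMod p) A] (a : A) :
    aeval a (cyclotomic q (ZMod p)) = ∑ i ∈ Finset.range q, a ^ i := by
  rw [cyclotomic_prime, map_sum]
  simp

end concrete

section final
open Polynomial

variable {p q : ℕ} [Fact p.Prime] [Fact q.Prime]

/-- in a field of characteristic `p ≠ q`, if `∑_{i<q} ζ^i = 0` then `∑_{i<q} (ζ^k)^i = 0`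
for `q ∤ k` -/
theorem geom_sum_pow_eq_zero {K : Type*} [Field K] [CharP K p] (hpq : p ≠ q) (ζ : K)
    (hζ : ∑ i ∈ Finset.range q, ζ ^ i = 0) (k : ℕ) (hk : ¬ q ∣ k) :
    ∑ i ∈ Finset.range q, (ζ ^ k) ^ i = 0 := by
  have hq : (Fact.out : q.Prime) = (Fact.out : q.Prime) := rfl
  have hζq : ζ ^ q = 1 := by
    have := geom_sum_mul ζ q
    rw [hζ, zero_mul] at this
    exact (sub_eq_zero.mp this.symm)
  have hζ1 : ζ ≠ 1 := by
    rintro rfl
    simp only [one_pow, Finset.sum_const, Finset.card_range, nsmul_eq_mul, mul_one] at hζ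
    rw [CharP.cast_eq_zero_iff K p] at hζ
    exact hpq ((Nat.prime_dvd_prime_iff_eq (Fact.out : p.Prime) (Fact.out : q.Prime)).mp hζ)
  have hord : orderOf ζ = q := orderOf_eq_prime hζq hζ1
  have hζk1 : ζ ^ k ≠ 1 := by
    intro h
    apply hk
    rw [← hord]
    exact orderOf_dvd_of_pow_eq_one h
  have hζkq : (ζ ^ k) ^ q = 1 := by rw [← pow_mul, mul_comm, pow_mul, hζq, one_pow]
  have := geom_sum_mul (ζ ^ k) q
  rw [hζkq, sub_self] at this
  exact (mul_eq_zero.mp this).resolve_right (sub_ne_zero.mpr hζk1)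

theorem exists_twisted_auts (hpq : p ≠ q)
    (hprim : orderOf (p : ZMod q) = q - 1)
    {V : Type*} [AddCommGroup V] [Module (ZMod p) V] [Finite V]
    (T : V →ₗ[ZMod p] V) (hT : ∑ i ∈ Finset.range q, T ^ i = 0) :
    (∀ k : ℕ, ¬ q ∣ k → ∃ σ : V ≃ₗ[ZMod p] V, ∀ v, σ (T v) = (T ^ k) (σ v)) ∧
    (∀ v w : V, v ≠ 0 → w ≠ 0 → ∃ σ : V ≃ₗ[ZMod p] V, (∀ u, σ (T u) = T (σ u)) ∧ σ v = w) := by
  have : Fact (Irreducible (cyclotomic q (ZMod p))) := ⟨irreducible_cyclotomic hpq hprim⟩
  have : Module.Finite (ZMod p) (AdjoinRoot (cyclotomic q (ZMod p))) :=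
    (cyclotomic.monic q (ZMod p)).finite_adjoinRoot
  have : Finite (AdjoinRoot (cyclotomic q (ZMod p))) := Module.finite_of_finite (ZMod p)
  have : CharP (AdjoinRoot (cyclotomic q (ZMod p))) p :=
    charP_of_injective_algebraMap (algebraMap (ZMod p) _).injective p
  have hTΦ : aeval T (cyclotomic q (ZMod p)) = 0 := by rw [aeval_cyclotomic_eq]; exact hT
  set ζ := AdjoinRoot.root (cyclotomic q (ZMod p)) with hζdef
  have hζ : ∑ i ∈ Finset.range q, ζ ^ i = 0 := by
    rw [← aeval_cyclotomic_eq (p := p) (q := q) ζ, AdjoinRoot.aeval_eq, AdjoinRoot.mk_self]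
  constructor
  · intro k hk
    have hk0 : aeval (ζ ^ k) (cyclotomic q (ZMod p)) = 0 := by
      rw [aeval_cyclotomic_eq]
      exact geom_sum_pow_eq_zero hpq ζ hζ k hk
    let τ : AdjoinRoot (cyclotomic q (ZMod p)) →ₐ[ZMod p] AdjoinRoot (cyclotomic q (ZMod p)) :=
      AdjoinRoot.liftAlgHom (cyclotomic q (ZMod p)) (Algebra.ofId _ _) (ζ ^ k) hk0
    have hτ : τ ζ = ζ ^ k := AdjoinRoot.liftAlgHom_root _ _ _ _
    obtain ⟨σ, hσ⟩ := exists_intertwiner (homOf T hTΦ) ((homOf T hTΦ).comp τ)
    refine ⟨σ, fun v => ?_⟩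
    have := hσ ζ v
    rw [homOf_root, AlgHom.comp_apply, hτ, map_pow, homOf_root] at this
    exact this
  · intro v w hv hw
    obtain ⟨σ, hσ, hσv⟩ := exists_commuting_aut (homOf T hTΦ) v w hv hw
    refine ⟨σ, fun u => ?_, hσv⟩
    have := hσ ζ u
    rw [homOf_root] at this
    exact this

end final

end Cfsg.Agent.Lib.Helper18.Twisted
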