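import Mathlib
import Cfsg.Prelude.Def_JordanBlocks
import Cfsg.Prelude.Def_LieClassical
import Cfsg.Agent.Lib.Helper73.UCDefs

set_option autoImplicit false
set_option linter.unusedSectionVars false
set_option linter.unusedVariables false
set_option linter.style.longLine false

/-! Keystone K-UC-C4 (264617): assembly of C1, C2c, C3 (hypothesis form): a fibre count. -/

namespace Cfsg.Agent.Lib.Helper18.UC

open Matrix Cfsg.Agent.Lib.Helper73.UC

/-- counting along the fibres of a map: if all fibres over `{y | R y}` have `n` elements, the total space has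
`n * #{y | R y}` elements -/
theorem card_of_fibers {X Y : Type*} [Finite X] [Finite Y] (P : X → Prop) (π : X → Y)
    (R : Y → Prop) (n : ℕ) (hfib : ∀ y, R y → Nat.card {x : X // P x ∧ π x = y} = n) :
    Nat.card {x : X // P x ∧ R (π x)} = n * Nat.card {y : Y // R y} := by
  classical
  have : Fintype {y : Y // R y} := Fintype.ofFinite _
  let f : {x : X // P x ∧ R (π x)} → {y : Y // R y} := fun x => ⟨π x.1, x.2.2⟩
  rw [← Nat.card_congr (Equiv.sigmaFiberEquiv f), Nat.card_sigma]
  have hfib' : ∀ y : {y : Y // R y}, Nat.card {x : {x : X // P x ∧ R (π x)} // f x = y} = n := by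
    intro y
    rw [← hfib y.1 y.2]
    apply Nat.card_congr
    exact
      { toFun := fun x => ⟨x.1.1, x.1.2.1, congrArg Subtype.val x.2⟩
        invFun := fun x => ⟨⟨x.1, x.2.1, by rw [x.2.2]; exact y.2⟩, Subtype.ext x.2.2⟩
        left_inv := fun x => by apply Subtype.ext; apply Subtype.ext; rfl
        right_inv := fun x => by apply Subtype.ext; rfl }
  rw [Finset.sum_congr rfl (fun y _ => hfib' y), Finset.sum_const, Finset.card_univ, smul_eq_mul,
    Nat.card_eq_fintype_card, mul_comm]

variable {K : Type*} [Field K]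

/-- LEAF C4 (assembly, hypothesis form: `h1 h2 h3` are the statements of C1, C2c, C3). -/
theorem card_HC_units_of [Fintype K] {q t : ℕ} (φ : K →+* K) (d : Fin t → ℕ) (hd : ∀ k, 1 ≤ d k)
    (h1 : ∀ c : CIdx d → K, c ∈ HC d φ → topC d hd c ∈ BDH d φ)
    (h2 : ∀ T : Matrix (Fin t) (Fin t) K, T ∈ BDH d φ →
      Nat.card {c : CIdx d → K // c ∈ HC d φ ∧ topC d hd c = T} = q ^ gam d)
    (h3 : Nat.card {T : Matrix (Fin t) (Fin t) K // T ∈ BDH d φ ∧ IsUnit T.det} =
      ∏ i ∈ Finset.range (Finset.univ.sup d + 1), hermUnits φ (mult d i)) :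
    Nat.card {c : CIdx d → K // c ∈ HC d φ ∧ IsUnit (topC d hd c).det} =
      q ^ gam d * ∏ i ∈ Finset.range (Finset.univ.sup d + 1), hermUnits φ (mult d i) := by
  have hcongr : Nat.card {c : CIdx d → K // c ∈ HC d φ ∧ IsUnit (topC d hd c).det} =
      Nat.card {c : CIdx d → K // c ∈ HC d φ ∧
        (topC d hd c ∈ BDH d φ ∧ IsUnit (topC d hd c).det)} := by
    apply Nat.card_congr
    apply Equiv.subtypeEquivRight
    intro c
    constructor
    · rintro ⟨hc, hu⟩
      exact ⟨hc, h1 c hc, hu⟩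
    · rintro ⟨hc, _, hu⟩
      exact ⟨hc, hu⟩
  rw [hcongr, ← h3]
  exact card_of_fibers (fun c : CIdx d → K => c ∈ HC d φ) (topC d hd)
    (fun T => T ∈ BDH d φ ∧ IsUnit T.det) (q ^ gam d) (fun T hT => h2 T hT.1)

end Cfsg.Agent.Lib.Helper18.UC
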