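import Cfsg.Agent.Lib.Helper73.UNdDefs
import Cfsg.Agent.Lib.Helper08.SUCard

/-!
# K-UNd-T (keystone 595404, S5954 pack of helper73): transport between `SU n F q` on `Fin n → F` and
abstract hermitian spaces (orthonormal bases in every characteristic: `Helper80.AschU.exists_orthonormal'`).
-/

set_option autoImplicit false
set_option linter.unusedSectionVars false
set_option linter.unusedVariables false
set_option linter.style.longLine false

namespace Cfsg.Agent.Lib.Helper18.UNd

open Module Cfsg.Agent.Lib.Helper99.HermONB Cfsg.Agent.Lib.Helper98.Elus Cfsg.Agent.Lib.Helper73.UNd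

open scoped Matrix

universe u
variable {F : Type u} [Field F] {V : Type u} [AddCommGroup V] [Module F V]
variable {q : ℕ} {h : V → V → F}

theorem isom_of_mem_SU (n : ℕ) (x : Matrix.SpecialLinearGroup (Fin n) F) (hx : x ∈ Cfsg.SU n F q) :
    Isom (Cfsg.hermForm n F q) (Matrix.toLin' (x : Matrix (Fin n) (Fin n) F)) := by
  intro u v
  rw [Matrix.toLin'_apply, Matrix.toLin'_apply]
  exact (Cfsg.Agent.Lib.Helper08.mem_SU_iff x).mp hx u v

/-- orthonormal bases exist in every characteristic -/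
theorem exists_onb_basis [Fintype F] (hF : Fintype.card F = q ^ 2)
    {V' : Type u} [AddCommGroup V'] [Module F V'] [FiniteDimensional F V'] (h' : V' → V' → F)
    (hh' : HForm q h') (n : ℕ) (hn0 : 0 < n) (hn : Module.finrank F V' = n) :
    ∃ b : Module.Basis (Fin n) F V', ∀ i j, h' (b i) (b j) = if i = j then 1 else 0 := by
  classical
  have : Nonempty (Fin n) := ⟨⟨0, hn0⟩⟩
  obtain ⟨e, he⟩ := Cfsg.Agent.Lib.Helper80.AschU.exists_orthonormal' hF n V' h' hh' hn
  have hli : LinearIndependent F e := by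
    rw [linearIndependent_iff']
    intro s c hc i hi
    have h1 := hh'.sum_left s c e (e i)
    rw [hc, hh'.zero_left] at h1
    simp only [he, mul_ite, mul_one, mul_zero] at h1
    rw [Finset.sum_ite_eq' s i] at h1
    simpa [hi] using h1.symm
  refine ⟨basisOfLinearIndependentOfCardEqFinrank hli (by rw [Fintype.card_fin, hn]), ?_⟩
  intro i j
  rw [coe_basisOfLinearIndependentOfCardEqFinrank]
  exact he i j

theorem transport_fixed [Fintype F] (hF : Fintype.card F = q ^ 2) (n m r : ℕ) (hn : 0 < n)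
    (hL : ∀ x : Matrix.SpecialLinearGroup (Fin n) F, x ∈ Cfsg.SU n F q →
      (∃ z : F, ((x ^ r : Matrix.SpecialLinearGroup (Fin n) F) : Matrix (Fin n) (Fin n) F) =
        z • (1 : Matrix (Fin n) (Fin n) F)) →
      (∀ z : F, (x : Matrix (Fin n) (Fin n) F) ≠ z • (1 : Matrix (Fin n) (Fin n) F)) →
      ∃ W : Submodule F (Fin n → F), finrank F W = m ∧ ND (Cfsg.hermForm n F q) W ∧
        Inv (Matrix.toLin' (x : Matrix (Fin n) (Fin n) F)) W)
    {V' : Type u} [AddCommGroup V'] [Module F V'] [FiniteDimensional F V']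
    (h' : V' → V' → F) (hh' : HForm q h') (hV' : finrank F V' = n) (y' : V' →ₗ[F] V')
    (hiso' : Isom h' y') (hdet' : LinearMap.det y' = 1) (z : F) (hy' : y' ^ r = z • 1)
    (hns' : ∀ c : F, y' ≠ c • 1) :
    ∃ W' : Submodule F V', Inv y' W' ∧ ND h' W' ∧ finrank F W' = m := by
  classical
  obtain ⟨b, hb⟩ := exists_onb_basis hF h' hh' n hn hV'
  obtain ⟨M, hM⟩ : ∃ M, M = LinearMap.toMatrixAlgEquiv b y' := ⟨_, rfl⟩
  have hM' : M = LinearMap.toMatrix b b y' := hM
  have hMdet : M.det = 1 := by rw [hM', LinearMap.det_toMatrix, hdet']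
  have hrepr : ∀ u : Fin n → F, ⇑(b.repr (b.equivFun.symm u)) = u := by
    intro u
    rw [← Module.Basis.equivFun_apply]
    exact b.equivFun.apply_symm_apply u
  have hform : ∀ u v : Fin n → F,
      h' (b.equivFun.symm u) (b.equivFun.symm v) = Cfsg.hermForm n F q u v := by
    intro u v
    rw [form_eq_hermForm hh' b hb, hrepr, hrepr]
  have hact : ∀ u : Fin n → F, y' (b.equivFun.symm u) = b.equivFun.symm (M *ᵥ u) := by
    intro u
    apply b.equivFun.injective
    rw [LinearEquiv.apply_symm_apply]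
    have := LinearMap.toMatrix_mulVec_repr b b y' (b.equivFun.symm u)
    rw [hrepr] at this
    rw [hM', this]
    rfl
  have hmem : ∀ u v : Fin n → F, Cfsg.hermForm n F q (M *ᵥ u) (M *ᵥ v) =
      Cfsg.hermForm n F q u v := by
    intro u v
    rw [← hform, ← hact, ← hact, hiso', hform]
  obtain ⟨x, hxdef⟩ : ∃ x : Matrix.SpecialLinearGroup (Fin n) F, x = ⟨M, hMdet⟩ := ⟨_, rfl⟩
  have hxM : (x : Matrix (Fin n) (Fin n) F) = M := by rw [hxdef]
  have hx : x ∈ Cfsg.SU n F q := by
    rw [Cfsg.Agent.Lib.Helper08.mem_SU_iff, hxM]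
    exact hmem
  have hxr : ∃ z : F, ((x ^ r : Matrix.SpecialLinearGroup (Fin n) F) :
      Matrix (Fin n) (Fin n) F) = z • (1 : Matrix (Fin n) (Fin n) F) := by
    refine ⟨z, ?_⟩
    rw [Matrix.SpecialLinearGroup.coe_pow, hxM, hM, ← map_pow, hy', map_smul, map_one]
  have hxns : ∀ c : F, (x : Matrix (Fin n) (Fin n) F) ≠ c • (1 : Matrix (Fin n) (Fin n) F) := by
    intro c hc
    apply hns' c
    apply (LinearMap.toMatrixAlgEquiv b).injective
    rw [← hM, ← hxM, hc, map_smul, map_one]
  obtain ⟨W, hWd, hWnd, hWinv⟩ := hL x hx hxr hxns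
  refine ⟨W.map (b.equivFun.symm : (Fin n → F) →ₗ[F] V'), ?_, ?_, ?_⟩
  · rintro _ ⟨w, hw, rfl⟩
    show y' (b.equivFun.symm w) ∈ _
    rw [hact]
    refine ⟨_, ?_, rfl⟩
    have := hWinv w hw
    rw [Matrix.toLin'_apply, hxM] at this
    exact this
  · rintro _ ⟨w, hw, rfl⟩ h0
    have : w = 0 := by
      apply hWnd w hw
      intro v hv
      rw [← hform]
      exact h0 _ ⟨v, hv, rfl⟩
    rw [this]
    simp
  · rw [LinearEquiv.finrank_map_eq]
    exact hWd

end Cfsg.Agent.Lib.Helper18.UNd
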