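import Mathlib
import Cfsg.Agent.Lib.Helper46.UTiDefs
import Cfsg.Agent.Lib.Helper46.UTiB1
import Cfsg.Agent.Lib.Helper99.HermCount
import Cfsg.Agent.Lib.Helper98.Ti7
import Cfsg.Agent.Lib.Helper51.UTiB5

/-!
# K-UTi-C (keystone 595313, S5953 pack of helper46): the number of totally isotropic subspaces

Counting totally isotropic frames of a nondegenerate hermitian space: a frame of length `k` extends in
`Q ^ k * (Z (n - 2 k) - 1)` ways, `Z d` the number of isotropic vectors of the `d`-dimensional space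
(`Helper99.hcnt`), so `N(m) * ∏_{j<m} (Q^(m-j) - 1) = ∏_{j<m} (Z (n - 2 j) - 1)` and
`Z d - 1 = (q^d - (-1)^d) (q^(d-1) - (-1)^(d-1))`.
-/

set_option autoImplicit false
set_option linter.unusedSectionVars false
set_option linter.unusedVariables false
set_option linter.unusedSimpArgs false
set_option linter.style.haveILetI false
set_option linter.style.longLine false

namespace Cfsg.Agent.Lib.Helper18.UTi

open Module Cfsg.Agent.Lib.Helper98.Elus Cfsg.Agent.Lib.Helper46.UTi
open Cfsg.Agent.Lib.Helper19 (pow_q_pow_q add_pow_q sum_pow_q q_pos one_lt_q)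

universe u

section abstract_

variable {F : Type u} [Field F] [Fintype F] {V : Type u} [AddCommGroup V] [Module F V]
  [FiniteDimensional F V] {q : ℕ} {H : V → V → F}

/-- totally isotropic frames for a hermitian form -/
def IsTIFrameH (H : V → V → F) {k : ℕ} (s : Fin k → V) : Prop :=
  LinearIndependent F s ∧ ∀ a b, H (s a) (s b) = 0

theorem isTIFrameH_cons_iff (hF : Fintype.card F = q ^ 2) (hH : IsHerm q H) {k : ℕ}
    (s : Fin k → V) (x : V) :
    IsTIFrameH H (Fin.cons x s : Fin (k + 1) → V) ↔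
      IsTIFrameH H s ∧
        ((∀ a, H (s a) x = 0) ∧ H x x = 0 ∧ x ∉ Submodule.span F (Set.range s)) := by
  constructor
  · rintro ⟨h1, h2⟩
    obtain ⟨h3, h4⟩ := linearIndependent_finCons.mp h1
    refine ⟨⟨h3, fun a b => ?_⟩, fun a => ?_, ?_, h4⟩
    · have := h2 a.succ b.succ
      simpa using this
    · have := h2 a.succ 0
      simpa using this
    · have := h2 0 0
      simpa using this
  · rintro ⟨⟨h1, h2⟩, h3, h5, h4⟩
    refine ⟨linearIndependent_finCons.mpr ⟨h1, h4⟩, fun a b => ?_⟩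
    cases a using Fin.cases with
    | zero =>
      cases b using Fin.cases with
      | zero => simpa using h5
      | succ b => simpa using hH.eq_zero_symm (q_pos hF) (h3 b)
    | succ a =>
      cases b using Fin.cases with
      | zero => simpa using h3 a
      | succ b => simpa using h2 a b

theorem mem_orth_span_iff (hF : Fintype.card F = q ^ 2) (hH : IsHerm q H) {k : ℕ}
    (s : Fin k → V) (x : V) :
    x ∈ orth hH (Submodule.span F (Set.range s)) ↔ ∀ a, H (s a) x = 0 := by
  rw [mem_orth' hF hH]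
  constructor
  · intro h a
    exact h (s a) (Submodule.subset_span ⟨a, rfl⟩)
  · intro h w hw
    induction hw using Submodule.span_induction with
    | mem y hy =>
      obtain ⟨a, rfl⟩ := hy
      exact h a
    | zero => exact hH.zero_left x
    | add y z _ _ hy hz => rw [hH.add_left, hy, hz, add_zero]
    | smul c y _ hy => rw [hH.smul_left, hy, mul_zero]

theorem ort_span (hF : Fintype.card F = q ^ 2) (hH : IsHerm q H) {k : ℕ} (s : Fin k → V)
    (h : ∀ a b, H (s a) (s b) = 0) :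
    Ort H (Submodule.span F (Set.range s)) (Submodule.span F (Set.range s)) := by
  rw [ort_iff_le_orth hH]
  apply Submodule.span_le.mpr
  rintro _ ⟨b, rfl⟩
  exact (mem_orth_span_iff hF hH s (s b)).mpr (fun a => h a b)

/-- the number of isotropic vectors of a nondegenerate subspace depends only on its dimension -/
theorem card_isotropic_of_nonDeg (hF : Fintype.card F = q ^ 2) (hH : IsHerm q H)
    (U : Submodule F V) (hU : NonDeg H U) (d : ℕ) (hd : finrank F U = d) :
    Nat.card {u : U // H (u : V) (u : V) = 0} = Cfsg.Agent.Lib.Helper99.hcnt F q d 0 := by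
  classical
  obtain ⟨H', hH'def⟩ : ∃ H' : U → U → F, H' = fun (a b : U) => H (a : V) (b : V) := ⟨_, rfl⟩
  have hH' : IsHerm q H' := by
    subst hH'def
    exact ⟨fun x x' y => hH.add_left x x' y, fun c x y => hH.smul_left c x y,
      fun x y => hH.conj x y⟩
  have hV' : NonDeg H' ⊤ := by
    subst hH'def
    intro u _ hu
    have := hU u u.2 (fun v hv => hu ⟨v, hv⟩ Submodule.mem_top)
    exact Subtype.ext this
  obtain ⟨b, hb⟩ := Cfsg.Agent.Lib.Helper51.UTi.exists_onb hF hH' hV' d hd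
  have hform : ∀ u : U, H' u u = Cfsg.hermForm d F q (b.equivFun u) (b.equivFun u) := by
    intro u
    conv_lhs => rw [← b.sum_equivFun u]
    rw [hH'.sum_left]
    unfold Cfsg.hermForm
    apply Finset.sum_congr rfl
    intro i _
    rw [hH'.sum_right hF]
    congr 1
    rw [Finset.sum_eq_single i]
    · rw [hb i i, if_pos rfl, mul_one]
    · intro j _ hji
      rw [hb i j, if_neg (Ne.symm hji), mul_zero]
    · intro hi
      exact absurd (Finset.mem_univ i) hi
  unfold Cfsg.Agent.Lib.Helper99.hcnt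
  apply Nat.card_congr
  refine b.equivFun.toEquiv.subtypeEquiv (fun u => ?_)
  have := hform u
  subst hH'def
  show H (u : V) (u : V) = 0 ↔ Cfsg.hermForm d F q (b.equivFun u) (b.equivFun u) = 0
  rw [← this]

theorem natCard_submodule_aux [Finite V] (W : Submodule F V) :
    Nat.card W = Fintype.card F ^ finrank F W := by
  haveI : Fintype W := Fintype.ofFinite W
  rw [Nat.card_eq_fintype_card, Module.card_eq_pow_finrank (K := F) (V := W)]

/-- the fibre of the frame-extension map -/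
theorem card_fiber (hF : Fintype.card F = q ^ 2) (hH : IsHerm q H) (hV : NonDeg H ⊤) {k : ℕ}
    (s : Fin k → V) (hs : IsTIFrameH H s) :
    Nat.card {x : V // (∀ a, H (s a) x = 0) ∧ H x x = 0 ∧
        x ∉ Submodule.span F (Set.range s)} =
      Fintype.card F ^ k *
        (Cfsg.Agent.Lib.Helper99.hcnt F q (finrank F V - 2 * k) 0 - 1) := by
  classical
  haveI : Finite V := Module.finite_of_finite F
  obtain ⟨S, hS⟩ : ∃ S : Submodule F V, S = Submodule.span F (Set.range s) := ⟨_, rfl⟩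
  obtain ⟨O, hO⟩ : ∃ O : Submodule F V, O = orth hH S := ⟨_, rfl⟩
  rw [← hS]
  have hSd : finrank F S = k := by
    rw [hS, finrank_span_eq_card hs.1, Fintype.card_fin]
  have hSS : Ort H S S := hS ▸ ort_span hF hH s hs.2
  have hSO : S ≤ O := hO ▸ (ort_iff_le_orth hH S S).mp hSS
  have hOd : finrank F O + k = finrank F V := by
    have := finrank_orth_inf hF hH S ⊤ le_top hV
    rw [inf_top_eq, finrank_top, hSd, ← hO] at this
    exact this
  -- the double orthogonal
  have hOO : orth hH O = S := by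
    have h1 : S ≤ orth hH O := by
      intro z hz x hx
      rw [hO] at hx
      exact hH.eq_zero_symm (q_pos hF) (hx z hz)
    have h2 := finrank_orth_inf hF hH O ⊤ le_top hV
    rw [inf_top_eq, finrank_top] at h2
    have h3 : finrank F S = finrank F ↥(orth hH O) := by omega
    exact (Submodule.eq_of_le_of_finrank_eq h1 h3).symm
  -- a complement of `S` in `O`
  obtain ⟨T, hT⟩ := Submodule.exists_isCompl S
  obtain ⟨U, hUdef⟩ : ∃ U : Submodule F V, U = T ⊓ O := ⟨_, rfl⟩
  have hUO : U ≤ O := hUdef ▸ inf_le_right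
  have hsup : S ⊔ U = O := by
    rw [hUdef, ← sup_inf_assoc_of_le T hSO, hT.sup_eq_top, top_inf_eq]
  have hinf : S ⊓ U = ⊥ := by
    apply le_bot_iff.mp
    rw [hUdef, ← hT.inf_eq_bot]
    exact le_inf inf_le_left (inf_le_right.trans inf_le_left)
  have hUd : finrank F U = finrank F V - 2 * k := by
    have := Submodule.finrank_sup_add_finrank_inf_eq S U
    rw [hsup, hinf, finrank_bot, hSd] at this
    omega
  have hSU : ∀ z ∈ S, ∀ u ∈ U, H z u = 0 ∧ H u z = 0 := by
    intro z hz u hu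
    have h1 : H u z = 0 := by
      have := hUO hu
      rw [hO] at this
      exact this z hz
    exact ⟨hH.eq_zero_symm (q_pos hF) h1, h1⟩
  have hUnd : NonDeg H U := by
    intro u hu hu0
    have h1 : u ∈ orth hH O := by
      intro x hx
      rw [← hsup] at hx
      obtain ⟨z, hz, u', hu', rfl⟩ := Submodule.mem_sup.mp hx
      rw [hH.add_right hF, (hSU z hz u hu).2, hu0 u' hu', add_zero]
    rw [hOO] at h1
    have h2 : u ∈ S ⊓ U := ⟨h1, hu⟩
    rw [hinf] at h2
    exact (Submodule.mem_bot F).mp h2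
  have hnorm : ∀ z ∈ S, ∀ u ∈ U, H (z + u) (z + u) = H u u := by
    intro z hz u hu
    rw [hH.add_left, hH.add_right hF, hH.add_right hF, hSS z hz z hz, (hSU z hz u hu).1,
      (hSU z hz u hu).2, zero_add, zero_add, zero_add]
  -- the bijection
  have hbij : Nat.card {x : V // (∀ a, H (s a) x = 0) ∧ H x x = 0 ∧ x ∉ S} =
      Nat.card (S × {u : U // H (u : V) (u : V) = 0 ∧ u ≠ 0}) := by
    symm
    refine Nat.card_congr (Equiv.ofBijective
      (fun zu => ⟨(zu.1 : V) + (zu.2.1 : V), ?_, ?_, ?_⟩) ⟨?_, ?_⟩)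
    · rw [← mem_orth_span_iff hF hH, ← hS, ← hO]
      exact O.add_mem (hSO zu.1.2) (hUO zu.2.1.2)
    · rw [hnorm _ zu.1.2 _ zu.2.1.2]
      exact zu.2.2.1
    · intro hmem
      have h1 : (zu.2.1 : V) ∈ S := by
        have := S.sub_mem hmem zu.1.2
        simpa using this
      have h2 : (zu.2.1 : V) ∈ S ⊓ U := ⟨h1, zu.2.1.2⟩
      rw [hinf] at h2
      exact zu.2.2.2 (Subtype.ext ((Submodule.mem_bot F).mp h2))
    · rintro ⟨z, ⟨u, hu⟩⟩ ⟨z', ⟨u', hu'⟩⟩ h
      have h0 : (z : V) + (u : V) = (z' : V) + (u' : V) := congrArg Subtype.val h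
      have h1 : (z : V) - (z' : V) = (u' : V) - (u : V) := by
        rw [sub_eq_sub_iff_add_eq_add, h0, add_comm]
      have h2 : (z : V) - (z' : V) ∈ S ⊓ U :=
        ⟨S.sub_mem z.2 z'.2, h1 ▸ U.sub_mem u'.2 u.2⟩
      rw [hinf] at h2
      have h3 : (z : V) = (z' : V) := sub_eq_zero.mp ((Submodule.mem_bot F).mp h2)
      have h4 : (u : V) = (u' : V) := by
        rw [h3] at h0
        exact add_left_cancel h0
      have h5 : z = z' := Subtype.ext h3
      have h6 : u = u' := Subtype.ext h4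
      subst h5
      subst h6
      rfl
    · rintro ⟨x, hx1, hx2, hx3⟩
      have hxO : x ∈ O := by
        rw [hO, hS, mem_orth_span_iff hF hH]
        exact hx1
      rw [← hsup] at hxO
      obtain ⟨z, hz, u, hu, rfl⟩ := Submodule.mem_sup.mp hxO
      refine ⟨⟨⟨z, hz⟩, ⟨⟨u, hu⟩, ?_, ?_⟩⟩, rfl⟩
      · rw [← hnorm z hz u hu]
        exact hx2
      · intro h0
        have : u = 0 := congrArg Subtype.val h0
        rw [this, add_zero] at hx3
        exact hx3 hz
  rw [hbij, Nat.card_prod, natCard_submodule_aux S, hSd]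
  congr 1
  -- remove the zero vector
  have h1 : Nat.card {u : U // H (u : V) (u : V) = 0 ∧ u ≠ 0} =
      Nat.card {u : U // H (u : V) (u : V) = 0} - 1 := by
    have e1 : {u : U // H (u : V) (u : V) = 0 ∧ u ≠ 0} =
        ↥(({u : U | H (u : V) (u : V) = 0} : Set U) \ {0}) := by
      congr 1
    rw [e1, Nat.card_coe_set_eq, Set.ncard_sdiff_singleton_of_mem, ← Nat.card_coe_set_eq]
    · rfl
    · show H ((0 : U) : V) ((0 : U) : V) = 0
      exact hH.zero_left _
  rw [h1, card_isotropic_of_nonDeg hF hH U hUnd _ hUd]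

theorem sigma_subtype_ext_aux {α : Type*} {β : Type*} {P : α → Prop} {Q : α → β → Prop} (a a' : α)
    (ha : P a) (ha' : P a') (x x' : β) (hx : Q a x) (hx' : Q a' x') (h1 : a = a') (h2 : x = x') :
    (⟨⟨a, ha⟩, ⟨x, hx⟩⟩ : Σ s : {a // P a}, {x // Q s.1 x}) = ⟨⟨a', ha'⟩, ⟨x', hx'⟩⟩ := by
  subst h1
  subst h2
  rfl

/-- the number of totally isotropic frames of length `k` -/
theorem card_tiFrames (hF : Fintype.card F = q ^ 2) (hH : IsHerm q H) (hV : NonDeg H ⊤) :
    ∀ k : ℕ, Nat.card {s : Fin k → V // IsTIFrameH H s} =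
      ∏ j ∈ Finset.range k, (Fintype.card F ^ j *
        (Cfsg.Agent.Lib.Helper99.hcnt F q (finrank F V - 2 * j) 0 - 1)) := by
  classical
  haveI : Finite V := Module.finite_of_finite F
  intro k
  induction k with
  | zero =>
    rw [Finset.prod_range_zero]
    haveI : Unique {s : Fin 0 → V // IsTIFrameH H s} :=
      { default := ⟨fun a => a.elim0, linearIndependent_empty_type, fun a => a.elim0⟩
        uniq := fun s => Subtype.ext (funext fun a => a.elim0) }
    exact Nat.card_unique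
  | succ k ih =>
    let e : {s : Fin (k + 1) → V // IsTIFrameH H s} ≃
        Σ s : {s : Fin k → V // IsTIFrameH H s},
          {x : V // (∀ a, H (s.1 a) x = 0) ∧ H x x = 0 ∧
            x ∉ Submodule.span F (Set.range s.1)} :=
      { toFun := fun s => ⟨⟨Fin.tail s.1,
            ((isTIFrameH_cons_iff hF hH (Fin.tail s.1) (s.1 0)).mp
              (by rw [Fin.cons_self_tail]; exact s.2)).1⟩,
          ⟨s.1 0, ((isTIFrameH_cons_iff hF hH (Fin.tail s.1) (s.1 0)).mp
              (by rw [Fin.cons_self_tail]; exact s.2)).2⟩⟩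
        invFun := fun s => ⟨Fin.cons s.2.1 s.1.1,
          (isTIFrameH_cons_iff hF hH s.1.1 s.2.1).mpr ⟨s.1.2, s.2.2⟩⟩
        left_inv := fun s => by simp only [Fin.cons_self_tail, Subtype.coe_eta]
        right_inv := fun ⟨⟨s, hs⟩, ⟨x, hx⟩⟩ =>
          sigma_subtype_ext_aux (Q := fun (s : Fin k → V) (x : V) =>
            (∀ a, H (s a) x = 0) ∧ H x x = 0 ∧ x ∉ Submodule.span F (Set.range s)) _ _ _ _ _ _ _ _
            (show Fin.tail (Fin.cons x s : Fin (k + 1) → V) = s from Fin.tail_cons _ _)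
            (show (Fin.cons x s : Fin (k + 1) → V) 0 = x from Fin.cons_zero _ _) }
    rw [Nat.card_congr e]
    haveI : Fintype {s : Fin k → V // IsTIFrameH H s} := Fintype.ofFinite _
    rw [Nat.card_sigma]
    rw [Finset.sum_congr rfl (fun s _ => card_fiber hF hH hV s.1 s.2), Finset.sum_const,
      Finset.card_univ, ← Nat.card_eq_fintype_card, ih, Finset.prod_range_succ, smul_eq_mul]

theorem card_tiFrames_eq_mul (hF : Fintype.card F = q ^ 2) (hH : IsHerm q H) (m : ℕ) :
    Nat.card {s : Fin m → V // IsTIFrameH H s} =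
      Nat.card {W : Submodule F V // finrank F W = m ∧ ∀ u ∈ W, ∀ v ∈ W, H u v = 0} *
        ∏ j ∈ Finset.range m, (Fintype.card F ^ m - Fintype.card F ^ j) := by
  classical
  haveI : Finite V := Module.finite_of_finite F
  let fmap : {s : Fin m → V // IsTIFrameH H s} →
      {W : Submodule F V // finrank F W = m ∧ ∀ u ∈ W, ∀ v ∈ W, H u v = 0} :=
    fun s => ⟨Submodule.span F (Set.range s.1),
      by rw [finrank_span_eq_card s.2.1, Fintype.card_fin], ort_span hF hH s.1 s.2.2⟩
  rw [← Nat.card_congr (Equiv.sigmaFiberEquiv fmap)]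
  haveI : Fintype {W : Submodule F V // finrank F W = m ∧ ∀ u ∈ W, ∀ v ∈ W, H u v = 0} :=
    Fintype.ofFinite _
  rw [Nat.card_sigma]
  have hfib : ∀ W : {W : Submodule F V // finrank F W = m ∧ ∀ u ∈ W, ∀ v ∈ W, H u v = 0},
      Nat.card {s : {s : Fin m → V // IsTIFrameH H s} // fmap s = W} =
        ∏ j ∈ Finset.range m, (Fintype.card F ^ m - Fintype.card F ^ j) := by
    intro W
    let e : {s : {s : Fin m → V // IsTIFrameH H s} // fmap s = W} ≃
        {t : Fin m → W.1 // LinearIndependent F t} :=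
      { toFun := fun s => ⟨fun a => ⟨s.1.1 a, by
            have h1 : Submodule.span F (Set.range s.1.1) = W.1 := congrArg Subtype.val s.2
            rw [← h1]
            exact Submodule.subset_span ⟨a, rfl⟩⟩, by
            apply LinearIndependent.of_comp W.1.subtype
            exact s.1.2.1⟩
        invFun := fun t => ⟨⟨fun a => (t.1 a : V),
            t.2.map' W.1.subtype (Submodule.ker_subtype W.1),
            fun a b => W.2.2 _ (t.1 a).2 _ (t.1 b).2⟩, by
            apply Subtype.ext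
            show Submodule.span F (Set.range fun a => (t.1 a : V)) = W.1
            have h1 : (Set.range fun a => (t.1 a : V)) = W.1.subtype '' Set.range t.1 := by
              rw [← Set.range_comp]
              rfl
            rw [h1, Submodule.span_image,
              LinearIndependent.span_eq_top_of_card_eq_finrank' t.2
                (by rw [Fintype.card_fin, W.2.1]),
              Submodule.map_subtype_top]⟩
        left_inv := fun s => by
          apply Subtype.ext
          apply Subtype.ext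
          rfl
        right_inv := fun t => by
          apply Subtype.ext
          funext a
          rfl }
    rw [Nat.card_congr e, card_linearIndependent (by rw [W.2.1]), W.2.1,
      Fin.prod_univ_eq_prod_range (fun j => Fintype.card F ^ m - Fintype.card F ^ j) m]
  rw [Finset.sum_congr rfl (fun W _ => hfib W), Finset.sum_const, Finset.card_univ,
    ← Nat.card_eq_fintype_card, smul_eq_mul]

/-! ### arithmetic -/

/-- the number of nonzero isotropic vectors of the `d`-dimensional hermitian space, `d ≥ 1` -/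
theorem hcnt_sub_one (hF : Fintype.card F = q ^ 2) (d : ℕ) (hd : 1 ≤ d) :
    1 ≤ Cfsg.Agent.Lib.Helper99.hcnt F q d 0 ∧
    ((Cfsg.Agent.Lib.Helper99.hcnt F q d 0 - 1 : ℕ) : ℤ) =
      ((q : ℤ) ^ d - (-1) ^ d) * ((q : ℤ) ^ (d - 1) - (-1) ^ (d - 1)) := by
  have hq2 : 2 ≤ q := Cfsg.Agent.Lib.Helper99.herm_q_ge_two hF
  have h1 := (Cfsg.Agent.Lib.Helper99.hcnt_eq hF d).1
  obtain ⟨h2, h3⟩ := Cfsg.Agent.Lib.Helper99.hAZ_closed hq2 d
  have hpos : 1 ≤ Cfsg.Agent.Lib.Helper99.hcnt F q d 0 := by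
    unfold Cfsg.Agent.Lib.Helper99.hcnt
    haveI : Nonempty {v : Fin d → F // Cfsg.hermForm d F q v v = 0} :=
      ⟨⟨0, by simp [Cfsg.hermForm, zero_pow (by omega : q ≠ 0)]⟩⟩
    exact Nat.card_pos
  refine ⟨hpos, ?_⟩
  rw [Nat.cast_sub hpos, h1, h3, Nat.cast_one]
  obtain ⟨e, rfl⟩ : ∃ e, d = e + 1 := ⟨d - 1, by omega⟩
  rw [Nat.add_sub_cancel]
  obtain ⟨A, hA⟩ : ∃ A : ℤ, A = ((Cfsg.Agent.Lib.Helper99.hAZ q (e + 1)).1 : ℤ) := ⟨_, rfl⟩
  rw [← hA] at h2 ⊢
  obtain ⟨x, hx⟩ : ∃ x : ℤ, x = (q : ℤ) ^ e := ⟨_, rfl⟩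
  obtain ⟨ε, hε⟩ : ∃ ε : ℤ, ε = (-1) ^ e := ⟨_, rfl⟩
  have hεε : ε * ε = 1 := by
    rw [hε, ← mul_pow]; norm_num
  have hqne : (q : ℤ) ≠ 0 := by
    have : (0 : ℤ) < q := by exact_mod_cast (by omega : 0 < q)
    exact this.ne'
  have e1 : (q : ℤ) ^ (e + 1) = q * x := by rw [hx, pow_succ]; ring
  have e2 : (-1 : ℤ) ^ (e + 1) = -ε := by rw [hε, pow_succ]; ring
  have e3 : (q : ℤ) ^ (2 * (e + 1)) = (q * x) * (q * x) := by
    rw [← e1, ← pow_two, ← pow_mul]; ring_nf
  rw [e1, e2] at h2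
  rw [e1, e2, e3, ← hx, ← hε]
  have hA' : A = x * (q * x + ε) := by
    apply mul_left_cancel₀ hqne
    rw [h2]; ring
  rw [hA']
  linear_combination hεε

theorem char_dvd_q (hF : Fintype.card F = q ^ 2) (p : ℕ) [Fact p.Prime] [CharP F p] : p ∣ q := by
  have hp : p.Prime := Fact.out
  obtain ⟨n, _, hn⟩ := FiniteField.card F p
  have h1 : p ∣ q ^ 2 := by
    rw [← hF, hn]
    exact dvd_pow_self p n.ne_zero
  exact hp.dvd_of_dvd_pow h1

theorem eq_char_of_dvd_q (hF : Fintype.card F = q ^ 2) (p : ℕ) [Fact p.Prime] [CharP F p] (r : ℕ)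
    (hr : r.Prime) (hrq : r ∣ q) : r = p := by
  have hp : p.Prime := Fact.out
  obtain ⟨n, _, hn⟩ := FiniteField.card F p
  have h1 : r ∣ p ^ (n : ℕ) := by
    rw [← hn, hF]
    exact dvd_pow hrq (by norm_num)
  exact (Nat.prime_dvd_prime_iff_eq hr hp).mp (hr.dvd_of_dvd_pow h1)

/-- `p ∣ q` does not divide `q ^ e ± 1` -/
theorem not_dvd_pow_sub_sign (p : ℕ) (hp : p.Prime) (hpq : p ∣ q) (e : ℕ) (he : 1 ≤ e) :
    ¬ (p : ℤ) ∣ (q : ℤ) ^ e - (-1) ^ e := by
  intro h
  have h1 : (p : ℤ) ∣ (q : ℤ) ^ e := by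
    have : (p : ℤ) ∣ (q : ℤ) := by exact_mod_cast hpq
    exact dvd_pow this (by omega)
  have h2 : (p : ℤ) ∣ (-1) ^ e := by
    have := dvd_sub h1 h
    simpa using this
  have h3 : (p : ℤ) ∣ 1 := by
    rcases neg_one_pow_eq_or ℤ e with h4 | h4
    · rwa [h4] at h2
    · rw [h4] at h2
      exact (dvd_neg.mp h2)
  have h4 : p ∣ 1 := by exact_mod_cast h3
  exact hp.one_lt.ne' (Nat.dvd_one.mp h4)

end abstract_

section count

variable {F : Type u} [Field F] [Fintype F] {p : ℕ} [Fact p.Prime] [CharP F p] {q : ℕ}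

/-- the counting identity for the standard hermitian space -/
theorem card_ti_identity (hq : Fintype.card F = q ^ 2) (n m : ℕ) :
    Nat.card (TISub F n m q) * ∏ j ∈ Finset.range m, (Fintype.card F ^ m - Fintype.card F ^ j) =
      ∏ j ∈ Finset.range m, (Fintype.card F ^ j *
        (Cfsg.Agent.Lib.Helper99.hcnt F q (n - 2 * j) 0 - 1)) := by
  have hH := isHerm_hermForm (F := F) hq n
  have hV := nonDeg_hermForm (F := F) hq n
  have h1 := card_tiFrames_eq_mul hq hH m
  have h2 := card_tiFrames hq hH hV m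
  rw [Module.finrank_fin_fun] at h2
  rw [← h2, h1]

theorem card_ti_identity' (hq : Fintype.card F = q ^ 2) (n m : ℕ) :
    Nat.card (TISub F n m q) * ∏ j ∈ Finset.range m, (Fintype.card F ^ (m - j) - 1) =
      ∏ j ∈ Finset.range m, (Cfsg.Agent.Lib.Helper99.hcnt F q (n - 2 * j) 0 - 1) := by
  have hQ : 1 ≤ Fintype.card F := Fintype.card_pos
  have h := card_ti_identity hq n m
  rw [Cfsg.Agent.Lib.Helper98.Ti.prod_split2 _ m hQ, Finset.prod_mul_distrib] at h
  have hpos : 0 < ∏ j ∈ Finset.range m, Fintype.card F ^ j :=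
    Finset.prod_pos (fun j _ => pow_pos hQ j)
  apply Nat.eq_of_mul_eq_mul_left hpos
  rw [← h]
  ring

/-- **K-UTi-C (595313)**, first part -/
theorem not_char_dvd_card_ti (hq : Fintype.card F = q ^ 2) (n m : ℕ) (hm : 1 ≤ m)
    (hmn : 2 * m ≤ n) : ¬ p ∣ Nat.card (TISub F n m q) := by
  have hp : p.Prime := Fact.out
  intro h
  have h1 := card_ti_identity' hq n m
  have h2 : p ∣ ∏ j ∈ Finset.range m, (Cfsg.Agent.Lib.Helper99.hcnt F q (n - 2 * j) 0 - 1) := by
    rw [← h1]
    exact dvd_mul_of_dvd_left h _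
  obtain ⟨j, hj, hdvd⟩ := (Prime.dvd_finsetProd_iff hp.prime _).mp h2
  have hj' : j < m := Finset.mem_range.mp hj
  have hd : 2 ≤ n - 2 * j := by omega
  obtain ⟨_, h3⟩ := hcnt_sub_one hq (n - 2 * j) (by omega)
  have h4 : (p : ℤ) ∣ ((Cfsg.Agent.Lib.Helper99.hcnt F q (n - 2 * j) 0 - 1 : ℕ) : ℤ) := by
    exact_mod_cast hdvd
  rw [h3] at h4
  have hpq := char_dvd_q hq p
  rcases (Nat.prime_iff_prime_int.mp hp).dvd_or_dvd h4 with h5 | h5
  · exact not_dvd_pow_sub_sign p hp hpq _ (by omega) h5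
  · exact not_dvd_pow_sub_sign p hp hpq _ (by omega) h5

/-- **K-UTi-C (595313)**, second part -/
theorem exists_of_dvd_card_ti (hq : Fintype.card F = q ^ 2) (n m : ℕ) (hm : 1 ≤ m)
    (hmn : 2 * m ≤ n) (r : ℕ) [Fact r.Prime] (hrp : r ≠ p)
    (hdvd : r ∣ Nat.card (TISub F n m q)) :
    ∃ j, j < 2 * m ∧ (r : ℤ) ∣ (q : ℤ) ^ (n - j) - (-1) ^ (n - j) := by
  have hr : r.Prime := Fact.out
  have h1 := card_ti_identity' hq n m
  have h2 : r ∣ ∏ j ∈ Finset.range m, (Cfsg.Agent.Lib.Helper99.hcnt F q (n - 2 * j) 0 - 1) := by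
    rw [← h1]
    exact dvd_mul_of_dvd_left hdvd _
  obtain ⟨j, hj, hd⟩ := (Prime.dvd_finsetProd_iff hr.prime _).mp h2
  have hj' : j < m := Finset.mem_range.mp hj
  obtain ⟨_, h3⟩ := hcnt_sub_one hq (n - 2 * j) (by omega)
  have h4 : (r : ℤ) ∣ ((Cfsg.Agent.Lib.Helper99.hcnt F q (n - 2 * j) 0 - 1 : ℕ) : ℤ) := by
    exact_mod_cast hd
  rw [h3] at h4
  rcases (Nat.prime_iff_prime_int.mp hr).dvd_or_dvd h4 with h5 | h5
  · exact ⟨2 * j, by omega, h5⟩
  · refine ⟨2 * j + 1, by omega, ?_⟩
    have e : n - (2 * j + 1) = n - 2 * j - 1 := by omega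
    rw [e]
    exact h5

end count

end Cfsg.Agent.Lib.Helper18.UTi
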