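import Mathlib
import Cfsg.Agent.Lib.Helper53.YoDefs
import Cfsg.Agent.Lib.Helper14.Yoshida

/-!
# K-S5225-A: a bad Hall–Wielandt configuration in a `p`-group gives a surjection onto a Sylow
`p`-subgroup of `Sym(p²)` (adapted from the end of `Helper14.Yoshida`).
-/

set_option autoImplicit false

namespace Cfsg.Agent.Lib.Helper18.Yo
open Cfsg.Agent.Lib.Helper53.Yo

theorem exists_surjective_of_bad {T : Type*} [Group T] [Finite T] {p : ℕ} [Fact p.Prime] (hT : IsPGroup p T)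
    (h : Bad p T) :
    ∃ (P : Sylow p (Equiv.Perm (Fin (p ^ 2)))) (f : T →* ↥(P : Subgroup (Equiv.Perm (Fin (p ^ 2))))),
      Function.Surjective f := by
  classical
  have hp : p.Prime := Fact.out
  obtain ⟨x, z, U₀, hU₀n, hU₀i, hzU₀, hxU₀, hc⟩ := h
  haveI : U₀.Normal := hU₀n
  -- the iterated commutator as an element of `U₀`
  have hcU₀ := Cfsg.Agent.Lib.Helper14.iterate_comm_mem U₀ z hxU₀ (p - 1)
  have hcΦ : (⟨_, hcU₀⟩ : ↥U₀) ∉ frattini ↥U₀ := by
    intro hmem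
    apply hc
    exact ⟨⟨_, hcU₀⟩, hmem, rfl⟩
  have hex : ∃ M : Subgroup ↥U₀, IsCoatom M ∧ (⟨_, hcU₀⟩ : ↥U₀) ∉ M := by
    by_contra hno
    apply hcΦ
    rw [Cfsg.Agent.Lib.Helper03.mem_frattini_iff]
    intro M hM
    by_contra hcM
    exact hno ⟨M, hM, hcM⟩
  obtain ⟨M, hM, hcM⟩ := hex
  have hU₀p : IsPGroup p ↥U₀ := hT.to_subgroup U₀
  haveI hMn : M.Normal := Cfsg.Agent.Lib.Helper03.normal_of_isCoatom_of_isPGroup hU₀p hM
  have hMi : M.index = p := Cfsg.Agent.Lib.Helper03.index_of_isCoatom_of_isPGroup hU₀p hM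
  have hcard1 : Nat.card (↥U₀ ⧸ M) = p := (Subgroup.index_eq_card M).symm.trans hMi
  have hcard2 : Nat.card (Multiplicative (ZMod p)) = p := by
    rw [Nat.card_eq_fintype_card]
    exact (Fintype.card_multiplicative _).trans (ZMod.card p)
  let e : ↥U₀ ⧸ M ≃* Multiplicative (ZMod p) := mulEquivOfPrimeCardEq hcard1 hcard2
  let ν : ↥U₀ →* Multiplicative (ZMod p) := e.toMonoidHom.comp (QuotientGroup.mk' M)
  have hνc : ν ⟨_, hcU₀⟩ ≠ 1 := by
    intro h1
    have h2 : e (QuotientGroup.mk (⟨_, hcU₀⟩ : ↥U₀)) = 1 := h1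
    rw [MulEquiv.map_eq_one_iff, QuotientGroup.eq_one_iff] at h2
    exact hcM h2
  have hνker : ν.ker = M := by
    ext y
    rw [MonoidHom.mem_ker]
    show e (QuotientGroup.mk y) = 1 ↔ _
    rw [MulEquiv.map_eq_one_iff, QuotientGroup.eq_one_iff]
  have hcore := Cfsg.Agent.Lib.Helper14.pow_dvd_index_normalCore U₀ hU₀i hcard2 ν z hxU₀ hνc
  have hKidx : (ν.ker.map U₀.subtype).index = p ^ 2 := by
    rw [Subgroup.index_map_subtype, hνker, hMi, hU₀i, pow_two]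
  exact Cfsg.Agent.Lib.Helper14.exists_surjective_sylow_perm hT _ hKidx hcore

end Cfsg.Agent.Lib.Helper18.Yo
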